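import Cfsg.Agent.Lib.Basic
import Cfsg.Agent.Lib.Involutions
import Cfsg.Agent.S0199
import Mathlib.GroupTheory.Sylow
import Mathlib.Tactic.Group

/-!
Groups in which the centraliser of every involution is a 2-group: elements of odd order act without fixed
points on 2-subgroups, lifting of involutions, and the bound on centralisers of involutions in 2-subgroups.
-/

set_option autoImplicit false
set_option linter.unusedSectionVars false

namespace CfsgLib.CIT

open Subgroup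
open scoped Pointwise
open CfsgLib.Involutions (mul_self_eq_one_of_orderOf inv_eq_self_of_orderOf orderOf_conj orderOf_eq_two_iff')

universe u v

/-- The centraliser of every involution is a 2-group. -/
def IsCIT (G : Type u) [Group G] : Prop :=
  ∀ t : G, orderOf t = 2 → IsPGroup 2 (Subgroup.centralizer ({t} : Set G))

variable {G : Type u} [Group G] [Finite G]

theorem eq_one_of_odd_pow_two {x : G} (hx : Odd (orderOf x)) {k : ℕ} (h : x ^ 2 ^ k = 1) : x = 1 := by
  rw [← orderOf_eq_one_iff]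
  obtain ⟨j, -, hj⟩ := (Nat.dvd_prime_pow Nat.prime_two).mp (orderOf_dvd_of_pow_eq_one h)
  rcases Nat.eq_zero_or_pos j with h0 | h0
  · rw [hj, h0, pow_zero]
  · rw [hj] at hx
    exact absurd hx (Nat.not_odd_iff_even.mpr (Nat.even_pow.mpr ⟨even_two, h0.ne'⟩))

theorem eq_one_of_mem_two_group {D : Subgroup G} (hD : IsPGroup 2 D) {x : G} (hx : x ∈ D) (ho : Odd (orderOf x)) :
    x = 1 := by
  obtain ⟨k, hk⟩ := hD ⟨x, hx⟩
  exact eq_one_of_odd_pow_two ho (congrArg Subtype.val hk)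

theorem exists_orderOf_two_mem {D : Subgroup G} (hD : IsPGroup 2 D) (h : D ≠ ⊥) : ∃ t ∈ D, orderOf t = 2 := by
  obtain ⟨k, hk⟩ := IsPGroup.iff_card.mp hD
  have h1 : (2 : ℕ) ∣ Nat.card D := by
    rw [hk]
    refine dvd_pow_self 2 fun h0 => h (Subgroup.card_eq_one.mp ?_)
    rw [hk, h0, pow_zero]
  obtain ⟨⟨t, ht⟩, hto⟩ := exists_prime_orderOf_dvd_card' (G := D) 2 h1
  exact ⟨t, ht, by rwa [Subgroup.orderOf_mk] at hto⟩

/-- A non-trivial 2-element has a power which is an involution. -/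
theorem exists_pow_orderOf_two {s : G} (hs : s ≠ 1) {k : ℕ} (h : s ^ 2 ^ k = 1) :
    ∃ m : ℕ, orderOf (s ^ m) = 2 := by
  obtain ⟨j, -, hj⟩ := (Nat.dvd_prime_pow Nat.prime_two).mp (orderOf_dvd_of_pow_eq_one h)
  have hj0 : j ≠ 0 := fun e => hs (orderOf_eq_one_iff.mp (by rw [hj, e, pow_zero]))
  refine ⟨orderOf s / 2, orderOf_pow_orderOf_div (orderOf_pos s).ne' ?_⟩
  rw [hj]
  exact dvd_pow_self 2 hj0

theorem conj_pow' (x d : G) (n : ℕ) : x * d ^ n * x⁻¹ = (x * d * x⁻¹) ^ n := (conj_pow).symm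

namespace IsCIT

theorem subgroup (h : IsCIT G) (X : Subgroup G) : IsCIT X := by
  intro t ht
  have ho : orderOf (t : G) = 2 := by rw [Subgroup.orderOf_coe]; exact ht
  rintro ⟨y, hy⟩
  obtain ⟨k, hk⟩ := h (t : G) ho ⟨(y : G), mem_centralizer_singleton_iff.mpr
    (congrArg Subtype.val (mem_centralizer_singleton_iff.mp hy))⟩
  refine ⟨k, Subtype.ext (Subtype.ext ?_)⟩
  have := congrArg Subtype.val hk
  simpa using this

theorem of_equiv {H : Type v} [Group H] (h : IsCIT G) (e : G ≃* H) : IsCIT H := by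
  intro t ht
  have ho : orderOf (e.symm t) = 2 := by rw [MulEquiv.orderOf_eq]; exact ht
  rintro ⟨y, hy⟩
  obtain ⟨k, hk⟩ := h (e.symm t) ho ⟨e.symm y, mem_centralizer_singleton_iff.mpr (by
    rw [← map_mul, ← map_mul, mem_centralizer_singleton_iff.mp hy])⟩
  refine ⟨k, Subtype.ext (e.symm.injective ?_)⟩
  have h1 : (e.symm y) ^ 2 ^ k = 1 := congrArg Subtype.val hk
  simpa [map_pow] using h1

/-- An element of odd order commuting with a non-trivial 2-element is trivial. -/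
theorem fpf (h : IsCIT G) {x s : G} (hx : Odd (orderOf x)) {k : ℕ} (hs : s ^ 2 ^ k = 1) (hs1 : s ≠ 1)
    (hc : x * s = s * x) : x = 1 := by
  obtain ⟨m, hm⟩ := exists_pow_orderOf_two hs1 hs
  refine eq_one_of_mem_two_group (h _ hm) (mem_centralizer_singleton_iff.mpr ?_) hx
  exact (Commute.pow_right hc m).eq

theorem fpf_mem (h : IsCIT G) {D : Subgroup G} (hD : IsPGroup 2 D) {x s : G} (hx : Odd (orderOf x))
    (hx1 : x ≠ 1) (hs : s ∈ D) (hc : x * s = s * x) : s = 1 := by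
  by_contra hs1
  obtain ⟨k, hk⟩ := hD ⟨s, hs⟩
  exact hx1 (h.fpf hx (congrArg Subtype.val hk) hs1 hc)

/-- The centraliser of a non-trivial element of a 2-subgroup is a 2-group. -/
theorem centralizer_two (h : IsCIT G) {s : G} (hs1 : s ≠ 1) {k : ℕ} (hs : s ^ 2 ^ k = 1) :
    IsPGroup 2 (centralizer ({s} : Set G)) := by
  obtain ⟨m, hm⟩ := exists_pow_orderOf_two hs1 hs
  refine (h _ hm).to_le fun y hy => mem_centralizer_singleton_iff.mpr ?_
  exact (Commute.pow_right (mem_centralizer_singleton_iff.mp hy) m).eq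

theorem centralizer_subgroup_two (h : IsCIT G) {D : Subgroup G} (hD : IsPGroup 2 D) (hD1 : D ≠ ⊥) :
    IsPGroup 2 (centralizer (D : Set G)) := by
  obtain ⟨t, ht, hto⟩ := exists_orderOf_two_mem hD hD1
  exact (h t hto).to_le fun y hy => mem_centralizer_singleton_iff.mpr (mem_centralizer_iff.mp hy t ht).symm

end IsCIT

/-- If `t` normalises a 2-group `D` and the element `x` of odd prime order modulo it, some element of the coset
`D t` normalises `⟨x⟩`. -/
theorem exists_normalizing {D : Subgroup G} (hD : IsPGroup 2 D) {p : ℕ} (hp : p.Prime) (hp2 : p ≠ 2)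
    {x t : G} (hx : orderOf x = p) (hxD : x ∈ normalizer (D : Set G)) (j : ℤ)
    (htx : t * x * t⁻¹ * (x ^ j)⁻¹ ∈ D) (htD : t ∈ normalizer (D : Set G)) :
    ∃ d ∈ D, (d * t) * x * (d * t)⁻¹ = x ^ j := by
  classical
  haveI : Fact p.Prime := ⟨hp⟩
  set X := zpowers x with hX
  set K := D ⊔ X with hK
  have hXN : X ≤ normalizer (D : Set G) := zpowers_le.mpr hxD
  have hDK : D ≤ K := le_sup_left
  have hXK : X ≤ K := le_sup_right
  have hKN : K ≤ normalizer (D : Set G) := sup_le le_normalizer hXN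
  obtain ⟨a, ha⟩ := IsPGroup.iff_card.mp hD
  have hcop : (2 ^ a).Coprime p :=
    Nat.Coprime.pow_left _ ((Nat.coprime_primes Nat.prime_two hp).mpr (Ne.symm hp2))
  have hXc : Nat.card X = p := by rw [hX, Nat.card_zpowers, hx]
  have hmul : ∀ y ∈ K, ∃ d ∈ D, ∃ z ∈ X, y = d * z := by
    intro y hy
    have h1 : (y : G) ∈ ((D : Set G) * (X : Set G)) := by
      rw [← Subgroup.coe_mul_of_right_le_normalizer_left D X hXN]
      exact hy
    obtain ⟨d, hd, z, hz, e⟩ := h1
    exact ⟨d, hd, z, hz, e.symm⟩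
  have hdis : ∀ y ∈ D, y ∈ X → y = 1 := by
    intro y hy hy'
    refine orderOf_eq_one_iff.mp (Nat.dvd_one.mp ?_)
    rw [← hcop.gcd_eq_one]
    exact Nat.dvd_gcd (ha ▸ orderOf_dvd_natCard _ hy) (hXc ▸ orderOf_dvd_natCard _ hy')
  have hcard : Nat.card K = 2 ^ a * p := by
    rw [← ha, ← hXc, ← Nat.card_prod]
    refine (Nat.card_eq_of_bijective (fun q : D × X => (⟨(q.1 : G) * q.2, mul_mem (hDK q.1.2) (hXK q.2.2)⟩ : K))
      ⟨fun q q' e => ?_, fun y => ?_⟩).symm
    · have e' : (q.1 : G) * q.2 = q'.1 * q'.2 := congrArg Subtype.val e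
      have h1 : (q'.1 : G)⁻¹ * q.1 = q'.2 * (q.2 : G)⁻¹ := by
        rw [eq_mul_inv_iff_mul_eq, mul_assoc, e', inv_mul_cancel_left]
      have h2 := hdis _ (mul_mem (inv_mem q'.1.2) q.1.2) (h1 ▸ mul_mem q'.2.2 (inv_mem q.2.2))
      refine Prod.ext (Subtype.ext (inv_mul_eq_one.mp h2).symm) (Subtype.ext ?_)
      rw [h2] at h1
      exact (mul_inv_eq_one.mp h1.symm).symm
    · obtain ⟨d, hd, z, hz, e⟩ := hmul y y.2
      exact ⟨(⟨d, hd⟩, ⟨z, hz⟩), Subtype.ext e.symm⟩
  set x' := t * x * t⁻¹ with hx'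
  have hx'K : x' ∈ K := by
    have := mul_mem (hDK htx) (hXK (zpow_mem (mem_zpowers x) j))
    rwa [inv_mul_cancel_right] at this
  have hx'o : orderOf x' = p := by rw [hx', orderOf_conj, hx]
  have hsyl : ∀ y : G, ∀ hy : zpowers y ≤ K, orderOf y = p →
      ∃ P : Sylow p K, (P : Subgroup K) = (zpowers y).subgroupOf K := by
    intro y hy hyo
    have hc : Nat.card ((zpowers y).subgroupOf K) = p ^ (Nat.card K).factorization p := by
      rw [Nat.card_congr (subgroupOfEquivOfLe hy).toEquiv, Nat.card_zpowers, hyo, hcard,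
        Nat.factorization_mul (by positivity) hp.ne_zero]
      have : (2 ^ a : ℕ).factorization p = 0 := Nat.factorization_eq_zero_of_not_dvd
        (fun h => by
          have := (hp.coprime_iff_not_dvd).mp hcop.symm
          exact this h)
      rw [Finsupp.add_apply, this, hp.factorization_self, zero_add, pow_one]
    exact ⟨Sylow.ofCard _ hc, Sylow.coe_ofCard _ hc⟩
  obtain ⟨P, hP⟩ := hsyl x (zpowers_le.mpr (hXK (mem_zpowers x))) hx
  obtain ⟨Q, hQ⟩ := hsyl x' (zpowers_le.mpr hx'K) hx'o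
  obtain ⟨g, hg⟩ := MulAction.exists_smul_eq K Q P
  obtain ⟨d, hd, z, hz, e⟩ := hmul g g.2
  have hmem : (g : G) * x' * (g : G)⁻¹ ∈ X := by
    have h1 : (MulAut.conj g) ⟨x', hx'K⟩ ∈ ((g • Q : Sylow p K) : Subgroup K) := by
      rw [Sylow.coe_subgroup_smul]
      exact Subgroup.smul_mem_pointwise_smul _ _ _ (hQ ▸ Subgroup.mem_subgroupOf.mpr (mem_zpowers x'))
    rw [hg, hP, Subgroup.mem_subgroupOf] at h1
    simpa using h1
  set d' := z⁻¹ * d * z with hd'
  have hd'D : d' ∈ D := by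
    have := (Subgroup.mem_normalizer_iff.mp (inv_mem (hXN hz)) d).mp hd
    rwa [inv_inv] at this
  refine ⟨d', hd'D, ?_⟩
  have hin : d' * x' * d'⁻¹ ∈ X := by
    have h1 := mul_mem (mul_mem (inv_mem hz) hmem) hz
    have hgz : (g : G) = z * d' := by rw [hd', e]; group
    rwa [hgz, show z⁻¹ * (z * d' * x' * (z * d')⁻¹) * z = d' * x' * d'⁻¹ by group] at h1
  have hD' : d' * x' * d'⁻¹ * (x ^ j)⁻¹ ∈ D := by
    have hb := hXN (zpow_mem (mem_zpowers x) j)
    have h2 := mul_mem (mul_mem hd'D htx) ((Subgroup.mem_normalizer_iff.mp hb d'⁻¹).mp (inv_mem hd'D))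
    rwa [show d' * (t * x * t⁻¹ * (x ^ j)⁻¹) * (x ^ j * d'⁻¹ * (x ^ j)⁻¹) = d' * x' * d'⁻¹ * (x ^ j)⁻¹ by
      rw [hx']; group] at h2
  have h3 := hdis _ hD' (mul_mem hin (inv_mem (zpow_mem (mem_zpowers x) j)))
  rw [← mul_inv_eq_one.mp h3, hx']
  group

theorem exists_prime_pow {x : G} (hx : Odd (orderOf x)) (hx1 : x ≠ 1) :
    ∃ (p m : ℕ), p.Prime ∧ p ≠ 2 ∧ orderOf (x ^ m) = p := by
  obtain ⟨p, hp, hpd⟩ := Nat.exists_prime_and_dvd (fun e => hx1 (orderOf_eq_one_iff.mp e))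
  exact ⟨p, orderOf x / p, hp, fun e => by subst e; exact (Nat.not_even_iff_odd.mpr hx) (even_iff_two_dvd.mpr hpd),
    orderOf_pow_orderOf_div (orderOf_pos x).ne' hpd⟩

namespace IsCIT

/-- An element of odd order centralising modulo a normalised 2-group `D` a 2-element outside `D` is trivial. -/
theorem fpf_mod (h : IsCIT G) {D : Subgroup G} (hD : IsPGroup 2 D) {x t : G} (hx : Odd (orderOf x))
    (hxD : x ∈ normalizer (D : Set G)) (htD : t ∈ normalizer (D : Set G)) (htn : t ∉ D)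
    {k : ℕ} (ht : t ^ 2 ^ k ∈ D) (hc : t * x * t⁻¹ * x⁻¹ ∈ D) : x = 1 := by
  by_contra hx1
  obtain ⟨p, m, hp, hp2, hm⟩ := exists_prime_pow hx hx1
  have hcm : t * x ^ m * t⁻¹ * (x ^ (m : ℕ))⁻¹ ∈ D := by
    clear hm
    induction m with
    | zero => simp
    | succ m ih =>
      have h1 := (Subgroup.mem_normalizer_iff.mp (pow_mem hxD m) _).mp hc
      have h2 := mul_mem ih h1
      rwa [show t * x ^ m * t⁻¹ * (x ^ m)⁻¹ * (x ^ m * (t * x * t⁻¹ * x⁻¹) * (x ^ m)⁻¹) =
        t * x ^ (m + 1) * t⁻¹ * (x ^ (m + 1))⁻¹ by rw [pow_succ]; group] at h2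
  obtain ⟨d, hd, e⟩ := exists_normalizing hD hp hp2 hm (pow_mem hxD m) 1 (by rwa [zpow_one]) htD
  rw [zpow_one] at e
  have hdt : d * t ∉ D := fun hh => htn (by simpa using mul_mem (inv_mem hd) hh)
  -- a power of `d t` lies in `D`
  have hpow : ∀ n : ℕ, (d * t) ^ n * (t ^ n)⁻¹ ∈ D := by
    intro n
    induction n with
    | zero => simp
    | succ n ih =>
      have h1 := (Subgroup.mem_normalizer_iff.mp htD _).mp ih
      have h2 := mul_mem hd h1
      rwa [show d * (t * ((d * t) ^ n * (t ^ n)⁻¹) * t⁻¹) = (d * t) ^ (n + 1) * (t ^ (n + 1))⁻¹ by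
        rw [pow_succ' (d * t), pow_succ' t]; group] at h2
  have hmem : (d * t) ^ 2 ^ k ∈ D := by simpa using mul_mem (hpow (2 ^ k)) ht
  obtain ⟨a, ha⟩ := hD ⟨_, hmem⟩
  have hord : (d * t) ^ 2 ^ (k + a) = 1 := by
    rw [pow_add, pow_mul]; exact congrArg Subtype.val ha
  refine absurd (h.fpf (x := x ^ m) (Nat.Coprime.odd_of_left ?_) hord (fun e' => hdt (e' ▸ one_mem D))
    (mul_inv_eq_iff_eq_mul.mp e).symm) (fun e' => hp.ne_one (by rw [← hm, e', orderOf_one]))
  rw [hm]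
  exact (Nat.coprime_primes Nat.prime_two hp).mpr (Ne.symm hp2)

/-- An involution modulo `D` inverting an element of odd prime order lifts to an involution inverting it. -/
theorem exists_lift (h : IsCIT G) {D : Subgroup G} (hD : IsPGroup 2 D) {p : ℕ} (hp : p.Prime) (hp2 : p ≠ 2)
    {x t : G} (hx : orderOf x = p) (hxD : x ∈ normalizer (D : Set G)) (htD : t ∈ normalizer (D : Set G))
    (htn : t ∉ D) (ht : t * t ∈ D) (hc : t * x * t⁻¹ * x ∈ D) :
    ∃ d ∈ D, orderOf (d * t) = 2 ∧ (d * t) * x * (d * t)⁻¹ = x⁻¹ := by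
  obtain ⟨d, hd, e⟩ := exists_normalizing hD hp hp2 hx hxD (-1) (by simpa using hc) htD
  rw [zpow_neg_one] at e
  refine ⟨d, hd, orderOf_eq_two_iff'.mpr ⟨?_, fun hh => htn (by
    rw [eq_inv_of_mul_eq_one_right hh]; exact inv_mem hd)⟩, e⟩
  set s := d * t with hs
  have hsD : s * s ∈ D := by
    have h1 := (Subgroup.mem_normalizer_iff.mp htD d).mp hd
    have h2 := mul_mem (mul_mem hd h1) ht
    rwa [show d * (t * d * t⁻¹) * (t * t) = s * s by rw [hs]; group] at h2
  refine h.fpf_mem hD (by rw [hx]; exact hp.odd_of_ne_two hp2) (fun e' => hp.ne_one (by rw [← hx, e', orderOf_one]))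
    hsD ?_
  have e2 : s * x⁻¹ * s⁻¹ = x := by
    have := congrArg (·⁻¹) e
    simpa [mul_assoc] using this
  calc x * (s * s) = s * x⁻¹ * s⁻¹ * (s * s) := by rw [e2]
    _ = s * x⁻¹ * s := by group
    _ = s * (s * x * s⁻¹) * s := by rw [e]
    _ = _ := by group

/-- An involution inverting an element of odd order has centraliser of order at most the square root in a normalised
2-subgroup. -/
theorem card_centralizer_sq_le (h : IsCIT G) {D : Subgroup G} (hD : IsPGroup 2 D) {x k : G}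
    (hx : orderOf x = 2) (hk : Odd (orderOf k)) (hk1 : k ≠ 1) (hkD : k ∈ normalizer (D : Set G))
    (hinv : x * k * x⁻¹ = k⁻¹) :
    Nat.card (centralizer ({x} : Set G) ⊓ D : Subgroup G) ^ 2 ≤ Nat.card D := by
  obtain ⟨r, hr⟩ := hk
  set C : Subgroup G := centralizer ({x} : Set G) ⊓ D with hC
  let f : C × C → D := fun q => ⟨(q.1 : G) * (k * q.2 * k⁻¹), mul_mem q.1.2.2
    ((Subgroup.mem_normalizer_iff.mp hkD _).mp q.2.2.2)⟩
  have hf : Function.Injective f := by
    rintro ⟨a, b⟩ ⟨a', b'⟩ e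
    have e' : (a : G) * (k * b * k⁻¹) = a' * (k * b' * k⁻¹) := congrArg Subtype.val e
    have h1 : (a' : G)⁻¹ * a = k * ((b' : G) * (b : G)⁻¹) * k⁻¹ := by
      calc (a' : G)⁻¹ * a = (a' : G)⁻¹ * ((a : G) * (k * b * k⁻¹)) * (k * (b : G)⁻¹ * k⁻¹) := by group
        _ = (a' : G)⁻¹ * (a' * (k * b' * k⁻¹)) * (k * (b : G)⁻¹ * k⁻¹) := by rw [e']
        _ = _ := by group
    have hu : ((a' : G)⁻¹ * a) ∈ C := mul_mem (inv_mem a'.2) a.2
    have hv : (b' : G) * (b : G)⁻¹ ∈ C := mul_mem b'.2 (inv_mem b.2)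
    set u := (a' : G)⁻¹ * a
    set v := (b' : G) * (b : G)⁻¹
    have hxu : x * u * x⁻¹ = u := by rw [(mem_centralizer_singleton_iff.mp hu.1).symm, mul_inv_cancel_right]
    have hxv : x * v * x⁻¹ = v := by rw [(mem_centralizer_singleton_iff.mp hv.1).symm, mul_inv_cancel_right]
    have h2 : u = k⁻¹ * v * k := by
      calc u = x * (k * v * k⁻¹) * x⁻¹ := by rw [← h1, hxu]
        _ = (x * k * x⁻¹) * (x * v * x⁻¹) * (x * k * x⁻¹)⁻¹ := by group
        _ = _ := by rw [hinv, hxv]; group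
    have h3 : (k * k) * v = v * (k * k) := by
      have h4 : k * v * k⁻¹ = k⁻¹ * v * k := h1.symm.trans h2
      calc (k * k) * v = k * (k * v * k⁻¹) * k := by group
        _ = k * (k⁻¹ * v * k) * k := by rw [h4]
        _ = _ := by group
    have hk2 : k * k ≠ 1 := fun e2 => hk1 (by
      calc k = k * ((k * k) ^ r) := by rw [e2, one_pow, mul_one]
        _ = k ^ (2 * r + 1) := by rw [← sq, ← pow_mul, pow_succ']
        _ = 1 := by rw [← hr, pow_orderOf_eq_one])
    have hv1 : v = 1 := h.fpf_mem hD (Odd.of_dvd_nat ⟨r, hr⟩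
      (by rw [← sq]; exact orderOf_pow_dvd 2)) hk2 hv.2 h3
    have hb : b = b' := Subtype.ext (mul_inv_eq_one.mp hv1).symm
    subst hb
    exact Prod.ext (Subtype.ext (mul_right_cancel e')) rfl
  have := Nat.card_le_card_of_injective f hf
  rwa [Nat.card_prod, ← sq] at this

/-- Every involution outside the 2-core inverts an element of odd prime order. -/
theorem exists_inverted {t : G} (ht : orderOf t = 2) (hn : t ∉ Cfsg.pCore 2 G) :
    ∃ (p : ℕ) (k : G), p.Prime ∧ p ≠ 2 ∧ orderOf k = p ∧ t * k * t⁻¹ = k⁻¹ := by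
  haveI : Fact (Nat.Prime 2) := ⟨Nat.prime_two⟩
  have htt := mul_self_eq_one_of_orderOf ht
  have hX : IsPGroup 2 ↥(zpowers t) := IsPGroup.of_card (n := 1) (by rw [Nat.card_zpowers, ht, pow_one])
  obtain ⟨g, hg⟩ : ∃ g : G, ¬ ∃ k, orderOf (t * (g * t * g⁻¹)) = 2 ^ k := by
    by_contra hh
    push Not at hh
    refine hn ?_
    obtain ⟨N, hN, hN2, hle⟩ := Cfsg.Agent.S0199.result (zpowers t) hX fun g => by
      set u := g * t * g⁻¹ with hu
      have huo : orderOf u = 2 := (orderOf_conj g t).trans ht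
      have huu := mul_self_eq_one_of_orderOf huo
      obtain ⟨k, hk⟩ := hh g
      have hC : IsPGroup 2 ↥(zpowers (t * u)) := IsPGroup.of_card (n := k) (by rw [Nat.card_zpowers, hk])
      have hnorm : zpowers t ≤ normalizer (zpowers (t * u) : Set G) := by
        rw [zpowers_le]
        refine Subgroup.mem_normalizer_iff.mpr fun y => ⟨fun hy => ?_, fun hy => ?_⟩
        · obtain ⟨i, rfl⟩ := mem_zpowers_iff.mp hy
          rw [← conj_zpow, CfsgLib.Involutions.conj_mul_eq_inv htt huu]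
          exact zpow_mem (inv_mem (mem_zpowers _)) i
        · obtain ⟨i, hi⟩ := mem_zpowers_iff.mp hy
          have : y = t⁻¹ * (t * u) ^ i * t⁻¹⁻¹ := by rw [hi]; group
          rw [this, inv_eq_self_of_orderOf ht, ← conj_zpow, CfsgLib.Involutions.conj_mul_eq_inv htt huu]
          exact zpow_mem (inv_mem (mem_zpowers _)) i
      refine (IsPGroup.to_sup_of_normal_right' hX hC hnorm).to_le (sup_le le_sup_left ?_)
      rw [MonoidHom.map_zpowers, zpowers_le]
      show u ∈ _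
      have h1 : t * (t * u) ∈ zpowers t ⊔ zpowers (t * u) :=
        mul_mem (mem_sup_left (mem_zpowers t)) (mem_sup_right (mem_zpowers _))
      rwa [← mul_assoc t t u, htt, one_mul] at h1
    haveI := hN
    exact CfsgLib.le_pCore hN2 (hle (mem_zpowers t))
  set u := g * t * g⁻¹ with hu
  have huu := mul_self_eq_one_of_orderOf ((orderOf_conj g t).trans ht)
  obtain ⟨p, hp, hp2, hpd⟩ : ∃ p, p.Prime ∧ p ≠ 2 ∧ p ∣ orderOf (t * u) := by
    by_contra hh
    push Not at hh
    exact hg ⟨_, Nat.eq_prime_pow_of_unique_prime_dvd (orderOf_pos _).ne'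
      fun {q} hq hqd => by_contra fun hq2 => hh q hq hq2 hqd⟩
  refine ⟨p, (t * u) ^ (orderOf (t * u) / p), hp, hp2, orderOf_pow_orderOf_div (orderOf_pos _).ne' hpd, ?_⟩
  rw [← conj_pow, CfsgLib.Involutions.conj_mul_eq_inv htt huu, inv_pow]

end IsCIT

end CfsgLib.CIT
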