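import Cfsg.Agent.Lib.CIT.Shape

/-!
In the simple groups studied here either the Sylow 2-subgroups are trivial intersection sets or there are two
elementary pieces of order `q ^ 2` in a 2-subgroup of order `q ^ 3`.
-/

set_option autoImplicit false
set_option linter.unusedSectionVars false
set_option linter.style.haveILetI false

namespace CfsgLib.CIT

open Subgroup Cfsg
open CfsgLib.Involutions (mul_self_eq_one_of_orderOf)

universe u

variable {G : Type u} [Group G]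

/-- Conjugate subgroup. -/
abbrev cj (g : G) (H : Subgroup G) : Subgroup G := H.map (MulAut.conj g).toMonoidHom

theorem mem_cj {g x : G} {H : Subgroup G} : x ∈ cj g H ↔ g⁻¹ * x * g ∈ H := by
  rw [Subgroup.mem_map_equiv, MulAut.conj_symm_apply]

theorem cj_cj (g h : G) (H : Subgroup G) : cj g (cj h H) = cj (g * h) H := by
  ext x
  simp only [mem_cj, mul_inv_rev, mul_assoc]

theorem cj_one (H : Subgroup G) : cj 1 H = H := by
  ext x
  simp [mem_cj]

theorem card_cj (g : G) (H : Subgroup G) : Nat.card (cj g H) = Nat.card H :=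
  Subgroup.card_map_of_injective (MulAut.conj g).injective

theorem cj_two (g : G) {H : Subgroup G} (h : IsPGroup 2 H) : IsPGroup 2 (cj g H) := h.map _

theorem cj_normalizer (g : G) (H : Subgroup G) :
    cj g (normalizer (H : Set G)) = normalizer ((cj g H : Subgroup G) : Set G) :=
  Subgroup.map_equiv_normalizer_eq H (MulAut.conj g)

theorem cj_le_cj {g : G} {H K : Subgroup G} (h : H ≤ K) : cj g H ≤ cj g K := Subgroup.map_mono h

theorem cj_eq_of_mem {g : G} {H : Subgroup G} (hg : g ∈ normalizer (H : Set G)) : cj g H = H := by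
  ext x
  rw [mem_cj]
  have := Subgroup.mem_normalizer_iff.mp hg (g⁻¹ * x * g)
  rwa [show g * (g⁻¹ * x * g) * g⁻¹ = x by group] at this

theorem mem_normalizer_of_cj {g : G} {H : Subgroup G} (h : cj g H = H) : g ∈ normalizer (H : Set G) := by
  refine Subgroup.mem_normalizer_iff.mpr fun x => ?_
  conv_rhs => rw [← h, mem_cj]
  rw [show g⁻¹ * (g * x * g⁻¹) * g = x by group]

/-- Normalisers grow in 2-groups. -/
theorem lt_inf_normalizer_two [Finite G] {P Q : Subgroup G} (hQ : IsPGroup 2 Q) (hlt : P < Q) :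
    P < Q ⊓ normalizer (P : Set G) := by
  haveI : Fact (Nat.Prime 2) := ⟨Nat.prime_two⟩
  haveI := hQ.isNilpotent
  have hne : P.subgroupOf Q < ⊤ := lt_top_iff_ne_top.2 fun e =>
    hlt.not_ge (Subgroup.subgroupOf_eq_top.1 e)
  have h1 := Group.normalizerCondition_of_isNilpotent (P.subgroupOf Q) hne
  refine lt_of_le_of_ne (le_inf hlt.le Subgroup.le_normalizer) fun e => h1.ne ?_
  refine le_antisymm Subgroup.le_normalizer fun k hk => ?_
  rw [Subgroup.mem_subgroupOf, e]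
  refine ⟨k.2, Subgroup.mem_normalizer_iff.2 fun w => ?_⟩
  constructor
  · intro hw
    exact (Subgroup.mem_normalizer_iff.1 hk ⟨w, hlt.le hw⟩).1 hw
  · intro hw
    have hwQ : w ∈ Q := by
      have := mul_mem (mul_mem (inv_mem k.2) (hlt.le hw)) k.2
      simpa [mul_assoc] using this
    exact (Subgroup.mem_normalizer_iff.1 hk ⟨w, hwQ⟩).2 hw

/-- A maximal 2-subgroup of `Y`. -/
structure IsSyl (T Y : Subgroup G) : Prop where
  two : IsPGroup 2 T
  le : T ≤ Y
  max : ∀ R : Subgroup G, IsPGroup 2 R → T ≤ R → R ≤ Y → R = T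

namespace IsSyl

variable {T Y : Subgroup G}

/-- The corresponding Sylow subgroup of `Y`. -/
def sylow (h : IsSyl T Y) : Sylow 2 Y where
  toSubgroup := T.subgroupOf Y
  isPGroup' := h.two.comap_subtype
  is_maximal' {R} hR hle := by
    have e := h.max (R.map Y.subtype) (hR.map _)
      (fun x hx => ⟨⟨x, h.le hx⟩, hle (Subgroup.mem_subgroupOf.mpr hx), rfl⟩) (Subgroup.map_subtype_le R)
    rw [← e]
    exact (Subgroup.comap_map_eq_self_of_injective Y.subtype_injective R).symm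

variable [Finite G]

theorem exists_cj (h : IsSyl T Y) {R : Subgroup G} (hR : IsPGroup 2 R) (hRY : R ≤ Y) : ∃ y ∈ Y, R ≤ cj y T := by
  haveI : Fact (Nat.Prime 2) := ⟨Nat.prime_two⟩
  obtain ⟨Q, hQ⟩ := (hR.comap_subtype (K := Y)).exists_le_sylow
  obtain ⟨y, rfl⟩ := MulAction.exists_smul_eq Y h.sylow Q
  refine ⟨y, y.2, fun x hx => mem_cj.mpr ?_⟩
  have h1 := hQ (show (⟨x, hRY hx⟩ : Y) ∈ R.comap Y.subtype from hx)
  rw [Sylow.coe_subgroup_smul, Subgroup.mem_pointwise_smul_iff_inv_smul_mem] at h1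
  have h2 : ((((MulAut.conj y)⁻¹ • (⟨x, hRY hx⟩ : Y)) : Y) : G) ∈ T := h1
  simpa [MulAut.smul_def] using h2

theorem le_of_normalizing (h : IsSyl T Y) (hn : Y ≤ normalizer (T : Set G)) {R : Subgroup G} (hR : IsPGroup 2 R)
    (hRY : R ≤ Y) : R ≤ T := by
  obtain ⟨y, hy, hle⟩ := h.exists_cj hR hRY
  rwa [cj_eq_of_mem (hn hy)] at hle

theorem cj (h : IsSyl T Y) (g : G) : IsSyl (cj g T) (cj g Y) where
  two := cj_two g h.two
  le := cj_le_cj h.le
  max R hR h1 h2 := by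
    have e := h.max (CIT.cj g⁻¹ R) (cj_two _ hR) (by
      have := cj_le_cj (g := g⁻¹) h1
      rwa [cj_cj, inv_mul_cancel, cj_one] at this) (by
      have := cj_le_cj (g := g⁻¹) h2
      rwa [cj_cj, inv_mul_cancel, cj_one] at this)
    rw [← e, cj_cj, mul_inv_cancel, cj_one]

theorem card_le (h : IsSyl T Y) {R : Subgroup G} (hR : IsPGroup 2 R) (hRY : R ≤ Y) :
    Nat.card R ≤ Nat.card T := by
  obtain ⟨y, -, hle⟩ := h.exists_cj hR hRY
  exact (Subgroup.card_le_of_le hle).trans (card_cj y T).le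

theorem exists_ge {R Y : Subgroup G} (hR : IsPGroup 2 R) (hRY : R ≤ Y) : ∃ T, R ≤ T ∧ IsSyl T Y := by
  haveI : Fact (Nat.Prime 2) := ⟨Nat.prime_two⟩
  obtain ⟨Q, hQ⟩ := (hR.comap_subtype (K := Y)).exists_le_sylow
  refine ⟨(Q : Subgroup Y).map Y.subtype, fun x hx => ⟨⟨x, hRY hx⟩, hQ hx, rfl⟩, Q.2.map _,
    Subgroup.map_subtype_le _, fun W hW h1 h2 => ?_⟩
  have e : W.subgroupOf Y = Q := Q.3 hW.comap_subtype fun x hx =>
    Subgroup.mem_subgroupOf.mpr (h1 ⟨x, hx, rfl⟩)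
  rw [← e, Subgroup.map_subgroupOf_eq_of_le h2]

theorem of_sylow (P : Sylow 2 G) {Y : Subgroup G} (h : (P : Subgroup G) ≤ Y) : IsSyl (P : Subgroup G) Y :=
  ⟨P.2, h, fun _ hR h1 _ => P.3 hR h1⟩

end IsSyl

/-- The 2-core of a subgroup, as a subgroup of the whole group. -/
def O2 (Y : Subgroup G) : Subgroup G := (pCore 2 Y).map Y.subtype

variable [Finite G]

theorem O2_le (Y : Subgroup G) : O2 Y ≤ Y := Subgroup.map_subtype_le _

theorem O2_two (Y : Subgroup G) : IsPGroup 2 (O2 Y) := (core_two (X := Y)).map _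

theorem O2_subgroupOf (Y : Subgroup G) : (O2 Y).subgroupOf Y = pCore 2 Y :=
  Subgroup.comap_map_eq_self_of_injective Y.subtype_injective _

theorem le_normalizer_O2 (Y : Subgroup G) : Y ≤ normalizer (O2 Y : Set G) := by
  rw [← Subgroup.normal_subgroupOf_iff_le_normalizer (O2_le Y), O2_subgroupOf]
  infer_instance

theorem le_O2 {R Y : Subgroup G} (hR : IsPGroup 2 R) (hRY : R ≤ Y) (hn : Y ≤ normalizer (R : Set G)) :
    R ≤ O2 Y := by
  haveI := (Subgroup.normal_subgroupOf_iff_le_normalizer hRY).mpr hn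
  have h1 : R.subgroupOf Y ≤ pCore 2 Y := CfsgLib.le_pCore hR.comap_subtype
  exact fun x hx => ⟨⟨x, hRY hx⟩, h1 (Subgroup.mem_subgroupOf.mpr hx), rfl⟩

theorem cj_O2_le (g : G) (Y : Subgroup G) : cj g (O2 Y) ≤ O2 (cj g Y) :=
  le_O2 (cj_two g (O2_two Y)) (cj_le_cj (O2_le Y)) (by
    rw [← cj_normalizer]
    exact cj_le_cj (le_normalizer_O2 Y))

theorem O2_le_syl {T Y : Subgroup G} (h : IsSyl T Y) : O2 Y ≤ T := by
  obtain ⟨y, hy, hle⟩ := h.exists_cj (O2_two Y) (O2_le Y)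
  have := cj_le_cj (g := y⁻¹) hle
  rwa [cj_cj, inv_mul_cancel, cj_one, cj_eq_of_mem (inv_mem (le_normalizer_O2 Y hy))] at this

/-- A subgroup with non-trivial 2-core and non-normal Sylow 2-subgroup `T`. -/
structure Ov (T Y : Subgroup G) : Prop where
  syl : IsSyl T Y
  core : O2 Y ≠ ⊥
  nn : ¬ Y ≤ normalizer (T : Set G)

namespace Ov

variable {T Y : Subgroup G}

theorem cj (h : Ov T Y) (g : G) : Ov (CIT.cj g T) (CIT.cj g Y) where
  syl := h.syl.cj g
  core e := h.core ((Subgroup.map_eq_bot_iff_of_injective _ (MulAut.conj g).injective).mp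
    (le_bot_iff.mp (e ▸ cj_O2_le g Y)))
  nn hle := h.nn (by
    rw [← cj_normalizer] at hle
    have := cj_le_cj (g := g⁻¹) hle
    rwa [cj_cj, cj_cj, inv_mul_cancel, cj_one, cj_one] at this)

theorem extend (h : Ov T Y) {Y' : Subgroup G} (hle : Y ≤ Y') (hc : O2 Y' ≠ ⊥) : ∃ T', T ≤ T' ∧ Ov T' Y' := by
  obtain ⟨T', hT, hS⟩ := IsSyl.exists_ge h.syl.two (h.syl.le.trans hle)
  refine ⟨T', hT, hS, hc, fun hn => h.nn fun y hy => ?_⟩
  have e : T' ⊓ Y = T := h.syl.max _ (hS.two.to_le inf_le_left) (le_inf hT h.syl.le) inf_le_right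
  rw [← e]
  refine mem_normalizer_of_cj ?_
  rw [CIT.cj, Subgroup.map_inf _ _ _ (MulAut.conj y).injective]
  exact congrArg₂ (· ⊓ ·) (cj_eq_of_mem (hn (hle hy))) (cj_eq_of_mem (Subgroup.le_normalizer hy))

theorem extend_normalizer (h : Ov T Y) :
    ∃ T', T ≤ T' ∧ Ov T' (normalizer (O2 Y : Set G)) :=
  h.extend (le_normalizer_O2 Y) fun e => h.core (le_bot_iff.mp (e ▸
    le_O2 (O2_two Y) Subgroup.le_normalizer le_rfl))

theorem range_incl {A B : Subgroup G} (h : A ≤ B) : (Subgroup.inclusion h).range = A.subgroupOf B := by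
  ext x
  exact ⟨fun ⟨y, hy⟩ => hy ▸ Subgroup.mem_subgroupOf.mpr y.2, fun hx => ⟨⟨x, Subgroup.mem_subgroupOf.mp hx⟩, rfl⟩⟩

theorem toOver (h : Ov T Y) (hG : IsCIT G) : Over (Subgroup.inclusion h.syl.le) where
  inj := Subgroup.inclusion_injective _
  syl := ⟨h.syl.sylow, (range_incl h.syl.le).symm⟩
  cit := hG.subgroup Y
  core e := h.core (by rw [O2, e, Subgroup.map_bot])
  nn hn := h.nn (by
    rw [range_incl] at hn
    exact (Subgroup.normal_subgroupOf_iff_le_normalizer h.syl.le).mp hn)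

theorem shape_cards (h : Ov T Y) (hS : Shape Y) :
    ∃ n, 1 ≤ n ∧ Nat.card T = (2 ^ n) ^ 3 ∧ Nat.card (O2 Y) = (2 ^ n) ^ 2 := by
  obtain ⟨n, hn, h1, h2⟩ := hS.card_sylow h.syl.sylow
  refine ⟨n, hn, ?_, ?_⟩
  · rw [← h1]
    exact (Nat.card_congr (Subgroup.subgroupOfEquivOfLe h.syl.le).toEquiv).symm
  · rw [← h2]
    exact Subgroup.card_map_of_injective Y.subtype_injective

end Ov

/-- The dichotomy for a 2-subgroup. -/
theorem dich (hG : IsCIT G) {m : ℕ} (hIH : Below.{u} m) (hm : Nat.card G ≤ m) {T : Subgroup G} (hT : IsPGroup 2 T) :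
    (∃ C : Subgroup G, C ≤ T ∧ C ≠ ⊥ ∧ normalizer (T : Set G) ≤ normalizer (C : Set G) ∧
      ∀ Y, Ov T Y → Y ≤ normalizer (C : Set G)) ∨ ∀ Y, Ov T Y → Shape Y := by
  rcases dichotomy T hT hIH with ⟨C, hC, hchar, hall⟩ | hall
  · refine Or.inl ⟨C.map T.subtype, Subgroup.map_subtype_le C,
      fun e => hC ((Subgroup.map_eq_bot_iff_of_injective _ T.subtype_injective).mp e), fun g hg => ?_, fun Y hY => ?_⟩
    · refine mem_normalizer_of_cj ?_
      conv_rhs => rw [← (Subgroup.characteristic_iff_map_eq.mp hchar) (T.normalizerMonoidHom ⟨g, hg⟩)]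
      rw [cj, Subgroup.map_map, Subgroup.map_map]
      rfl
    · have hn := hall Y _ (hY.toOver hG) ((Subgroup.card_le_card_group Y).trans hm)
      have e : (C.map (Subgroup.inclusion hY.syl.le)).map Y.subtype = C.map T.subtype := by
        rw [Subgroup.map_map]
        rfl
      have h1 : (C.map T.subtype).subgroupOf Y = C.map (Subgroup.inclusion hY.syl.le) := by
        rw [← e]
        exact Subgroup.comap_map_eq_self_of_injective Y.subtype_injective _
      rw [← Subgroup.normal_subgroupOf_iff_le_normalizer ((Subgroup.map_subtype_le C).trans hY.syl.le), h1]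
      exact hn
  · exact Or.inr fun Y hY => hall Y _ (hY.toOver hG) ((Subgroup.card_le_card_group Y).trans hm)

/-- An elementary piece of order `q ^ 2`. -/
structure Piece (T E : Subgroup G) (n : ℕ) : Prop where
  ov : Ov T (normalizer (E : Set G))
  core : O2 (normalizer (E : Set G)) = E
  le : E ≤ T
  card : Nat.card E = (2 ^ n) ^ 2
  sq : ∀ x ∈ E, x * x = 1
  quot : ∃ (F : Type) (_ : Field F) (_ : Fintype F), Fintype.card F = 2 ^ n ∧
    ∃ f : normalizer (E : Set G) →* Matrix.ProjectiveSpecialLinearGroup (Fin 2) F,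
      Function.Surjective f ∧ f.ker = E.subgroupOf (normalizer (E : Set G))

variable (G) in
/-- Two pieces in the same 2-group of order `q ^ 3`. -/
def Config : Prop :=
  ∃ (T E₁ E₂ : Subgroup G) (n : ℕ), 1 ≤ n ∧ IsPGroup 2 T ∧ Nat.card T = (2 ^ n) ^ 3 ∧ E₁ ≠ E₂ ∧
    Piece T E₁ n ∧ Piece T E₂ n

theorem piece_of_shape {T Y : Subgroup G} (hall : ∀ Z, Ov T Z → Shape Z) (hY : Ov T Y)
    (hN : Ov T (normalizer (O2 Y : Set G))) {n : ℕ} (hT : Nat.card T = (2 ^ n) ^ 3) : Piece T (O2 Y) n := by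
  set N := normalizer (O2 Y : Set G) with hNdef
  have key : ∀ Z, Ov T Z → Nat.card (O2 Z) = (2 ^ n) ^ 2 := fun Z hZ => by
    obtain ⟨k, -, h1, h2⟩ := hZ.shape_cards (hall Z hZ)
    rw [hT] at h1
    rw [h2, Nat.pow_left_injective (by norm_num : 3 ≠ 0) h1]
  have hle : O2 Y ≤ O2 N := le_O2 (O2_two Y) Subgroup.le_normalizer le_rfl
  have hE : O2 N = O2 Y := (Subgroup.eq_of_le_of_card_ge hle (by rw [key N hN, key Y hY])).symm
  obtain ⟨F, iF, iFt, k, -, hF, ⟨e⟩, hsq, hc⟩ := hall N hN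
  have hk : (2 : ℕ) ^ k = 2 ^ n := by
    refine Nat.pow_left_injective (by norm_num : 2 ≠ 0) ?_
    show (2 ^ k) ^ 2 = (2 ^ n) ^ 2
    rw [← hc, ← O2_subgroupOf, Nat.card_congr (Subgroup.subgroupOfEquivOfLe (O2_le N)).toEquiv, key N hN]
  refine ⟨hN, hE, (O2_le_syl hY.syl), key Y hY, fun x hx => ?_, F, iF, iFt, hF.trans hk,
    e.toMonoidHom.comp qk, e.surjective.comp (QuotientGroup.mk'_surjective _), ?_⟩
  · rw [← hE] at hx
    obtain ⟨y, hy, rfl⟩ := hx
    exact congrArg Subtype.val (hsq y hy)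
  · ext x
    have hmem : ∀ z, z ∈ O2 N ↔ z ∈ O2 Y := fun z => by rw [hE]
    rw [MonoidHom.mem_ker]
    exact (e.map_eq_one_iff.trans qk_eq_one).trans (((SetLike.ext_iff.mp (O2_subgroupOf N) x).symm.trans
      Subgroup.mem_subgroupOf).trans ((hmem _).trans Subgroup.mem_subgroupOf.symm))

/-- The inductive step: a largest `T` that is not a maximal 2-subgroup gives a configuration. -/
theorem step (hG : IsCIT G) {m : ℕ} (hIH : Below.{u} m) (hm : Nat.card G ≤ m) (Fam : Subgroup G → Prop)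
    (up : ∀ Y Y', Y ≤ Y' → Fam Y → Fam Y') {T Y : Subgroup G} (hY : Ov T Y) (hfam : Fam Y)
    (hmax : ∀ T' Y', Ov T' Y' → Fam Y' → Nat.card T' ≤ Nat.card T) {W : Subgroup G} (hW : IsPGroup 2 W)
    (hlt : T < W) : Config G := by
  obtain ⟨y, hy, hyT⟩ := SetLike.exists_of_lt (lt_inf_normalizer_two hW hlt)
  have hext : ∀ Y', Y ≤ Y' → O2 Y' ≠ ⊥ → Ov T Y' := fun Y' hle hc => by
    obtain ⟨T', hT, hov⟩ := hY.extend hle hc
    rwa [← Subgroup.eq_of_le_of_card_ge hT (hmax T' Y' hov (up Y Y' hle hfam))] at hov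
  have hyabs : ∀ Y', Ov T Y' → y ∉ Y' := by
    intro Y' hov hy'
    haveI : Fact (Nat.Prime 2) := ⟨Nat.prime_two⟩
    have hp : IsPGroup 2 ↥(zpowers y ⊔ T) := IsPGroup.to_sup_of_normal_right'
      (hW.to_le (zpowers_le.mpr hy.1)) hY.syl.two (zpowers_le.mpr hy.2)
    have e := hov.syl.max _ hp le_sup_right (sup_le (zpowers_le.mpr hy') hov.syl.le)
    exact hyT (e ▸ mem_sup_left (mem_zpowers y))
  rcases dich hG hIH hm hY.syl.two with ⟨C, hCT, hC0, hCn, hCY⟩ | hall
  · exfalso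
    have hle := hCY Y hY
    have hc : O2 (normalizer (C : Set G)) ≠ ⊥ := fun e => hC0 (le_bot_iff.mp (e ▸
      le_O2 (hY.syl.two.to_le hCT) Subgroup.le_normalizer le_rfl))
    exact hyabs _ (hext _ hle hc) (hCn hy.2)
  set E := O2 Y with hE
  have hN : Ov T (normalizer (E : Set G)) := hext _ (le_normalizer_O2 Y) fun e => hY.core (le_bot_iff.mp (e ▸
    le_O2 (O2_two Y) Subgroup.le_normalizer le_rfl))
  obtain ⟨n, hn, hT, -⟩ := hY.shape_cards (hall Y hY)
  have hcj : cj y T = T := cj_eq_of_mem hy.2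
  have hY2 : Ov T (cj y Y) := by
    have := hY.cj y
    rwa [hcj] at this
  have hE2 : O2 (cj y Y) = cj y E := by
    refine (Subgroup.eq_of_le_of_card_ge (cj_O2_le y Y) ?_).symm
    obtain ⟨k, -, h1, h2⟩ := hY2.shape_cards (hall _ hY2)
    obtain ⟨k', -, h1', h2'⟩ := hY.shape_cards (hall _ hY)
    rw [card_cj, h2, h2', Nat.pow_left_injective (by norm_num : 3 ≠ 0) (h1.symm.trans h1')]
  have hN2 : Ov T (normalizer (O2 (cj y Y) : Set G)) := by
    have := hN.cj y
    rw [hcj, cj_normalizer] at this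
    rwa [hE2]
  refine ⟨T, E, O2 (cj y Y), n, hn, hY.syl.two, hT, fun e => ?_, piece_of_shape hall hY hN hT,
    piece_of_shape hall hY2 hN2 hT⟩
  rw [hE2] at e
  exact hyabs _ hN (mem_normalizer_of_cj e.symm)

/-- Trivial intersection Sylow 2-subgroups or a configuration. -/
theorem ti_or_config [IsSimpleGroup G] (hG : IsCIT G) {m : ℕ} (hIH : Below.{u} m) (hm : Nat.card G ≤ m) :
    IsTI G ∨ Config G := by
  haveI : Fact (Nat.Prime 2) := ⟨Nat.prime_two⟩
  classical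
  by_contra hh
  push Not at hh
  obtain ⟨hTI, hcfg⟩ := hh
  -- a first member
  obtain ⟨T₀, Y₀, h₀⟩ : ∃ T Y : Subgroup G, Ov T Y := by
    obtain ⟨P, g, x, hxP, hgx, hx1, hg⟩ : ∃ (P : Sylow 2 G) (g x : G),
        x ∈ P ∧ g⁻¹ * x * g ∈ P ∧ x ≠ 1 ∧ g ∉ normalizer ((P : Subgroup G) : Set G) := by
      simpa [IsTI, and_assoc] using hTI
    haveI : Nonempty {pq : Sylow 2 G × Sylow 2 G // pq.1 ≠ pq.2 ∧ ((pq.1 : Subgroup G) ⊓ pq.2) ≠ ⊥} := by
      refine ⟨⟨(P, g • P), fun e => hg (Sylow.smul_eq_iff_mem_normalizer.mp e.symm), fun e => hx1 ?_⟩⟩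
      rw [← Subgroup.mem_bot, ← e]
      refine ⟨hxP, ?_⟩
      show x ∈ ((g • P : Sylow 2 G) : Subgroup G)
      rw [Sylow.coe_subgroup_smul, Subgroup.mem_pointwise_smul_iff_inv_smul_mem]
      rw [show (MulAut.conj g)⁻¹ • x = g⁻¹ * x * g by simp [MulAut.smul_def]]
      exact hgx
    obtain ⟨⟨⟨A, B⟩, hne, hD⟩, hmax⟩ := Finite.exists_max
      (α := {pq : Sylow 2 G × Sylow 2 G // pq.1 ≠ pq.2 ∧ ((pq.1 : Subgroup G) ⊓ pq.2) ≠ ⊥})
      (fun pq => Nat.card ↥((pq.1.1 : Subgroup G) ⊓ pq.1.2))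
    set D := (A : Subgroup G) ⊓ B with hDdef
    have hD2 : IsPGroup 2 D := A.2.to_le inf_le_left
    obtain ⟨R, -, hR⟩ := IsSyl.exists_ge hD2 (Subgroup.le_normalizer (H := D))
    refine ⟨R, normalizer (D : Set G), hR, fun e => hD (le_bot_iff.mp (e ▸
      le_O2 hD2 Subgroup.le_normalizer le_rfl)), fun hn => ?_⟩
    obtain ⟨W, hW⟩ := hR.two.exists_le_sylow
    have key : ∀ C : Sylow 2 G, D < (C : Subgroup G) → C = W := by
      intro C hlt
      by_contra hCW
      have h1 : (C : Subgroup G) ⊓ normalizer (D : Set G) ≤ (C : Subgroup G) ⊓ W :=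
        le_inf inf_le_left ((hR.le_of_normalizing hn (C.2.to_le inf_le_left) inf_le_right).trans hW)
      have h2 := lt_of_lt_of_le (lt_inf_normalizer_two C.2 hlt) h1
      have h3 := hmax ⟨(C, W), hCW, fun e => by rw [e] at h2; exact not_lt_bot h2⟩
      exact h2.ne (Subgroup.eq_of_le_of_card_ge h2.le h3)
    have hA : D < (A : Subgroup G) := lt_of_le_of_ne inf_le_left fun e =>
      hne (Sylow.ext (B.3 A.2 |> fun _ => (A.3 B.2 (inf_eq_left.mp e)).symm))
    have hB : D < (B : Subgroup G) := lt_of_le_of_ne inf_le_right fun e =>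
      hne (Sylow.ext (B.3 A.2 (inf_eq_right.mp e)))
    exact hne ((key A hA).trans (key B hB).symm)
  haveI : Nonempty {p : Subgroup G × Subgroup G // Ov p.1 p.2} := ⟨⟨(T₀, Y₀), h₀⟩⟩
  obtain ⟨⟨⟨T, Y⟩, hY⟩, hmax⟩ := Finite.exists_max
    (α := {p : Subgroup G × Subgroup G // Ov p.1 p.2}) (fun p => Nat.card p.1.1)
  obtain ⟨S, hS⟩ := hY.syl.two.exists_le_sylow
  by_cases hTS : T = (S : Subgroup G)
  swap
  · exact hcfg (step hG hIH hm (fun _ => True) (fun _ _ _ _ => trivial) hY trivial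
      (fun T' Y' h _ => hmax ⟨(T', Y'), h⟩) S.2 (lt_of_le_of_ne hS hTS))
  subst hTS
  have hsylN : ∀ Y' : Subgroup G, Y ≤ Y' → O2 Y' ≠ ⊥ → Ov (S : Subgroup G) Y' := fun Y' hle hc => by
    obtain ⟨T', hT, hov⟩ := hY.extend hle hc
    rwa [S.3 hov.syl.two hT] at hov
  -- the largest member over `S`
  obtain ⟨M, hM, hMall⟩ : ∃ M : Subgroup G, Ov (S : Subgroup G) M ∧ ∀ Z, Ov (S : Subgroup G) Z → Z ≤ M := by
    rcases dich hG hIH hm S.2 with ⟨C, hCT, hC0, -, hCY⟩ | hall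
    · exact ⟨_, hsylN _ (hCY Y hY) fun e => hC0 (le_bot_iff.mp (e ▸
        le_O2 (S.2.to_le hCT) Subgroup.le_normalizer le_rfl)), hCY⟩
    have hNall : ∀ Z, Ov (S : Subgroup G) Z → Ov (S : Subgroup G) (normalizer (O2 Z : Set G)) := fun Z hZ => by
      obtain ⟨T', hT, hov⟩ := hZ.extend_normalizer
      rwa [S.3 hov.syl.two hT] at hov
    refine ⟨_, hNall Y hY, fun Z hZ => ?_⟩
    have heq : O2 Z = O2 Y := by
      by_contra hne
      obtain ⟨n, hn, hT, -⟩ := hY.shape_cards (hall Y hY)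
      exact hcfg ⟨S, O2 Y, O2 Z, n, hn, S.2, hT, Ne.symm hne, piece_of_shape hall hY (hNall Y hY) hT,
        piece_of_shape hall hZ (hNall Z hZ) hT⟩
    exact heq ▸ le_normalizer_O2 Z
  have hMN : normalizer (O2 M : Set G) ≤ M := by
    obtain ⟨T', hT, hov⟩ := hM.extend_normalizer
    rw [S.3 hov.syl.two hT] at hov
    exact hMall _ hov
  have hcjS : ∀ g : G, (S : Subgroup G) ≤ cj g M → g ∈ M := by
    intro g hle
    have h1 := hM.cj g
    have hov : Ov (S : Subgroup G) (cj g M) := ⟨IsSyl.of_sylow S hle, h1.core, fun hn => by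
      have e1 : cj g (S : Subgroup G) ≤ S :=
        (IsSyl.of_sylow S hle).le_of_normalizing hn h1.syl.two h1.syl.le
      have e2 := Subgroup.eq_of_le_of_card_ge e1 (card_cj g _).ge
      exact h1.nn (e2.symm ▸ hn)⟩
    have heq : cj g M = M := Subgroup.eq_of_le_of_card_ge (hMall _ hov) (card_cj g M).ge
    refine hMN (mem_normalizer_of_cj (Subgroup.eq_of_le_of_card_ge ?_ (card_cj g _).ge))
    exact (cj_O2_le g M).trans (le_of_eq (by rw [heq]))
  -- members outside the conjugates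
  by_cases hout : ∃ (T' Y' : Subgroup G), Ov T' Y' ∧ ∀ g : G, ¬ Y' ≤ cj g M
  · obtain ⟨T₁, Y₁, hY₁, hnot⟩ := hout
    haveI : Nonempty {p : Subgroup G × Subgroup G // Ov p.1 p.2 ∧ ∀ g : G, ¬ p.2 ≤ cj g M} :=
      ⟨⟨(T₁, Y₁), hY₁, hnot⟩⟩
    obtain ⟨⟨⟨T, Y⟩, hTY, hTn⟩, hmax'⟩ := Finite.exists_max
      (α := {p : Subgroup G × Subgroup G // Ov p.1 p.2 ∧ ∀ g : G, ¬ p.2 ≤ cj g M}) (fun p => Nat.card p.1.1)
    obtain ⟨W, hW⟩ := hTY.syl.two.exists_le_sylow
    refine hcfg (step hG hIH hm (fun Z => ∀ g : G, ¬ Z ≤ cj g M) (fun Z Z' hle h g hh => h g (hle.trans hh))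
      hTY hTn (fun T' Y' h h' => hmax' ⟨(T', Y'), h, h'⟩) W.2 (lt_of_le_of_ne hW fun e => ?_))
    obtain ⟨g, hg⟩ := MulAction.exists_smul_eq G S W
    have hcw : cj g (S : Subgroup G) = W := by rw [← hg]; rfl
    have hov := hTY.cj g⁻¹
    rw [show (T : Subgroup G) = cj g (S : Subgroup G) from e.trans hcw.symm, cj_cj, inv_mul_cancel, cj_one] at hov
    refine hTn g ?_
    have := cj_le_cj (g := g) (hMall _ hov)
    rwa [cj_cj, mul_inv_cancel, cj_one] at this
  push Not at hout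
  -- conjugates over a Sylow subgroup
  have hex : ∀ P : Sylow 2 G, ∃ g : G, (P : Subgroup G) ≤ cj g M := fun P => by
    obtain ⟨g, rfl⟩ := MulAction.exists_smul_eq G S P
    exact ⟨g, cj_le_cj hM.syl.le⟩
  have huniq : ∀ (P : Sylow 2 G) (g h : G), (P : Subgroup G) ≤ cj g M → (P : Subgroup G) ≤ cj h M →
      cj g M = cj h M := by
    intro P g h hg hh
    obtain ⟨k, rfl⟩ := MulAction.exists_smul_eq G S P
    have key : ∀ i : G, ((k • S : Sylow 2 G) : Subgroup G) ≤ cj i M → cj i M = cj k M := fun i hi => by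
      have h1 := cj_le_cj (g := k⁻¹) hi
      rw [cj_cj] at h1
      have h2 : (S : Subgroup G) ≤ cj (k⁻¹ * i) M := by
        refine le_trans (le_of_eq ?_) h1
        rw [show ((k • S : Sylow 2 G) : Subgroup G) = cj k (S : Subgroup G) from rfl, cj_cj, inv_mul_cancel, cj_one]
      have h3 := cj_eq_of_mem (Subgroup.le_normalizer (hcjS _ h2))
      rw [show i = k * (k⁻¹ * i) by group, ← cj_cj, h3]
    rw [key g hg, key h hh]
  have hinside : ∀ (g : G) (R : Subgroup G), IsPGroup 2 R → R ≤ cj g M →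
      ∃ W : Sylow 2 G, R ≤ W ∧ (W : Subgroup G) ≤ cj g M := by
    intro g R hR hRM
    obtain ⟨y, hy, hle⟩ := (hM.syl.cj g).exists_cj hR hRM
    rw [cj_cj] at hle
    refine ⟨(y * g) • S, hle, ?_⟩
    show cj (y * g) (S : Subgroup G) ≤ cj g M
    rw [← cj_cj, ← cj_eq_of_mem (g := y) (H := cj g M) (Subgroup.le_normalizer hy)]
    exact cj_le_cj (cj_le_cj hM.syl.le)
  have hsame : ∀ (i : ℕ) (P Q : Sylow 2 G), Nat.card G - Nat.card ↥((P : Subgroup G) ⊓ Q) = i →
      (P : Subgroup G) ⊓ Q ≠ ⊥ → ∀ g : G, (P : Subgroup G) ≤ cj g M → (Q : Subgroup G) ≤ cj g M := by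
    intro i
    induction i using Nat.strong_induction_on with
    | _ i ih =>
      intro P Q hi hne g hg
      by_cases hPQ : P = Q
      · exact hPQ ▸ hg
      set D := (P : Subgroup G) ⊓ Q with hD
      have hD2 : IsPGroup 2 D := P.2.to_le inf_le_left
      have hlt : ∀ C : Sylow 2 G, D ≤ (C : Subgroup G) → D < (C : Subgroup G) := fun C hC => by
        refine lt_of_le_of_ne hC fun e => ?_
        have h1 : (C : Subgroup G) ≤ P := e ▸ inf_le_left
        have h2 : (C : Subgroup G) ≤ Q := e ▸ inf_le_right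
        exact hPQ (Sylow.ext ((C.3 P.2 h1).trans (C.3 Q.2 h2).symm))
      have hIH' : ∀ A B : Sylow 2 G, D < (A : Subgroup G) ⊓ B →
          ∀ g : G, (A : Subgroup G) ≤ cj g M → (B : Subgroup G) ≤ cj g M := fun A B hAB => by
        refine ih _ ?_ A B rfl fun e => not_lt_bot (e ▸ hAB)
        have h1 := Set.ncard_lt_ncard (SetLike.coe_ssubset_coe.mpr hAB) (Set.toFinite _)
        rw [← Nat.card_coe_set_eq, ← Nat.card_coe_set_eq] at h1
        have h1' : Nat.card D < Nat.card ↥((A : Subgroup G) ⊓ B) := h1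
        have h2 := Subgroup.card_le_card_group ((A : Subgroup G) ⊓ B)
        omega
      have hgrow : ∀ (C W : Sylow 2 G), D ≤ (C : Subgroup G) → (C : Subgroup G) ⊓ normalizer (D : Set G) ≤ W →
          D < (C : Subgroup G) ⊓ W := fun C W hC hle =>
        lt_of_lt_of_le (lt_inf_normalizer_two C.2 (hlt C hC)) (le_inf inf_le_left hle)
      obtain ⟨R, -, hR⟩ := IsSyl.exists_ge hD2 (Subgroup.le_normalizer (H := D))
      by_cases hn : normalizer (D : Set G) ≤ normalizer (R : Set G)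
      · obtain ⟨W, hW⟩ := hR.two.exists_le_sylow
        have hPW := hgrow P W inf_le_left ((hR.le_of_normalizing hn (P.2.to_le inf_le_left) inf_le_right).trans hW)
        have hQW := hgrow Q W inf_le_right ((hR.le_of_normalizing hn (Q.2.to_le inf_le_left) inf_le_right).trans hW)
        exact hIH' W Q (inf_comm (Q : Subgroup G) W ▸ hQW) g (hIH' P W hPW g hg)
      · obtain ⟨k, hk⟩ := hout R (normalizer (D : Set G))
          ⟨hR, fun e => hne (le_bot_iff.mp (e ▸ le_O2 hD2 Subgroup.le_normalizer le_rfl)), hn⟩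
        obtain ⟨W, hW, hWk⟩ := hinside k ((P : Subgroup G) ⊓ normalizer (D : Set G)) (P.2.to_le inf_le_left)
          (inf_le_right.trans hk)
        obtain ⟨V, hV, hVk⟩ := hinside k ((Q : Subgroup G) ⊓ normalizer (D : Set G)) (Q.2.to_le inf_le_left)
          (inf_le_right.trans hk)
        have hWg := hIH' P W (hgrow P W inf_le_left hW) g hg
        rw [huniq W g k hWg hWk]
        exact hIH' V Q (inf_comm (Q : Subgroup G) V ▸ hgrow Q V inf_le_right hV) k hVk
  have hMtop : M ≠ ⊤ := fun e => by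
    have hn : (O2 M).Normal := Subgroup.normalizer_eq_top_iff.mp (top_le_iff.mp (e ▸ le_normalizer_O2 M))
    rcases hn.eq_bot_or_eq_top with h | h
    · exact hM.core h
    · exact hM.nn ((le_top.trans (h ▸ O2_le_syl hM.syl)).trans Subgroup.le_normalizer)
  obtain ⟨z, hz, hzo⟩ := exists_orderOf_two_mem (O2_two M) hM.core
  have hSE : IsStronglyEmbedded M := by
    refine ⟨hMtop, even_iff_two_dvd.mpr (hzo ▸ Subgroup.orderOf_dvd_natCard _ (O2_le M hz)), fun g hg => ?_⟩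
    by_contra hev
    obtain ⟨⟨x, hx, hx'⟩, hxo⟩ := exists_prime_orderOf_dvd_card' (G := ↥(M ⊓ cj g M)) 2
      (even_iff_two_dvd.mp (Nat.not_odd_iff_even.mp hev))
    rw [← Subgroup.orderOf_coe] at hxo
    replace hxo : orderOf x = 2 := hxo
    have hxp : IsPGroup 2 (zpowers x) := IsPGroup.of_card (n := 1) (by rw [Nat.card_zpowers, hxo, pow_one])
    obtain ⟨W, hW, hW1⟩ := hinside 1 _ hxp (by rw [cj_one]; exact zpowers_le.mpr hx)
    obtain ⟨V, hV, hVg⟩ := hinside g _ hxp (zpowers_le.mpr hx')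
    have hWV : (W : Subgroup G) ⊓ V ≠ ⊥ := fun e => by
      have : x ∈ ((W : Subgroup G) ⊓ V) := ⟨hW (mem_zpowers x), hV (mem_zpowers x)⟩
      rw [e, mem_bot] at this
      rw [this, orderOf_one] at hxo
      omega
    have h1 := huniq V 1 g (hsame _ W V rfl hWV 1 hW1) hVg
    rw [cj_one] at h1
    exact hg (hcjS g (h1 ▸ hM.syl.le))
  -- all involutions of `M` lie in its 2-core
  have hinv : ∀ x ∈ M, orderOf x = 2 → x ∈ O2 M := fun x hx hxo => by
    obtain ⟨g, hg, e⟩ := conj_of_stronglyEmbedded hSE (O2_le M hz) hzo hx hxo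
    exact e ▸ (Subgroup.mem_normalizer_iff.mp (le_normalizer_O2 M hg) z).mp hz
  have hover := hM.toOver hG
  obtain ⟨P, hP⟩ := hover.syl
  have hPD : ¬ (P : Subgroup M) ≤ pCore 2 M := hP.symm ▸ hover.not_le_core
  have hne : (P : Subgroup M).map qk ≠ (⊥ : Subgroup (Qt M)) := fun e => hPD fun a ha => by
    rw [← qk_eq_one, ← Subgroup.mem_bot, ← e]
    exact ⟨a, ha, rfl⟩
  obtain ⟨q, -, hqo⟩ := exists_orderOf_two_mem (P.2.map qk) hne
  obtain ⟨p, k, hp, hp2, hk, hinvk⟩ := IsCIT.exists_inverted hqo (fun h => by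
    rw [pCore_qt, mem_bot] at h
    rw [h, orderOf_one] at hqo
    omega)
  obtain ⟨x, hxodd, rfl⟩ := exists_odd_lift k (hk ▸ hp.odd_of_ne_two hp2)
  have hxp : orderOf x = p := by
    haveI : Fact p.Prime := ⟨hp⟩
    refine orderOf_eq_prime ?_ fun e => hp.ne_one (by rw [← hk, e, map_one, orderOf_one])
    refine eq_one_of_mem_two_group core_two (qk_eq_one.mp (by rw [map_pow, ← hk, pow_orderOf_eq_one]))
      (hxodd.of_dvd_nat (orderOf_pow_dvd p))
  obtain ⟨t, hto, htq, -⟩ := (hG.subgroup M).exists_inv_lift hp hp2 hxp hqo hinvk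
  obtain ⟨d, hd, hde⟩ := hinv t t.2 (by rw [Subgroup.orderOf_coe]; exact hto)
  have : qk t = 1 := qk_eq_one.mpr (Subtype.ext hde ▸ hd)
  rw [← htq, this, orderOf_one] at hqo
  omega

end CfsgLib.CIT
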