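import Mathlib

/-!
Groups with a faithful module of characteristic two on which the elements of odd order act without fixed
points: commuting elements of the same odd prime order, orders of cyclic subgroups, involutions, and groups
generated by two elements of order three.
-/

set_option autoImplicit false
set_option linter.unusedSectionVars false

namespace CfsgLib.CIT

universe u v

/-- A representation on a module of exponent two on which the non-trivial elements of odd order have no non-zero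
fixed point. -/
structure FpfMod (Q : Type u) [Group Q] (A : Type v) [AddCommGroup A] where
  ρ : Q →* AddMonoid.End A
  two : ∀ a : A, a + a = 0
  fpf : ∀ q : Q, q ≠ 1 → Odd (orderOf q) → ∀ a : A, ρ q a = a → a = 0

namespace FpfMod

variable {Q : Type u} [Group Q] {A : Type v} [AddCommGroup A] (M : FpfMod Q A)

include M

theorem apply_mul (g h : Q) (a : A) : M.ρ (g * h) a = M.ρ g (M.ρ h a) := by
  rw [map_mul]; rfl

theorem apply_one (a : A) : M.ρ 1 a = a := by
  rw [map_one]; rfl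

theorem apply_inv_self (g : Q) (a : A) : M.ρ g⁻¹ (M.ρ g a) = a := by
  rw [← apply_mul, inv_mul_cancel, apply_one]

theorem injective (g : Q) : Function.Injective (M.ρ g) := fun a b e => by
  rw [← M.apply_inv_self g a, e, M.apply_inv_self]

theorem nsmul_odd {n : ℕ} (hn : Odd n) (a : A) : n • a = a := by
  obtain ⟨k, rfl⟩ := hn
  rw [add_nsmul, mul_comm, mul_nsmul, one_nsmul]
  simp [two_nsmul, M.two]

theorem neg_eq (a : A) : -a = a := neg_eq_of_add_eq_zero_right (M.two a)

/-- The orbit of a vector under a non-trivial element of odd order has vanishing sum. -/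
theorem sum_powers {x : Q} {n : ℕ} (hn : x ^ n = 1) (hx : x ≠ 1) (hodd : Odd (orderOf x)) (a : A) :
    ∑ i ∈ Finset.range n, M.ρ (x ^ i) a = 0 := by
  refine M.fpf x hx hodd _ ?_
  rw [map_sum]
  have h1 : ∀ i : ℕ, M.ρ x (M.ρ (x ^ i) a) = M.ρ (x ^ (i + 1)) a := fun i => by
    rw [← apply_mul, ← pow_succ']
  rw [Finset.sum_congr rfl fun i _ => h1 i]
  rcases Nat.eq_zero_or_pos n with rfl | hpos
  · simp
  · obtain ⟨m, rfl⟩ : ∃ m, n = m + 1 := ⟨n - 1, by omega⟩
    rw [Finset.sum_range_succ, hn, Finset.sum_range_succ' (fun i => M.ρ (x ^ i) a), pow_zero]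

/-- Commuting elements of the same odd prime order generate the same subgroup. -/
theorem mem_zpowers_of_comm [Nontrivial A] {p : ℕ} (hp : p.Prime) (hp2 : p ≠ 2) {x y : Q}
    (hx : orderOf x = p) (hy : orderOf y = p) (hxy : Commute x y) : y ∈ Subgroup.zpowers x := by
  by_contra hn
  haveI : Fact p.Prime := ⟨hp⟩
  have hpodd := hp.odd_of_ne_two hp2
  obtain ⟨a, ha⟩ := exists_ne (0 : A)
  refine ha ?_
  have hord : ∀ z : Q, z ^ p = 1 → z ≠ 1 → orderOf z = p := fun z h1 h2 =>
    (hp.eq_one_or_self_of_dvd _ (orderOf_dvd_of_pow_eq_one h1)).resolve_left (fun e => h2 (orderOf_eq_one_iff.mp e))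
  have hcyc : ∀ z : Q, z ^ p = 1 → z ≠ 1 → ∀ b, ∑ i ∈ Finset.range p, M.ρ (z ^ i) b = 0 := fun z h1 h2 b =>
    M.sum_powers h1 h2 (by rw [hord z h1 h2]; exact hpodd) b
  have hxp : x ^ p = 1 := hx ▸ pow_orderOf_eq_one x
  have hyp : y ^ p = 1 := hy ▸ pow_orderOf_eq_one y
  have hx1 : x ≠ 1 := fun e => hp.ne_one (by rw [← hx, e, orderOf_one])
  have hy1 : y ≠ 1 := fun e => hp.ne_one (by rw [← hy, e, orderOf_one])
  have hz : ∀ j : ℕ, ∑ i ∈ Finset.range p, M.ρ ((x * y ^ j) ^ i) a = 0 := fun j => by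
    refine hcyc _ (by rw [(hxy.pow_right j).mul_pow, hxp, ← pow_mul, mul_comm, pow_mul, hyp, one_pow, one_mul]) ?_ a
    intro e
    apply hn
    have hxy' : x ∈ Subgroup.zpowers y := by
      rw [eq_inv_of_mul_eq_one_left e]
      exact inv_mem (Subgroup.npow_mem_zpowers y j)
    have hc : Nat.card (Subgroup.zpowers x) = Nat.card (Subgroup.zpowers y) := by
      rw [Nat.card_zpowers, Nat.card_zpowers, hx, hy]
    haveI : Finite (Subgroup.zpowers y) := Nat.finite_of_card_ne_zero (by rw [Nat.card_zpowers, hy]; exact hp.ne_zero)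
    rw [Subgroup.eq_of_le_of_card_ge (Subgroup.zpowers_le.mpr hxy') hc.ge]
    exact Subgroup.mem_zpowers y
  have hj : ∀ i ∈ Finset.range p, ∑ j ∈ Finset.range p, M.ρ ((x * y ^ j) ^ i) a = if i = 0 then a else 0 := by
    intro i hi
    split_ifs with h0
    · subst h0
      simp only [pow_zero, apply_one, Finset.sum_const, Finset.card_range]
      exact M.nsmul_odd hpodd a
    · have e : ∀ j : ℕ, M.ρ ((x * y ^ j) ^ i) a = M.ρ (x ^ i) (M.ρ ((y ^ i) ^ j) a) := fun j => by
        rw [← apply_mul, (hxy.pow_right j).mul_pow, ← pow_mul, ← pow_mul, mul_comm j i]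
      rw [Finset.sum_congr rfl fun j _ => e j, ← map_sum,
        hcyc (y ^ i) (by rw [← pow_mul, mul_comm, pow_mul, hyp, one_pow]) ?_ a, map_zero]
      intro e'
      have := orderOf_dvd_of_pow_eq_one e'
      rw [hy] at this
      exact h0 (Nat.eq_zero_of_dvd_of_lt this (Finset.mem_range.mp hi))
  calc a = ∑ i ∈ Finset.range p, (if i = 0 then a else 0) := by
        rw [Finset.sum_ite_eq' (Finset.range p) 0 fun _ => a, if_pos (Finset.mem_range.mpr hp.pos)]
    _ = ∑ i ∈ Finset.range p, ∑ j ∈ Finset.range p, M.ρ ((x * y ^ j) ^ i) a := (Finset.sum_congr rfl hj).symm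
    _ = ∑ j ∈ Finset.range p, ∑ i ∈ Finset.range p, M.ρ ((x * y ^ j) ^ i) a := Finset.sum_comm
    _ = 0 := Finset.sum_eq_zero fun j _ => hz j

/-- An element of odd order acts semiregularly on the non-zero vectors. -/
theorem orderOf_dvd [Finite A] {x : Q} (hodd : Odd (orderOf x)) : orderOf x ∣ Nat.card A - 1 := by
  classical
  let B := {a : A // a ≠ 0}
  letI : MulAction (Subgroup.zpowers x) B :=
    { smul := fun g a => ⟨M.ρ (g : Q) a.1, fun e => a.2 (M.injective _ (e.trans (map_zero _).symm))⟩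
      one_smul := fun a => Subtype.ext (M.apply_one a.1)
      mul_smul := fun g h a => Subtype.ext (M.apply_mul (g : Q) h a.1) }
  haveI : Finite (Subgroup.zpowers x) := Nat.finite_of_card_ne_zero (by
    rw [Nat.card_zpowers]; intro e; rw [e] at hodd; exact absurd hodd (by decide))
  have hst : ∀ b : B, MulAction.stabilizer (Subgroup.zpowers x) b = ⊥ := fun b => by
    refine (Subgroup.eq_bot_iff_forall _).mpr fun g hg => ?_
    by_contra hg1
    refine b.2 (M.fpf (g : Q) (fun e => hg1 (Subtype.ext e)) ?_ _ (congrArg Subtype.val hg))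
    rw [Subgroup.orderOf_coe]
    refine hodd.of_dvd_nat ?_
    exact (Nat.card_zpowers x) ▸ orderOf_dvd_natCard g
  have horb : ∀ b : B, Nat.card (MulAction.orbit (Subgroup.zpowers x) b) = orderOf x := fun b => by
    rw [Nat.card_congr (MulAction.orbitEquivQuotientStabilizer (Subgroup.zpowers x) b), ← Subgroup.index_eq_card,
      hst b, Subgroup.index_bot, Nat.card_zpowers]
  have hB : Nat.card B = Nat.card A - 1 := by
    haveI := Fintype.ofFinite A
    rw [Nat.card_eq_fintype_card, Fintype.card_subtype_compl, Fintype.card_subtype_eq, Nat.card_eq_fintype_card]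
  haveI := Fintype.ofFinite (MulAction.orbitRel.Quotient (Subgroup.zpowers x) B)
  rw [← hB, Nat.card_congr (MulAction.selfEquivSigmaOrbits (Subgroup.zpowers x) B), Nat.card_sigma]
  exact Finset.dvd_sum fun i _ => (horb _).symm.dvd

theorem exists_card_eq_two_pow [Finite A] : ∃ d : ℕ, Nat.card A = 2 ^ d := by
  haveI : Fact (Nat.Prime 2) := ⟨Nat.prime_two⟩
  have : IsPGroup 2 (Multiplicative A) := fun a => ⟨1, by
    show a ^ 2 = 1
    rw [sq]
    exact congrArg Multiplicative.ofAdd (M.two a.toAdd)⟩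
  obtain ⟨d, hd⟩ := IsPGroup.iff_card.mp this
  exact ⟨d, by rw [← hd]; exact Nat.card_congr Multiplicative.ofAdd⟩

/-- If all the odd prime powers dividing `m` are orders of elements, `m ∣ |A| - 1`. -/
theorem dvd_card_sub_one [Finite A] [Finite Q] {m : ℕ} (hm : Odd m)
    (hcyc : ∀ p k : ℕ, p.Prime → p ^ k ∣ m → ∃ x : Q, orderOf x = p ^ k) : m ∣ Nat.card A - 1 := by
  rw [Nat.dvd_iff_prime_pow_dvd_dvd]
  intro p k hp hpk
  obtain ⟨x, hx⟩ := hcyc p k hp hpk
  rw [← hx]
  exact M.orderOf_dvd (hx ▸ hm.of_dvd_nat hpk)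

/-- The fixed vectors of `g`. -/
def fix (g : Q) : AddSubgroup A where
  carrier := {a | M.ρ g a = a}
  zero_mem' := map_zero _
  add_mem' {a b} ha hb := by
    show M.ρ g (a + b) = a + b
    rw [map_add, Set.mem_ofPred_eq.mp ha, Set.mem_ofPred_eq.mp hb]
  neg_mem' {a} ha := by
    show M.ρ g (-a) = -a
    rw [map_neg, Set.mem_ofPred_eq.mp ha]

theorem mem_fix {g : Q} {a : A} : a ∈ M.fix g ↔ M.ρ g a = a := Iff.rfl

/-- An involution inverting an element of odd order fixes at most, hence exactly, the square root. -/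
theorem card_fix_sq [Finite A] {t k : Q} (ht : t * t = 1) (hk : k ≠ 1) (hodd : Odd (orderOf k))
    (hinv : t * k * t⁻¹ = k⁻¹) : Nat.card (M.fix t) ^ 2 = Nat.card A := by
  obtain ⟨r, hr⟩ := hodd
  have hti : t⁻¹ = t := inv_eq_of_mul_eq_one_right ht
  have e1 : t * k = k⁻¹ * t := mul_inv_eq_iff_eq_mul.mp hinv
  let f : M.fix t × M.fix t → A := fun q => (q.1 : A) + M.ρ k q.2
  have hf : Function.Injective f := by
    rintro ⟨a, b⟩ ⟨a', b'⟩ e
    have h1 : ((a : A) - a') = M.ρ k ((b' : A) - b) := by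
      have e' : (a : A) + M.ρ k b = a' + M.ρ k b' := e
      rw [map_sub, sub_eq_sub_iff_add_eq_add, e', add_comm]
    have hv : M.ρ t ((b' : A) - b) = (b' : A) - b := by rw [map_sub, b'.2, b.2]
    have hu : M.ρ t ((a : A) - a') = (a : A) - a' := by rw [map_sub, a.2, a'.2]
    have h2 : M.ρ (k * k) ((b' : A) - b) = (b' : A) - b := by
      have h3 : M.ρ k⁻¹ ((b' : A) - b) = M.ρ k ((b' : A) - b) := by
        calc M.ρ k⁻¹ ((b' : A) - b) = M.ρ k⁻¹ (M.ρ t ((b' : A) - b)) := by rw [hv]
          _ = M.ρ (t * k) ((b' : A) - b) := by rw [← apply_mul, e1]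
          _ = M.ρ t ((a : A) - a') := by rw [apply_mul, h1]
          _ = _ := by rw [hu, h1]
      rw [apply_mul, ← h3, ← apply_mul, mul_inv_cancel, apply_one]
    have hk2 : k * k ≠ 1 := fun e2 => hk (by
      calc k = k * ((k * k) ^ r) := by rw [e2, one_pow, mul_one]
        _ = k ^ (2 * r + 1) := by rw [← sq, ← pow_mul, pow_succ']
        _ = 1 := by rw [← hr, pow_orderOf_eq_one])
    have h0 := M.fpf _ hk2 (Odd.of_dvd_nat ⟨r, hr⟩ (by rw [← sq]; exact orderOf_pow_dvd 2)) _ h2
    have hb : b = b' := Subtype.ext (sub_eq_zero.mp h0).symm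
    subst hb
    rw [h0, map_zero] at h1
    exact Prod.ext (Subtype.ext (sub_eq_zero.mp h1)) rfl
  refine le_antisymm ?_ ?_
  · have := Nat.card_le_card_of_injective f hf
    rwa [Nat.card_prod, ← sq] at this
  · -- kernel and image of `ρ t + 1` are fixed
    let g : A →+ M.fix t :=
      { toFun := fun a => ⟨M.ρ t a + a, by
          rw [mem_fix, map_add, ← apply_mul, ht, apply_one, add_comm]⟩
        map_zero' := Subtype.ext (by simp)
        map_add' := fun a b => Subtype.ext (by simp only [map_add, AddSubgroup.coe_add]; abel) }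
    have hker : g.ker ≤ M.fix t := fun a ha => by
      have h0 : M.ρ t a + a = 0 := congrArg Subtype.val ha
      rw [mem_fix, eq_neg_of_add_eq_zero_left h0, M.neg_eq]
    rw [← g.ker.index_mul_card, AddSubgroup.index_ker, sq]
    exact Nat.mul_le_mul (Nat.le_of_dvd Nat.card_pos (AddSubgroup.card_addSubgroup_dvd_card _))
      (Nat.le_of_dvd Nat.card_pos (AddSubgroup.card_dvd_of_le hker))

/-- An element of order three acts with `x² + x + 1 = 0`. -/
theorem sq_eq_add_one {x : Q} (hx : orderOf x = 3) (a : A) : M.ρ x (M.ρ x a) = M.ρ x a + a := by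
  have h := M.sum_powers (hx ▸ pow_orderOf_eq_one x) (fun e => by rw [e, orderOf_one] at hx; omega)
    (by rw [hx]; decide) a
  rw [Finset.sum_range_succ, Finset.sum_range_succ, Finset.sum_range_succ, Finset.sum_range_zero, zero_add,
    pow_zero, apply_one, pow_one, sq, apply_mul] at h
  rw [eq_neg_of_add_eq_zero_right h, M.neg_eq, add_comm]

section TwoThree

variable {x y : Q} (hx : orderOf x = 3) (hy : orderOf y = 3)

include M hx hy in
/-- In a group generated by two elements of order three every `g + g⁻¹` is central. -/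
theorem commute_add_inv (hgen : Subgroup.closure {x, y} = ⊤) [Finite Q] (g : Q) :
    ∀ h : Q, Commute (M.ρ h) (M.ρ g + M.ρ g⁻¹) := by
  set a := M.ρ x
  set b := M.ρ y
  have haa : a * a = a + 1 := AddMonoidHom.ext fun v => M.sq_eq_add_one hx v
  have hbb : b * b = b + 1 := AddMonoidHom.ext fun v => M.sq_eq_add_one hy v
  have h2 : ∀ f : AddMonoid.End A, f + f = 0 := fun f => AddMonoidHom.ext fun v => M.two (f v)
  have hneg : ∀ f : AddMonoid.End A, -f = f := fun f => neg_eq_of_add_eq_zero_right (h2 f)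
  set c := a * b + b * a + a + b with hc
  have hca : c * a = a * c := by
    have e1 : c * a = a * b * a + b * (a * a) + a * a + b * a := by rw [hc]; noncomm_ring
    have e2 : a * c = a * a * b + a * b * a + a * a + a * b := by rw [hc]; noncomm_ring
    rw [e1, e2, haa]
    have e3 : a * b * a + b * (a + 1) + (a + 1) + b * a =
        (a * b * a + b + a + 1) + (b * a + b * a) := by noncomm_ring
    have e4 : (a + 1) * b + a * b * a + (a + 1) + a * b =
        (a * b * a + b + a + 1) + (a * b + a * b) := by noncomm_ring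
    rw [e3, e4, h2, h2]
  have hcb : c * b = b * c := by
    have e1 : c * b = a * (b * b) + b * a * b + a * b + b * b := by rw [hc]; noncomm_ring
    have e2 : b * c = b * a * b + b * b * a + b * a + b * b := by rw [hc]; noncomm_ring
    rw [e1, e2, hbb]
    have e3 : a * (b + 1) + b * a * b + a * b + (b + 1) =
        (b * a * b + a + b + 1) + (a * b + a * b) := by noncomm_ring
    have e4 : b * a * b + (b + 1) * a + b * a + (b + 1) =
        (b * a * b + a + b + 1) + (b * a + b * a) := by noncomm_ring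
    rw [e3, e4, h2, h2]
  -- centraliser of both generators
  set Z := Subring.centralizer ({a, b} : Set (AddMonoid.End A)) with hZ
  have hmemZ : ∀ f, f ∈ Z ↔ a * f = f * a ∧ b * f = f * b := fun f => by
    rw [hZ, Subring.mem_centralizer_iff]; simp
  have hcZ : c ∈ Z := (hmemZ c).mpr ⟨hca.symm, hcb.symm⟩
  have hba : b * a = c + a * b + a + b := by
    rw [hc]
    have : a * b + b * a + a + b + a * b + a + b = b * a + ((a * b + a * b) + (a + a) + (b + b)) := by abel
    simp [this, h2]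
  let P : Q → Prop := fun g => ∃ c0 ∈ Z, ∃ c1 ∈ Z, ∃ c2 ∈ Z, ∃ c3 ∈ Z,
    M.ρ g = c0 + c1 * a + c2 * b + c3 * (a * b) ∧
    M.ρ g⁻¹ = c0 + c1 * (a + 1) + c2 * (b + 1) + c3 * ((b + 1) * (a + 1))
  have hcomm : ∀ f ∈ Z, a * f = f * a ∧ b * f = f * b := fun f hf => (hmemZ f).mp hf
  have hxi : M.ρ x⁻¹ = a + 1 := by
    have : x⁻¹ = x * x := by
      refine inv_eq_of_mul_eq_one_right ?_
      have := pow_orderOf_eq_one x
      rw [hx, pow_succ', sq] at this
      exact this
    rw [this, map_mul, haa]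
  have hyi : M.ρ y⁻¹ = b + 1 := by
    have : y⁻¹ = y * y := by
      refine inv_eq_of_mul_eq_one_right ?_
      have := pow_orderOf_eq_one y
      rw [hy, pow_succ', sq] at this
      exact this
    rw [this, map_mul, hbb]
  have hA : (a + 1) * (a + 1) = (a + 1) + 1 := by
    have : (a + 1) * (a + 1) = a * a + (a + a) + 1 := by noncomm_ring
    rw [this, haa, h2, add_zero]
  have hB : (b + 1) * (b + 1) = (b + 1) + 1 := by
    have : (b + 1) * (b + 1) = b * b + (b + b) + 1 := by noncomm_ring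
    rw [this, hbb, h2, add_zero]
  have hbab : b * (a * b) = c * b + a + b + 1 := by
    rw [← mul_assoc, hba]
    have : (c + a * b + a + b) * b = c * b + a * (b * b) + a * b + b * b := by noncomm_ring
    rw [this, hbb]
    have : c * b + a * (b + 1) + a * b + (b + 1) = c * b + a + b + 1 + (a * b + a * b) := by noncomm_ring
    rw [this, h2, add_zero]
  have hAB : (a + 1) * (b + 1) = c + (b + 1) * (a + 1) + (a + 1) + (b + 1) := by
    have : c + (b + 1) * (a + 1) + (a + 1) + (b + 1) =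
        (a + 1) * (b + 1) + ((b * a + b * a) + (a + a) + (b + b) + (1 + 1)) := by rw [hc]; noncomm_ring
    simp [this, h2]
  have hBAB : (b + 1) * (a + 1) * (b + 1) = c * (b + 1) + (a + 1) + (b + 1) + 1 := by
    rw [mul_assoc, hAB]
    have : (b + 1) * (c + (b + 1) * (a + 1) + (a + 1) + (b + 1)) =
        (b * c + c) + (b + 1) * (b + 1) * (a + 1) + (b + 1) * (a + 1) + (b + 1) * (b + 1) := by noncomm_ring
    rw [this, hB, ← hcb]
    have : c * b + c + ((b + 1) + 1) * (a + 1) + (b + 1) * (a + 1) + ((b + 1) + 1) =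
        c * (b + 1) + (a + 1) + (b + 1) + 1 + ((b + 1) * (a + 1) + (b + 1) * (a + 1)) := by noncomm_ring
    rw [this, h2, add_zero]
  have keyx : ∀ z, P z → P (x * z) := by
    rintro z ⟨c0, m0, c1, m1, c2, m2, c3, m3, e, e'⟩
    obtain ⟨a0, -⟩ := hcomm c0 m0
    obtain ⟨a1, -⟩ := hcomm c1 m1
    obtain ⟨a2, -⟩ := hcomm c2 m2
    obtain ⟨a3, -⟩ := hcomm c3 m3
    refine ⟨c1, m1, c0 + c1, add_mem m0 m1, c3, m3, c2 + c3, add_mem m2 m3, ?_, ?_⟩
    · rw [map_mul, e]
      show a * _ = _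
      simp only [mul_add, ← mul_assoc, a0, a1, a2, a3]
      rw [mul_assoc c1 a a, haa, mul_assoc c3 a a, haa]
      noncomm_ring
    · rw [mul_inv_rev, map_mul, e', hxi]
      have : (c0 + c1 * (a + 1) + c2 * (b + 1) + c3 * ((b + 1) * (a + 1))) * (a + 1) =
          c0 * (a + 1) + c1 * ((a + 1) * (a + 1)) + c2 * ((b + 1) * (a + 1)) +
            c3 * ((b + 1) * ((a + 1) * (a + 1))) := by noncomm_ring
      rw [this, hA]
      noncomm_ring
  have keyy : ∀ z, P z → P (y * z) := by
    rintro z ⟨c0, m0, c1, m1, c2, m2, c3, m3, e, e'⟩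
    obtain ⟨-, b0⟩ := hcomm c0 m0
    obtain ⟨-, b1⟩ := hcomm c1 m1
    obtain ⟨-, b2⟩ := hcomm c2 m2
    obtain ⟨-, b3⟩ := hcomm c3 m3
    refine ⟨c1 * c + c2 + c3, add_mem (add_mem (mul_mem m1 hcZ) m2) m3, c1 + c3, add_mem m1 m3,
      c0 + c1 + c2 + c3 * c + c3, add_mem (add_mem (add_mem (add_mem m0 m1) m2) (mul_mem m3 hcZ)) m3,
      c1, m1, ?_, ?_⟩
    · rw [map_mul, e]
      show b * _ = _
      simp only [mul_add, ← mul_assoc, b0, b1, b2, b3]
      rw [mul_assoc c1 b a, hba, mul_assoc c2 b b, hbb, mul_assoc c3 b a, mul_assoc c3 (b * a) b, mul_assoc b a b,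
        hbab]
      noncomm_ring
    · rw [mul_inv_rev, map_mul, e', hyi]
      have : (c0 + c1 * (a + 1) + c2 * (b + 1) + c3 * ((b + 1) * (a + 1))) * (b + 1) =
          c0 * (b + 1) + c1 * ((a + 1) * (b + 1)) + c2 * ((b + 1) * (b + 1)) +
            c3 * ((b + 1) * (a + 1) * (b + 1)) := by noncomm_ring
      rw [this, hAB, hB, hBAB]
      noncomm_ring
  have hP : ∀ g : Q, P g := by
    intro g
    have hg : g ∈ Subgroup.closure {x, y} := hgen ▸ Subgroup.mem_top g
    refine Subgroup.closure_induction_left (p := fun z _ => P z) ?_ (fun s hs z _ hz => ?_) (fun s hs z _ hz => ?_) hg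
    · exact ⟨1, one_mem _, 0, zero_mem _, 0, zero_mem _, 0, zero_mem _, by simp, by simp⟩
    · rcases hs with h' | h'
      · exact h' ▸ keyx z hz
      · rw [Set.mem_singleton_iff] at h'
        exact h' ▸ keyy z hz
    · rcases hs with h' | h'
      · rw [h']
        have : x⁻¹ * z = x * (x * z) := by
          rw [← mul_assoc, inv_eq_of_mul_eq_one_right (show x * (x * x) = 1 by
            have := pow_orderOf_eq_one x
            rwa [hx, pow_succ', sq] at this)]
        rw [this]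
        exact keyx _ (keyx z hz)
      · rw [Set.mem_singleton_iff] at h'
        rw [h']
        have : y⁻¹ * z = y * (y * z) := by
          rw [← mul_assoc, inv_eq_of_mul_eq_one_right (show y * (y * y) = 1 by
            have := pow_orderOf_eq_one y
            rwa [hy, pow_succ', sq] at this)]
        rw [this]
        exact keyy _ (keyy z hz)
  intro h
  obtain ⟨c0, m0, c1, m1, c2, m2, c3, m3, e, e'⟩ := hP g
  have hsum : M.ρ g + M.ρ g⁻¹ ∈ Z := by
    rw [e, e']
    have : c0 + c1 * a + c2 * b + c3 * (a * b) +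
        (c0 + c1 * (a + 1) + c2 * (b + 1) + c3 * ((b + 1) * (a + 1))) =
        (c0 + c0) + (c1 * a + c1 * a) + (c2 * b + c2 * b) + c1 + c2 + c3 * (c + 1) := by
      rw [hc]; noncomm_ring
    rw [this, h2 c0, h2 (c1 * a), h2 (c2 * b), add_zero, add_zero, zero_add]
    exact add_mem (add_mem m1 m2) (mul_mem m3 (add_mem hcZ (one_mem _)))
  set w := M.ρ g + M.ρ g⁻¹
  obtain ⟨wa, wb⟩ := hcomm w hsum
  have hh : h ∈ Subgroup.closure {x, y} := hgen ▸ Subgroup.mem_top h
  refine Subgroup.closure_induction (p := fun z _ => Commute (M.ρ z) w) ?_ ?_ ?_ ?_ hh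
  · rintro z (rfl | rfl)
    · exact wa
    · exact wb
  · rw [map_one]; exact Commute.one_left _
  · intro u v _ _ hu hv; rw [map_mul]; exact hu.mul_left hv
  · intro u _ hu
    have e1 : M.ρ u⁻¹ * M.ρ u = 1 := by rw [← map_mul, inv_mul_cancel, map_one]
    have e2 : M.ρ u * M.ρ u⁻¹ = 1 := by rw [← map_mul, mul_inv_cancel, map_one]
    show M.ρ u⁻¹ * w = w * M.ρ u⁻¹
    calc M.ρ u⁻¹ * w = M.ρ u⁻¹ * (w * M.ρ u) * M.ρ u⁻¹ := by rw [mul_assoc, mul_assoc w, e2, mul_one]
      _ = M.ρ u⁻¹ * (M.ρ u * w) * M.ρ u⁻¹ := by rw [hu.eq]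
      _ = _ := by rw [← mul_assoc (M.ρ u⁻¹), e1, one_mul]

include M hx hy in
/-- No element of order a prime `p ≥ 7` is conjugate to its fourth power in a group generated by two elements
of order three. -/
theorem not_conj_pow_four [Nontrivial A] [Finite Q] (hgen : Subgroup.closure {x, y} = ⊤) {p : ℕ} (hp : p.Prime)
    (h7 : 7 ≤ p) {u g : Q} (hu : orderOf u = p) (hg : g * u * g⁻¹ = u ^ 4) : False := by
  set w := M.ρ u + M.ρ u⁻¹
  have hc := M.commute_add_inv hx hy hgen u g
  have e1 : M.ρ g * w = M.ρ (g * u) + M.ρ (g * u⁻¹) := by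
    show M.ρ g * (M.ρ u + M.ρ u⁻¹) = _
    rw [mul_add, map_mul, map_mul]
  have hg' : g * u⁻¹ = (u ^ 4)⁻¹ * g := by rw [← hg]; group
  rw [hc.eq, mul_inv_eq_iff_eq_mul.mp hg, hg', map_mul, map_mul, ← add_mul] at e1
  have e2 : w = M.ρ (u ^ 4) + M.ρ (u ^ 4)⁻¹ := by
    have e3 : M.ρ g * M.ρ g⁻¹ = 1 := by rw [← map_mul, mul_inv_cancel, map_one]
    calc w = w * (M.ρ g * M.ρ g⁻¹) := by rw [e3, mul_one]
      _ = _ := by rw [← mul_assoc, e1, mul_assoc, e3, mul_one]
  -- multiply by `u ^ 4`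
  have e4 : M.ρ (u ^ 4) * w = M.ρ (u ^ 5) + M.ρ (u ^ 3) := by
    show M.ρ (u ^ 4) * (M.ρ u + M.ρ u⁻¹) = _
    rw [mul_add, ← map_mul, ← map_mul, ← pow_succ, show u ^ 4 * u⁻¹ = u ^ 3 by group]
  rw [e2, mul_add, ← map_mul, ← map_mul, mul_inv_cancel, map_one, ← pow_add] at e4
  obtain ⟨a, ha⟩ := exists_ne (0 : A)
  have e5 : M.ρ (u ^ 5) (M.ρ (u ^ 3) a + a) = M.ρ (u ^ 3) a + a := by
    have e6 : M.ρ (u ^ (4 + 4)) a + a = M.ρ (u ^ 5) a + M.ρ (u ^ 3) a := DFunLike.congr_fun e4 a
    rw [map_add, ← apply_mul, ← pow_add]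
    show M.ρ (u ^ 8) a + M.ρ (u ^ 5) a = _
    have : M.ρ (u ^ (4 + 4)) a = M.ρ (u ^ 5) a + M.ρ (u ^ 3) a + a := by
      rw [← e6, add_assoc, M.two, add_zero]
    rw [show u ^ 8 = u ^ (4 + 4) from rfl, this]
    have e7 := M.two (M.ρ (u ^ 5) a)
    calc M.ρ (u ^ 5) a + M.ρ (u ^ 3) a + a + M.ρ (u ^ 5) a
        = (M.ρ (u ^ 5) a + M.ρ (u ^ 5) a) + (M.ρ (u ^ 3) a + a) := by abel
      _ = _ := by rw [e7, zero_add]
  have hne : ∀ k, 0 < k → k < p → u ^ k ≠ 1 ∧ Odd (orderOf (u ^ k)) := fun k h0 hk =>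
    ⟨pow_ne_one_of_lt_orderOf h0.ne' (hu.symm ▸ hk),
      ((hp.odd_of_ne_two (by omega))).of_dvd_nat (hu ▸ orderOf_pow_dvd k)⟩
  have h5 := hne 5 (by norm_num) (by omega)
  have h3 := hne 3 (by norm_num) (by omega)
  have h0 := M.fpf _ h5.1 h5.2 _ e5
  refine ha (M.fpf _ h3.1 h3.2 a ?_)
  rw [eq_neg_of_add_eq_zero_left h0, M.neg_eq]

end TwoThree

end FpfMod

end CfsgLib.CIT
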