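import Cfsg.Agent.Lib.CIT.TI
import Cfsg.Agent.Lib.CIT.Module
import Cfsg.Agent.Lib.PSL2.BorelUnique

/-!
The possible simple groups, and those among them without a fixed-point-free module in characteristic two.
-/

set_option autoImplicit false
set_option linter.unusedSectionVars false
set_option linter.style.haveILetI false

namespace CfsgLib.CIT

open Subgroup
open scoped MatrixGroups

universe u v

/-- `PSL₂` over nine elements or over a Fermat or Mersenne prime field with at least seven elements. -/
def OddLinType (G : Type u) [Group G] : Prop :=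
  ∃ (F : Type) (_ : Field F) (_ : Fintype F),
    (Fintype.card F = 9 ∨ (7 ≤ Fintype.card F ∧ (Fintype.card F).Prime ∧
      ∃ k : ℕ, Fintype.card F = 2 ^ k + 1 ∨ Fintype.card F + 1 = 2 ^ k)) ∧
    Nonempty (G ≃* Matrix.ProjectiveSpecialLinearGroup (Fin 2) F)

/-- `PSL₃` over four elements. -/
def L34Type (G : Type u) [Group G] : Prop :=
  ∃ (F : Type) (_ : Field F) (_ : Fintype F), Fintype.card F = 4 ∧
    Nonempty (G ≃* Matrix.ProjectiveSpecialLinearGroup (Fin 3) F)

/-- The classification of the simple groups in question, with the data used by induction. -/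
def Outcome (G : Type u) [Group G] : Prop :=
  (IsTI G ∧ (LinType G ∨ SuzType G)) ∨ OddLinType G ∨ L34Type G

/-- The classification holds below order `m`. -/
def Below (m : ℕ) : Prop :=
  ∀ (H : Type u) [Group H] [Finite H] [IsSimpleGroup H], Nat.card H < m → (∃ a b : H, a * b ≠ b * a) → IsCIT H →
    Outcome H

namespace FpfMod

variable {Q : Type u} [Group Q] {A : Type v} [AddCommGroup A]

/-- Restriction along an injective homomorphism. -/
def comap {P : Type*} [Group P] (M : FpfMod Q A) (f : P →* Q) (hf : Function.Injective f) : FpfMod P A where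
  ρ := M.ρ.comp f
  two := M.two
  fpf q hq ho := M.fpf (f q) (fun e => hq (hf (e.trans (map_one f).symm))) (by rwa [orderOf_injective f hf q])

variable [Finite Q] [Nontrivial A]

theorem no_L34 (M : FpfMod Q A) (h : L34Type Q) : False := by
  obtain ⟨F, iF, iFt, hF, ⟨e⟩⟩ := h
  classical
  set N := M.comap e.symm.toMonoidHom e.symm.injective
  obtain ⟨w, hw⟩ : ∃ w : F, w * w + w + 1 = 0 := by
    obtain ⟨w, hw⟩ : ∃ w : F, w ∉ ({0, 1} : Finset F) := by
      by_contra hh
      push Not at hh
      have := Finset.card_le_card (show (Finset.univ : Finset F) ⊆ {0, 1} from fun x _ => hh x)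
      rw [Finset.card_univ, hF] at this
      have := Finset.card_le_two (a := (0 : F)) (b := 1)
      omega
    simp only [Finset.mem_insert, Finset.mem_singleton, not_or] at hw
    refine ⟨w, ?_⟩
    have h3 : w ^ 3 = 1 := by
      have := FiniteField.pow_card_sub_one_eq_one w hw.1
      rwa [hF] at this
    have : (w - 1) * (w * w + w + 1) = 0 := by linear_combination h3
    exact (mul_eq_zero.mp this).resolve_left (sub_ne_zero.mpr hw.2)
  have hw3 : w * (w * w) = 1 := by linear_combination (w - 1) * hw
  have hw1 : w ≠ 1 := fun e1 => by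
    subst e1
    have h3 : ((3 : ℕ) : F) = 0 := by
      push_cast
      linear_combination hw
    have hchar : ((4 : ℕ) : F) = 0 := by rw [← hF]; exact Nat.cast_card_eq_zero F
    have : (1 : F) = 0 := by
      push_cast at h3 hchar
      linear_combination hchar - h3
    exact one_ne_zero this
  let x₀ : Matrix.SpecialLinearGroup (Fin 3) F := ⟨!![1, 0, 0; 0, w, 0; 0, 0, w * w], by
    simp [Matrix.det_fin_three]; linear_combination hw3⟩
  let y₀ : Matrix.SpecialLinearGroup (Fin 3) F := ⟨!![0, 1, 0; 0, 0, 1; 1, 0, 0], by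
    simp [Matrix.det_fin_three]⟩
  let z₀ : Matrix.SpecialLinearGroup (Fin 3) F := ⟨Matrix.scalar (Fin 3) w, by
    simp [Matrix.det_fin_three, Matrix.diagonal]; linear_combination hw3⟩
  let π : Matrix.SpecialLinearGroup (Fin 3) F →* Matrix.ProjectiveSpecialLinearGroup (Fin 3) F :=
    QuotientGroup.mk' _
  have hker : ∀ g, π g = 1 ↔ g ∈ Subgroup.center _ := fun g => QuotientGroup.eq_one_iff g
  have hz : π z₀ = 1 := (hker _).mpr (Matrix.SpecialLinearGroup.mem_center_iff.mpr
    ⟨w, by rw [Fintype.card_fin]; linear_combination hw3, rfl⟩)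
  have hdiag : ∀ g : Matrix.SpecialLinearGroup (Fin 3) F, π g = 1 →
      g.1 0 1 = 0 ∧ g.1 0 0 = g.1 1 1 ∧ g.1 0 2 = 0 := fun g hg => by
    obtain ⟨r, -, hr⟩ := Matrix.SpecialLinearGroup.mem_center_iff.mp ((hker g).mp hg)
    rw [← hr]
    simp
  have hx3 : x₀ ^ 3 = 1 := by
    apply Subtype.ext
    rw [pow_succ, sq, Matrix.SpecialLinearGroup.coe_mul, Matrix.SpecialLinearGroup.coe_mul,
      Matrix.SpecialLinearGroup.coe_one]
    ext i j
    fin_cases i <;> fin_cases j <;> simp [x₀, Matrix.mul_apply, Fin.sum_univ_three] <;>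
      first | linear_combination hw3 | linear_combination (w ^ 3 + 1) * hw3
  have hy3 : y₀ ^ 3 = 1 := by
    apply Subtype.ext
    rw [pow_succ, sq, Matrix.SpecialLinearGroup.coe_mul, Matrix.SpecialLinearGroup.coe_mul,
      Matrix.SpecialLinearGroup.coe_one]
    ext i j
    fin_cases i <;> fin_cases j <;> simp [y₀, Matrix.mul_apply, Fin.sum_univ_three]
  have hxy : x₀ * y₀ * z₀ = y₀ * x₀ := by
    apply Subtype.ext
    simp only [Matrix.SpecialLinearGroup.coe_mul]
    ext i j
    fin_cases i <;> fin_cases j <;>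
      simp [x₀, y₀, z₀, Matrix.mul_apply, Fin.sum_univ_three, Matrix.diagonal, mul_assoc, hw3]
  have hord : ∀ g : Matrix.SpecialLinearGroup (Fin 3) F, g ^ 3 = 1 → π g ≠ 1 → orderOf (π g) = 3 := fun g h1 h2 =>
    orderOf_eq_prime (by rw [← map_pow, h1, map_one]) h2
  have hx1 : π x₀ ≠ 1 := fun hh => hw1 (by simpa [x₀] using (hdiag _ hh).2.1.symm)
  have hy1 : π y₀ ≠ 1 := fun hh => by simpa [y₀] using (hdiag _ hh).1
  haveI : Finite (Matrix.ProjectiveSpecialLinearGroup (Fin 3) F) := Quotient.finite _
  have hmem := N.mem_zpowers_of_comm (p := 3) Nat.prime_three (by norm_num) (hord _ hx3 hx1) (hord _ hy3 hy1)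
    (by
      show π x₀ * π y₀ = π y₀ * π x₀
      rw [← map_mul, ← map_mul, ← hxy, map_mul _ _ z₀, hz, mul_one])
  rw [mem_zpowers_iff_mem_range_orderOf, hord _ hx3 hx1, Finset.mem_image] at hmem
  obtain ⟨j, hj, hje⟩ := hmem
  have hj3 := Finset.mem_range.mp hj
  have := (hdiag (x₀ ^ j * (y₀ * y₀)) (by
    rw [map_mul, map_mul, map_pow, hje, ← map_mul, ← map_mul, ← mul_assoc, ← sq, ← pow_succ, hy3, map_one])).2.2
  rw [Matrix.SpecialLinearGroup.coe_mul, Matrix.SpecialLinearGroup.coe_mul, Matrix.SpecialLinearGroup.coe_pow] at this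
  interval_cases j <;> simp [x₀, y₀, sq, Matrix.mul_apply, Fin.sum_univ_three] at this

theorem no_oddLin (M : FpfMod Q A) (h : OddLinType Q) : False := by
  obtain ⟨F, iF, iFt, hF, ⟨e⟩⟩ := h
  classical
  set N := M.comap e.symm.toMonoidHom e.symm.injective
  haveI : Finite (Matrix.ProjectiveSpecialLinearGroup (Fin 2) F) := Quotient.finite _
  rcases hF with h9 | ⟨h7, hp, -⟩
  · haveI : CharP F 3 := by
      haveI : Fact (Nat.Prime 3) := ⟨Nat.prime_three⟩
      exact charP_of_card_eq_prime_pow (f := 2) (by rw [h9]; norm_num)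
    obtain ⟨θ, hθ⟩ : ∃ θ : F, θ ∉ ({0, 1, 2} : Finset F) := by
      by_contra hh
      push Not at hh
      have := Finset.card_le_card (show (Finset.univ : Finset F) ⊆ {0, 1, 2} from fun x _ => hh x)
      rw [Finset.card_univ, h9] at this
      have := Finset.card_le_three (a := (0 : F)) (b := 1) (c := 2)
      omega
    simp only [Finset.mem_insert, Finset.mem_singleton, not_or] at hθ
    have hord : ∀ t : F, t ≠ 0 → orderOf (PSL2.uu t) = 3 := fun t ht => by
      haveI : Fact (Nat.Prime 3) := ⟨Nat.prime_three⟩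
      refine orderOf_eq_prime ?_ fun hh => ht (PSL2.uu_injective (hh.trans (map_one _).symm))
      rw [← map_pow, ← ofAdd_nsmul, nsmul_eq_mul, CharP.cast_eq_zero, zero_mul]
      exact map_one _
    have hmem := N.mem_zpowers_of_comm (p := 3) Nat.prime_three (by norm_num) (hord 1 one_ne_zero) (hord θ hθ.1)
      ((Commute.all (Multiplicative.ofAdd (1 : F)) (Multiplicative.ofAdd θ)).map PSL2.uHom)
    rw [mem_zpowers_iff_mem_range_orderOf, hord 1 one_ne_zero, Finset.mem_image] at hmem
    obtain ⟨j, hj, hje⟩ := hmem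
    rw [← map_pow, ← ofAdd_nsmul] at hje
    have := PSL2.uu_injective (show PSL2.uu (j • (1 : F)) = PSL2.uu θ from hje)
    rw [nsmul_one] at this
    have hj3 := Finset.mem_range.mp hj
    interval_cases j
    · exact hθ.1 (by simpa using this.symm)
    · exact hθ.2.1 (by simpa using this.symm)
    · exact hθ.2.2 (by simpa using this.symm)
  · haveI : Fact (Fintype.card F).Prime := ⟨hp⟩
    set p := Fintype.card F with hpF
    haveI : CharP F p := charP_of_card_eq_prime_pow (f := 1) (by rw [pow_one])
    haveI : IsSimpleGroup (Matrix.ProjectiveSpecialLinearGroup (Fin 2) F) :=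
      Matrix.ProjectiveSpecialLinearGroup.rank_two_simple (by rw [Nat.card_eq_fintype_card, ← hpF]; omega)
    let S₀ : Matrix.SpecialLinearGroup (Fin 2) F := ⟨!![0, 1; -1, 0], by simp [Matrix.det_fin_two_of]⟩
    set S := PSL2.mk S₀ with hS
    set T := PSL2.uu (1 : F) with hT
    have hS2 : S * S = 1 := by
      rw [hS, ← map_mul, ← map_one PSL2.mk, PSL2.mk_eq_mk]
      right
      rw [Matrix.SpecialLinearGroup.coe_mul, Matrix.SpecialLinearGroup.coe_one]
      ext i j
      fin_cases i <;> fin_cases j <;> simp [S₀, Matrix.SpecialLinearGroup.coe_mul, Matrix.mul_apply, Fin.sum_univ_two]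
    have hord : ∀ g : Matrix.SpecialLinearGroup (Fin 2) F, g ^ 3 = 1 → PSL2.mk g ≠ 1 → orderOf (PSL2.mk g) = 3 :=
      fun g h1 h2 => orderOf_eq_prime (by rw [← map_pow, h1, map_one]) h2
    have hx : orderOf (S * T) = 3 := by
      rw [hS, hT, PSL2.uu_eq, ← map_mul]
      refine hord _ ?_ ?_
      · apply Subtype.ext
        rw [pow_succ, sq, Matrix.SpecialLinearGroup.coe_mul, Matrix.SpecialLinearGroup.coe_mul,
          Matrix.SpecialLinearGroup.coe_mul, Matrix.SpecialLinearGroup.coe_one, PSL2.coe_uSL]
        ext i j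
        fin_cases i <;> fin_cases j <;> simp [S₀, Matrix.mul_apply, Fin.sum_univ_two]
      · intro hh
        rw [← map_one PSL2.mk, PSL2.mk_eq_mk, Matrix.SpecialLinearGroup.coe_mul, Matrix.SpecialLinearGroup.coe_one] at hh
        rcases hh with hh | hh
        · simpa [S₀, PSL2.coe_uSL, Matrix.SpecialLinearGroup.coe_mul, Matrix.mul_apply, Fin.sum_univ_two] using congrFun (congrFun hh 0) 0
        · simpa [S₀, PSL2.coe_uSL, Matrix.SpecialLinearGroup.coe_mul, Matrix.mul_apply, Fin.sum_univ_two] using congrFun (congrFun hh 0) 0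
    have hy : orderOf (T * S) = 3 := by
      rw [show T * S = T * (S * T) * T⁻¹ by group, Involutions.orderOf_conj]
      exact hx
    set H := Subgroup.closure ({S * T, T * S} : Set (Matrix.ProjectiveSpecialLinearGroup (Fin 2) F)) with hH
    have hxH : S * T ∈ H := Subgroup.subset_closure (by simp)
    have hyH : T * S ∈ H := Subgroup.subset_closure (by simp)
    have hSn : S ∈ normalizer (H : Set (Matrix.ProjectiveSpecialLinearGroup (Fin 2) F)) := by
      have key : ∀ g ∈ H, S * g * S⁻¹ ∈ H := by
        intro g hg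
        induction hg using Subgroup.closure_induction with
        | mem z hz =>
          rw [inv_eq_of_mul_eq_one_right hS2]
          rcases hz with rfl | rfl
          · rw [show S * (S * T) * S = (S * S) * (T * S) by group, hS2, one_mul]; exact hyH
          · rw [show S * (T * S) * S = S * T * (S * S) by group, hS2, mul_one]; exact hxH
        | one => simp
        | mul a b _ _ ha hb =>
          rw [show S * (a * b) * S⁻¹ = S * a * S⁻¹ * (S * b * S⁻¹) by group]
          exact mul_mem ha hb
        | inv a _ ha =>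
          rw [show S * a⁻¹ * S⁻¹ = (S * a * S⁻¹)⁻¹ by group]
          exact inv_mem ha
      exact Subgroup.mem_normalizer_iff.mpr fun g => ⟨key g, fun hg => by
        have := key _ hg
        rwa [show S * (S * g * S⁻¹) * S⁻¹ = (S * S) * g * (S * S)⁻¹ by group, hS2, one_mul, inv_one, mul_one] at this⟩
    have hTn : T ∈ normalizer (H : Set (Matrix.ProjectiveSpecialLinearGroup (Fin 2) F)) := by
      have := mul_mem hSn (Subgroup.le_normalizer hxH)
      rwa [← mul_assoc, hS2, one_mul] at this
    have hall : normalizer (H : Set (Matrix.ProjectiveSpecialLinearGroup (Fin 2) F)) = ⊤ := by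
      by_contra hne
      have hle := PSL2.le_normalizer_of_uRange_le (M := normalizer (H : Set _)) (fun g hg => by
        obtain ⟨t, rfl⟩ := hg
        obtain ⟨j, hj⟩ : ∃ j : ℕ, (j : F) = t.toAdd := by
          obtain ⟨c, hc⟩ := (ZMod.castHom_bijective (n := p) F hpF.symm).2 t.toAdd
          exact ⟨c.val, by rw [← hc, ZMod.castHom_apply, ZMod.natCast_val]⟩
        have : t = (Multiplicative.ofAdd (1 : F)) ^ j := by
          rw [← ofAdd_nsmul, nsmul_one, hj]; rfl
        rw [this, map_pow]
        exact pow_mem hTn j) hne hSn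
      have := PSL2.upper_of_normalizes S₀ ((Subgroup.mem_normalizer_iff.mp hle (PSL2.uu 1)).mp ⟨_, rfl⟩)
      simp [S₀] at this
    haveI : H.Normal := normalizer_eq_top_iff.mp hall
    have hgen : H = ⊤ := ((inferInstance : H.Normal).eq_bot_or_eq_top).resolve_left fun hh => by
      rw [hh, Subgroup.mem_bot] at hxH
      rw [hxH, orderOf_one] at hx
      omega
    have h20 : (2 : F) ≠ 0 := by
      intro h2
      have h2' : ((2 : ℕ) : F) = 0 := by exact_mod_cast h2
      rw [CharP.cast_eq_zero_iff F p] at h2'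
      have := Nat.le_of_dvd (by norm_num) h2'
      omega
    refine N.not_conj_pow_four (p := p) hx hy hgen hp h7 (u := T) (g := PSL2.mk (PSL2.dSL 2 h20)) ?_ ?_
    · refine orderOf_eq_prime ?_ fun hh => one_ne_zero (PSL2.uu_injective (hh.trans (map_one _).symm))
      rw [hT, ← map_pow, ← ofAdd_nsmul, nsmul_one, CharP.cast_eq_zero]
      exact map_one _
    · rw [hT, PSL2.conj_uu_of_upper _ (by simp [PSL2.coe_dSL]), ← map_pow, ← ofAdd_nsmul]
      congr 2
      simp [PSL2.coe_dSL]
      norm_num

end FpfMod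

end CfsgLib.CIT
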