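import Cfsg.Agent.Lib.CIT.Module
import Cfsg.Agent.Lib.CIT.Outcome
import Cfsg.Agent.Lib.PSL2.Aut

/-!
A fixed-point-free module of order `q ^ 2` for `SL₂(q)`, `q` even, has the coordinates of the natural module.
-/

set_option autoImplicit false
set_option linter.unusedSectionVars false

namespace CfsgLib.CIT

open Matrix
open CfsgLib.PSL2 (uSL coe_uSL)

universe v

variable {F : Type} [Field F] [CharP F 2]

local notation "SL2" => Matrix.SpecialLinearGroup (Fin 2) F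

/-- The standard diagonal elements. -/
def dg (c : F) (hc : c ≠ 0) : SL2 := ⟨!![c, 0; 0, c⁻¹], by simp [Matrix.det_fin_two_of, hc]⟩

/-- The standard Weyl element. -/
def ww : SL2 := ⟨!![0, 1; 1, 0], by simp [Matrix.det_fin_two_of, CharTwo.neg_eq]⟩

theorem coe_dg (c : F) (hc : c ≠ 0) : (dg c hc).1 = !![c, 0; 0, c⁻¹] := rfl

theorem coe_ww : (ww : SL2).1 = !![0, 1; 1, 0] := rfl

theorem uSL_mul (a b : F) : (uSL a : SL2) * uSL b = uSL (a + b) := by
  apply Subtype.ext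
  simp [coe_uSL, Matrix.mul_fin_two, add_comm]

theorem uSL_zero : (uSL (0 : F) : SL2) = 1 := Subtype.ext (by simp [coe_uSL, Matrix.one_fin_two])

theorem dg_mul (c d : F) (hc : c ≠ 0) (hd : d ≠ 0) :
    dg c hc * dg d hd = dg (c * d) (mul_ne_zero hc hd) := by
  apply Subtype.ext
  rw [Matrix.SpecialLinearGroup.coe_mul]
  ext i j
  fin_cases i <;> fin_cases j <;> simp [coe_dg, coe_ww, coe_uSL, Matrix.mul_apply, Fin.sum_univ_two, mul_comm]

theorem dg_conj (c a : F) (hc : c ≠ 0) : dg c hc * uSL a = uSL (c ^ 2 * a) * dg c hc := by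
  apply Subtype.ext
  rw [Matrix.SpecialLinearGroup.coe_mul, Matrix.SpecialLinearGroup.coe_mul]
  ext i j
  fin_cases i <;> fin_cases j <;> simp [coe_dg, coe_uSL, Matrix.mul_apply, Fin.sum_univ_two] <;> field_simp

theorem ww_dg (c : F) (hc : c ≠ 0) : dg c hc * ww = ww * dg c⁻¹ (inv_ne_zero hc) := by
  apply Subtype.ext
  rw [Matrix.SpecialLinearGroup.coe_mul, Matrix.SpecialLinearGroup.coe_mul]
  ext i j
  fin_cases i <;> fin_cases j <;> simp [coe_dg, coe_ww, Matrix.mul_apply, Fin.sum_univ_two]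

theorem ww_sq : (ww : SL2) * ww = 1 := by
  apply Subtype.ext
  rw [Matrix.SpecialLinearGroup.coe_mul]
  ext i j
  fin_cases i <;> fin_cases j <;> simp [coe_ww, Matrix.mul_apply, Fin.sum_univ_two]

theorem upper_eq (g : SL2) (h10 : g.1 1 0 = 0) :
    ∃ (h : g.1 0 0 ≠ 0) (x : F), g = dg (g.1 0 0) h * uSL x ∧ g.1 1 1 = (g.1 0 0)⁻¹ := by
  have hdet := g.2
  rw [Matrix.det_fin_two, h10, mul_zero, sub_zero] at hdet
  have h : g.1 0 0 ≠ 0 := left_ne_zero_of_mul_eq_one hdet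
  have h11 : g.1 1 1 = (g.1 0 0)⁻¹ := eq_inv_of_mul_eq_one_right hdet
  refine ⟨h, g.1 0 1 / g.1 0 0, Subtype.ext ?_, h11⟩
  rw [Matrix.SpecialLinearGroup.coe_mul]
  ext i j
  fin_cases i <;> fin_cases j <;> simp [coe_dg, coe_uSL, Matrix.mul_apply, Fin.sum_univ_two, h10, h11, mul_div_cancel₀ _ h]

variable {A : Type v} [AddCommGroup A] [Finite A] [Nontrivial A] [Fintype F]

/-- The coordinates. -/
theorem natural (M : FpfMod SL2 A) {q : ℕ} (hq : Fintype.card F = q) (hA : Nat.card A = q ^ 2)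
    (L : AddSubgroup A) (hL : Nat.card L = q) (hfix : ∀ a : F, a ≠ 0 → M.fix (uSL a) = L) :
    ∃ (ι : F →+ A) (ψ : A →+ F), Function.Injective ι ∧ (∀ a, ι a ∈ L) ∧ (∀ x ∈ L, ∃ a, ι a = x) ∧
      (∀ z, ψ z = 0 ↔ z ∈ L) ∧ (∀ g : SL2, g.1 1 0 = 0 → ∀ a, M.ρ g (ι a) = ι (g.1 0 0 * a)) ∧
      ∀ g : SL2, g.1 1 0 = 0 → ∀ z, ψ (M.ρ g z) = g.1 1 1 * ψ z := by
  classical
  have hfu : ∀ (a : F) (l : A), l ∈ L → M.ρ (uSL a) l = l := fun a l hl => by
    by_cases ha : a = 0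
    · rw [ha, uSL_zero, M.apply_one]
    · rw [← hfix a ha] at hl; exact hl
  have hN : ∀ (a : F) (z : A), M.ρ (uSL a) z + z ∈ L := fun a z => by
    by_cases ha : a = 0
    · rw [ha, uSL_zero, M.apply_one, M.two]; exact L.zero_mem
    · rw [← hfix a ha, FpfMod.mem_fix, map_add, ← M.apply_mul, uSL_mul, CharTwo.add_self_eq_zero, uSL_zero,
        M.apply_one, add_comm]
  have h2F : (1 : F) + 1 = 0 := CharTwo.add_self_eq_zero 1
  have ho3 : ∀ X : SL2, X ^ 3 = 1 → X.1 1 0 ≠ 0 → orderOf X = 3 := fun X h3 h1 => by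
    haveI : Fact (Nat.Prime 3) := ⟨Nat.prime_three⟩
    refine orderOf_eq_prime h3 fun e => h1 ?_
    rw [e]
    simp
  -- the two lines
  have hzero : ∀ l ∈ L, M.ρ ww l ∈ L → l = 0 := by
    intro l hl hwl
    have hx : orderOf ((uSL (1 : F) : SL2) * (ww * uSL 1 * ww)) = 3 := by
      refine ho3 _ ?_ ?_
      · apply Subtype.ext
        rw [pow_succ, sq]
        simp only [Matrix.SpecialLinearGroup.coe_mul, Matrix.SpecialLinearGroup.coe_one, coe_uSL, coe_ww]
        ext i j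
        fin_cases i <;> fin_cases j <;> simp [Matrix.mul_apply, Fin.sum_univ_two, h2F]
      · simp [Matrix.SpecialLinearGroup.coe_mul, coe_uSL, coe_ww, Matrix.mul_apply, Fin.sum_univ_two, h2F]
    refine M.fpf ((uSL (1 : F) : SL2) * (ww * uSL 1 * ww)) (fun e => by rw [e, orderOf_one] at hx; omega)
      (by rw [hx]; decide) l ?_
    simp only [M.apply_mul]
    rw [hfu _ _ hwl, ← M.apply_mul ww ww, ww_sq, M.apply_one, hfu _ _ hl]
  let Φ : L × L → A := fun p => (p.1 : A) + M.ρ ww p.2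
  have hΦ : Function.Injective Φ := by
    rintro ⟨a, b⟩ ⟨a', b'⟩ e
    have e' : (a : A) + M.ρ ww b = a' + M.ρ ww b' := e
    have h1 : M.ρ ww ((b : A) - b') = (a' : A) - a := by
      rw [map_sub, sub_eq_sub_iff_add_eq_add, add_comm, e', add_comm]
    have h0 := hzero _ (L.sub_mem b.2 b'.2) (by rw [h1]; exact L.sub_mem a'.2 a.2)
    have hb : b = b' := Subtype.ext (sub_eq_zero.mp h0)
    subst hb
    exact Prod.ext (Subtype.ext (add_right_cancel e')) rfl
  have hΦb : Function.Bijective Φ :=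
    (Nat.bijective_iff_injective_and_card Φ).mpr ⟨hΦ, by rw [Nat.card_prod, hL, hA, sq]⟩
  choose co hco using hΦb.2
  have huniq : ∀ (a b : L) (z : A), (a : A) + M.ρ ww b = z → co z = (a, b) := fun a b z e =>
    hΦ ((hco z).trans e.symm)
  -- translations
  let P : F → L → L := fun a l => ⟨M.ρ (uSL a) (M.ρ ww l) + M.ρ ww l, hN a _⟩
  have hu : ∀ a (l : L), M.ρ (uSL a) (M.ρ ww (l : A)) = (P a l : A) + M.ρ ww l := fun a l => by
    show _ = M.ρ (uSL a) (M.ρ ww (l : A)) + M.ρ ww l + M.ρ ww l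
    rw [add_assoc, M.two, add_zero]
  have hPadd : ∀ a b l, P (a + b) l = P a l + P b l := fun a b l => Subtype.ext (by
    show _ = (P a l : A) + P b l
    have := hu (a + b) l
    rw [← uSL_mul, M.apply_mul, hu b, map_add, hfu a _ (P b l).2, hu a, ← add_assoc] at this
    rw [add_comm (P b l : A)] at this
    exact (add_right_cancel this).symm)
  have hP1 : ∀ l, P 1 l = l := by
    intro l
    have hx : orderOf ((uSL (1 : F) : SL2) * ww) = 3 := by
      refine ho3 _ ?_ ?_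
      · apply Subtype.ext
        rw [pow_succ, sq]
        simp only [Matrix.SpecialLinearGroup.coe_mul, Matrix.SpecialLinearGroup.coe_one, coe_uSL, coe_ww]
        ext i j
        fin_cases i <;> fin_cases j <;> simp [Matrix.mul_apply, Fin.sum_univ_two, h2F]
      · simp [Matrix.SpecialLinearGroup.coe_mul, coe_uSL, coe_ww, Matrix.mul_apply, Fin.sum_univ_two]
    have h := M.sq_eq_add_one hx (l : A)
    rw [M.apply_mul, M.apply_mul, hu 1 l, map_add, ← M.apply_mul ww ww, ww_sq, M.apply_one, map_add,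
      hu 1 (P 1 l), hfu 1 _ l.2] at h
    have h' : Φ ((P 1 (P 1 l)) + l, P 1 l) = Φ (P 1 l + l, l) := by
      show ((P 1 (P 1 l) : A) + l) + M.ρ ww (P 1 l : A) = ((P 1 l : A) + l) + M.ρ ww (l : A)
      rw [add_right_comm, h, add_right_comm]
    exact (Prod.ext_iff.mp (hΦ h')).2
  -- the torus
  have hτmem : ∀ (c : F) (hc : c ≠ 0) (l : A), l ∈ L → M.ρ (dg c hc) l ∈ L := fun c hc l hl => by
    rw [← hfix 1 one_ne_zero, FpfMod.mem_fix, ← M.apply_mul,
      show (uSL (1 : F) : SL2) * dg c hc = dg c hc * uSL ((c ^ 2)⁻¹) by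
        rw [dg_conj, mul_inv_cancel₀ (pow_ne_zero 2 hc)], M.apply_mul, hfu _ _ hl]
  let τ : ∀ c : F, c ≠ 0 → L → L := fun c hc l => ⟨M.ρ (dg c hc) l, hτmem c hc l l.2⟩
  have hdw : ∀ (c : F) (hc : c ≠ 0) (l : A), M.ρ (dg c hc) (M.ρ ww l) = M.ρ ww (M.ρ (dg c⁻¹ (inv_ne_zero hc)) l) :=
    fun c hc l => by rw [← M.apply_mul, ww_dg, M.apply_mul]
  have hdg1 : ∀ (c : F) (hc : c ≠ 0) (l : A), M.ρ (dg c hc) (M.ρ (dg c⁻¹ (inv_ne_zero hc)) l) = l := fun c hc l => by
    rw [← M.apply_mul, dg_mul, show dg (c * c⁻¹) (mul_ne_zero hc (inv_ne_zero hc)) = 1 from Subtype.ext (by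
      simp [dg, mul_inv_cancel₀ hc, Matrix.one_fin_two]), M.apply_one]
  have hPsq : ∀ (c : F) (hc : c ≠ 0) (l : L), P (c ^ 2) l = τ c hc (τ c hc l) := by
    intro c hc l
    apply Subtype.ext
    have h1 : M.ρ (uSL (c ^ 2)) (M.ρ (dg c hc) (M.ρ ww (τ c hc l : A))) =
        M.ρ (dg c hc) (M.ρ (uSL 1) (M.ρ ww (τ c hc l : A))) := by
      rw [← M.apply_mul (dg c hc) (uSL 1), ← M.apply_mul (uSL (c ^ 2)), dg_conj, mul_one]
    have h2 : M.ρ (dg c hc) (M.ρ ww (τ c hc l : A)) = M.ρ ww (l : A) := by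
      have := hdw c hc (τ c hc l : A)
      rw [this]
      congr 1
      show M.ρ (dg c⁻¹ _) (M.ρ (dg c hc) (l : A)) = l
      rw [← M.apply_mul, dg_mul, show dg (c⁻¹ * c) (mul_ne_zero (inv_ne_zero hc) hc) = 1 from Subtype.ext (by
        simp [dg, inv_mul_cancel₀ hc, Matrix.one_fin_two]), M.apply_one]
    rw [h2, hu, hu, hP1, map_add, h2] at h1
    exact add_right_cancel h1
  have hP : ∀ (a : F) (ha : a ≠ 0) (l : L), P a l = τ a ha l := by
    intro a ha l
    obtain ⟨c, rfl⟩ := FiniteField.isSquare_of_char_two (ringChar.eq F 2) a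
    have hc : c ≠ 0 := left_ne_zero_of_mul ha
    have h2 := hPsq c hc l
    rw [sq] at h2
    rw [h2]
    apply Subtype.ext
    show M.ρ (dg c hc) (M.ρ (dg c hc) (l : A)) = M.ρ (dg (c * c) ha) (l : A)
    rw [← M.apply_mul, dg_mul]
  obtain ⟨l₀, hl₀⟩ : ∃ l : L, (l : A) ≠ 0 := by
    have : 1 < Nat.card L := by
      rw [hL, ← hq]; exact Fintype.one_lt_card
    haveI : Nontrivial L := Finite.one_lt_card_iff_nontrivial.mp this
    obtain ⟨l, hl⟩ := exists_ne (0 : L)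
    exact ⟨l, fun e => hl (Subtype.ext e)⟩
  let ι : F →+ A := AddMonoidHom.mk' (fun a => (P a l₀ : A)) fun a b => by rw [hPadd]; rfl
  have hι : Function.Injective ι := by
    rw [injective_iff_map_eq_zero]
    intro a ha
    by_contra hne
    have ha' : (P a l₀ : A) = 0 := ha
    rw [hP a hne] at ha'
    exact hl₀ (M.injective (dg a hne) (ha'.trans (map_zero _).symm))
  have hιsurj : ∀ l : L, ∃ a, ι a = (l : A) := by
    have hb : Function.Bijective (fun a => (⟨ι a, (P a l₀).2⟩ : L)) := by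
      refine (Nat.bijective_iff_injective_and_card _).mpr ⟨fun a b e => hι (congrArg Subtype.val e), ?_⟩
      rw [hL, ← hq, Nat.card_eq_fintype_card]
    intro l
    obtain ⟨a, ha⟩ := hb.2 l
    exact ⟨a, congrArg Subtype.val ha⟩
  choose inv hinv using hιsurj
  have hcoadd : ∀ y z, co (y + z) = co y + co z := fun y z => by
    refine huniq _ _ _ ?_
    have h1 : ((co y).1 : A) + M.ρ ww (co y).2 = y := hco y
    have h2 : ((co z).1 : A) + M.ρ ww (co z).2 = z := hco z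
    simp only [Prod.fst_add, Prod.snd_add, AddSubgroup.coe_add, map_add]
    rw [add_add_add_comm, h1, h2]
  let ψ : A →+ F := AddMonoidHom.mk' (fun z => inv (co z).2) fun y z => by
    apply hι
    rw [map_add, hinv, hinv, hinv, hcoadd]
    rfl
  have hψ : ∀ z, ι (ψ z) = ((co z).2 : A) := fun z => hinv _
  have hdι : ∀ (c : F) (hc : c ≠ 0) (a : F), M.ρ (dg c hc) (ι a) = ι (c * a) := fun c hc a => by
    by_cases ha : a = 0
    · rw [ha, mul_zero, map_zero, map_zero]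
    · show M.ρ (dg c hc) (P a l₀ : A) = (P (c * a) l₀ : A)
      rw [hP a ha, hP _ (mul_ne_zero hc ha)]
      show M.ρ (dg c hc) (M.ρ (dg a ha) (l₀ : A)) = M.ρ (dg (c * a) _) (l₀ : A)
      rw [← M.apply_mul, dg_mul]
  refine ⟨ι, ψ, hι, fun a => (P a l₀).2, fun x hx => ⟨inv ⟨x, hx⟩, hinv ⟨x, hx⟩⟩, fun z => ?_, fun g hg a => ?_,
    fun g hg z => ?_⟩
  · have h1 : ((co z).1 : A) + M.ρ ww (co z).2 = z := hco z
    constructor
    · intro h0
      have := hψ z
      rw [h0, map_zero] at this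
      rw [← this, map_zero, add_zero] at h1
      exact h1 ▸ (co z).1.2
    · intro hz
      apply hι
      rw [hψ, huniq ⟨z, hz⟩ 0 z (by simp), map_zero]
      rfl
  · obtain ⟨h, x, e, -⟩ := upper_eq g hg
    conv_lhs => rw [e, M.apply_mul, hfu x (ι a) (P a l₀).2]
    exact hdι _ h a
  · obtain ⟨h, x, e, h11⟩ := upper_eq g hg
    apply hι
    rw [h11, ← hdι _ (inv_ne_zero h), hψ, hψ]
    have h1 : ((co z).1 : A) + M.ρ ww (co z).2 = z := hco z
    have h2 : co (M.ρ g z) = (τ _ h ((co z).1 + P x (co z).2), τ _ (inv_ne_zero h) (co z).2) := by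
      refine huniq _ _ _ ?_
      show M.ρ (dg _ h) (((co z).1 : A) + (P x (co z).2 : A)) + M.ρ ww (M.ρ (dg _ (inv_ne_zero h)) ((co z).2 : A)) = _
      conv_rhs => rw [e, M.apply_mul, ← h1, map_add, hfu x _ (co z).1.2, hu x, ← add_assoc, map_add, hdw _ h]
    rw [h2]

end CfsgLib.CIT
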