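import Cfsg.Agent.Lib.CIT.Small
import Cfsg.Agent.Lib.CIT.Natural

/-!
Coordinates on the pieces: two pieces in the same 2-group force `q ≤ 4`.
-/

set_option autoImplicit false
set_option linter.unusedSectionVars false
set_option linter.style.haveILetI false

namespace CfsgLib.CIT

open Subgroup Cfsg Matrix
open CfsgLib.PSL2 (uSL coe_uSL)

universe u

variable {G : Type u} [Group G] [Finite G]

namespace Piece

variable {T E : Subgroup G} {n : ℕ} (h : Piece T E n)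

include h

theorem mem_core_iff (x : normalizer (E : Set G)) : x ∈ pCore 2 (normalizer (E : Set G)) ↔ (x : G) ∈ E := by
  have e := SetLike.ext_iff.mp (O2_subgroupOf (normalizer (E : Set G))) x
  rw [Subgroup.mem_subgroupOf] at e
  refine e.symm.trans ?_
  rw [h.core]

theorem mem_Vc_iff (x : normalizer (E : Set G)) : x ∈ Vc (normalizer (E : Set G)) ↔ (x : G) ∈ E := by
  refine ⟨fun hx => (h.mem_core_iff x).mp hx.1, fun hx => ⟨(h.mem_core_iff x).mpr hx, fun d hd => Subtype.ext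
    (h.comm ((h.mem_core_iff d).mp hd) hx), Subtype.ext (h.sq _ hx)⟩⟩

/-- A map onto `SL₂` carrying `T` to the upper unitriangular group. -/
theorem exists_model (hn : 1 ≤ n) :
    ∃ (F : Type) (_ : Field F) (_ : Fintype F) (_ : CharP F 2),
      Fintype.card F = 2 ^ n ∧ ∃ f : normalizer (E : Set G) →* SpecialLinearGroup (Fin 2) F,
      Function.Surjective f ∧ (∀ x, f x = 1 ↔ (x : G) ∈ E) ∧ (∀ x : normalizer (E : Set G), (x : G) ∈ T ↔
        ∃ a : F, f x = uSL a) := by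
  haveI : Fact (Nat.Prime 2) := ⟨Nat.prime_two⟩
  classical
  obtain ⟨F, iF, iFt, hF, f₀, hf₀, hker⟩ := h.quot
  haveI : CharP F 2 := charP_of_card_eq_prime_pow (f := n) hF
  haveI : Finite (Matrix.ProjectiveSpecialLinearGroup (Fin 2) F) := Quotient.finite _
  set P₀ := h.ov.syl.sylow with hP₀
  obtain ⟨g, hg⟩ := MulAction.exists_smul_eq (Matrix.ProjectiveSpecialLinearGroup (Fin 2) F)
    (P₀.mapSurjective (f := f₀) hf₀) (PSL2.uSylow (F := F) 2)
  let c : Matrix.ProjectiveSpecialLinearGroup (Fin 2) F ≃* Matrix.ProjectiveSpecialLinearGroup (Fin 2) F :=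
    MulAut.conj g
  let e := c.trans (CfsgLib.PrimeGraphExt.pslEquiv (F := F))
  have hUR : ((PSL2.uHom : Multiplicative F →* _).range) = ((P₀ : Subgroup _).map f₀).map c.toMonoidHom :=
    (congrArg Sylow.toSubgroup hg).symm
  have hek : ∀ a : F, e.symm (uSL a) = c.symm (PSL2.uu a) := fun a => by
    show c.symm ((CfsgLib.PrimeGraphExt.pslEquiv (F := F)).symm (uSL a)) = c.symm (PSL2.uu a)
    rfl
  have hk : ∀ x : normalizer (E : Set G), f₀ x = 1 ↔ (x : G) ∈ E := fun x => by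
    rw [← MonoidHom.mem_ker, hker, Subgroup.mem_subgroupOf]
  refine ⟨F, iF, iFt, inferInstance, hF, e.toMonoidHom.comp f₀, e.surjective.comp hf₀,
    fun x => e.map_eq_one_iff.trans (hk x), fun x => ⟨fun hx => ?_, ?_⟩⟩
  · have h1 : c (f₀ x) ∈ ((PSL2.uHom : Multiplicative F →* _).range) := by
      rw [hUR]
      exact ⟨f₀ x, ⟨x, Subgroup.mem_subgroupOf.mpr hx, rfl⟩, rfl⟩
    obtain ⟨a, ha⟩ := h1
    refine ⟨a.toAdd, e.symm.injective ?_⟩
    rw [hek, show e.symm ((e.toMonoidHom.comp f₀) x) = f₀ x from e.symm_apply_apply _]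
    exact c.injective (by rw [MulEquiv.apply_symm_apply]; exact ha.symm)
  · rintro ⟨a, ha⟩
    have h1 : c (f₀ x) ∈ ((PSL2.uHom : Multiplicative F →* _).range) := by
      refine ⟨Multiplicative.ofAdd a, ?_⟩
      have h2 := congrArg e.symm ha
      rw [hek, show e.symm ((e.toMonoidHom.comp f₀) x) = f₀ x from e.symm_apply_apply _] at h2
      rw [h2, MulEquiv.apply_symm_apply]
    rw [hUR] at h1
    obtain ⟨_, ⟨y, hy, rfl⟩, hye⟩ := h1
    have h3 : f₀ y = f₀ x := c.injective hye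
    have h4 : ((x * y⁻¹ : normalizer (E : Set G)) : G) ∈ E := (hk _).mp (by rw [map_mul, map_inv, h3, mul_inv_cancel])
    have := mul_mem (h.le h4) (Subgroup.mem_subgroupOf.mp hy)
    simpa using this

/-- The coordinates of a piece along the common part `L`. -/
theorem exists_coords (hG : IsCIT G) (hn : 1 ≤ n) {L : Subgroup G} (hL : L ≤ E) (hLc : Nat.card L = 2 ^ n)
    (hcent : ∀ x ∈ T, x ∉ E → E ⊓ centralizer ({x} : Set G) = L) :
    ∃ (F : Type) (_ : Field F) (_ : Fintype F) (_ : CharP F 2),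
      Fintype.card F = 2 ^ n ∧ ∃ (f : normalizer (E : Set G) →* SpecialLinearGroup (Fin 2) F) (ι : F → G) (ψ : G → F),
      Function.Surjective f ∧ (∀ x, f x = 1 ↔ (x : G) ∈ E) ∧
      (∀ x : normalizer (E : Set G), (x : G) ∈ T ↔ ∃ a : F, f x = uSL a) ∧
      Function.Injective ι ∧ (∀ a b, ι (a + b) = ι a * ι b) ∧ (∀ a, ι a ∈ L) ∧ (∀ x ∈ L, ∃ a, ι a = x) ∧
      (∀ x ∈ E, ∀ y ∈ E, ψ (x * y) = ψ x + ψ y) ∧ (∀ x ∈ E, (ψ x = 0 ↔ x ∈ L)) ∧
      (∀ g : normalizer (E : Set G), (f g).1 1 0 = 0 → ∀ a, (g : G) * ι a * (g : G)⁻¹ = ι ((f g).1 0 0 * a)) ∧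
      ∀ g : normalizer (E : Set G), (f g).1 1 0 = 0 → ∀ x ∈ E,
        ψ ((g : G) * x * (g : G)⁻¹) = (f g).1 1 1 * ψ x := by
  classical
  set N := normalizer (E : Set G) with hN
  obtain ⟨F, iF, iFt, iC, hF, f, hf, hk, hT⟩ := h.exists_model hn
  have hNC : IsCIT N := hG.subgroup N
  have hD : pCore 2 N ≠ ⊥ := fun e => h.ne_bot ((Subgroup.eq_bot_iff_forall E).mpr fun x hx => by
    have := (h.mem_core_iff ⟨x, Subgroup.le_normalizer hx⟩).mpr hx
    rw [e, Subgroup.mem_bot] at this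
    exact congrArg Subtype.val this)
  haveI := qMod_nontrivial hD
  have hker : f.ker = pCore 2 N := by
    ext x
    rw [MonoidHom.mem_ker, hk, h.mem_core_iff]
  let e : SpecialLinearGroup (Fin 2) F ≃* Qt N :=
    (QuotientGroup.quotientKerEquivOfSurjective f hf).symm.trans (QuotientGroup.quotientMulEquivOfEq hker)
  have he : ∀ x : N, e (f x) = qk x := fun x => by
    show QuotientGroup.quotientMulEquivOfEq hker ((QuotientGroup.quotientKerEquivOfSurjective f hf).symm (f x)) = qk x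
    have : (QuotientGroup.quotientKerEquivOfSurjective f hf).symm (f x) = QuotientGroup.mk x :=
      (MulEquiv.symm_apply_eq _).mpr rfl
    rw [this]
    rfl
  set M := (qMod hNC).comap e.toMonoidHom e.injective with hM
  let toA : E → Additive (Vc N) := fun x =>
    Additive.ofMul ⟨⟨(x : G), Subgroup.le_normalizer x.2⟩, (h.mem_Vc_iff _).mpr x.2⟩
  let val : Additive (Vc N) → G := fun a => (((a.toMul : Vc N) : N) : G)
  have hval : ∀ a, val a ∈ E := fun a => (h.mem_Vc_iff _).mp a.toMul.2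
  have hvinj : Function.Injective val := fun a b e' => Additive.toMul.injective (Subtype.ext (Subtype.ext e'))
  let LA : AddSubgroup (Additive (Vc N)) :=
    { carrier := {a | val a ∈ L}
      zero_mem' := L.one_mem
      add_mem' := fun {a b} ha hb => L.mul_mem ha hb
      neg_mem' := fun {a} ha => L.inv_mem ha }
  have hA : Nat.card (Additive (Vc N)) = (2 ^ n) ^ 2 := by
    rw [← h.card]
    exact Nat.card_congr
      { toFun := fun a => ⟨val a, hval a⟩
        invFun := toA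
        left_inv := fun a => hvinj rfl
        right_inv := fun x => rfl }
  have hLA : Nat.card LA = 2 ^ n := by
    rw [← hLc]
    exact Nat.card_congr
      { toFun := fun a => ⟨val a, a.2⟩
        invFun := fun x => ⟨toA ⟨x, hL x.2⟩, x.2⟩
        left_inv := fun a => Subtype.ext (hvinj rfl)
        right_inv := fun x => rfl }
  have hρ : ∀ (g : N) (a : Additive (Vc N)), val (M.ρ (f g) a) = (g : G) * val a * (g : G)⁻¹ := fun g a => by
    show val (qRep (e (f g)) a) = _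
    rw [he]
    exact congrArg Subtype.val (qRep_apply g a)
  have hfix : ∀ a : F, a ≠ 0 → M.fix (uSL a) = LA := by
    intro a ha
    obtain ⟨x, hx⟩ := hf (uSL a)
    have hxT : (x : G) ∈ T := (hT x).mpr ⟨a, hx⟩
    have hxE : (x : G) ∉ E := fun hh => ha (by
      have := (hk x).mpr hh
      rw [hx] at this
      simpa [coe_uSL] using congrArg (fun g : SpecialLinearGroup (Fin 2) F => g.1 0 1) this)
    ext v
    rw [FpfMod.mem_fix, ← hx]
    constructor
    · intro hv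
      have h1 := congrArg val hv
      rw [hρ] at h1
      show val v ∈ L
      rw [← hcent _ hxT hxE]
      exact ⟨hval v, mem_centralizer_singleton_iff.mpr (mul_inv_eq_iff_eq_mul.mp h1).symm⟩
    · intro hv
      apply hvinj
      rw [hρ]
      have h1 : val v ∈ E ⊓ centralizer ({(x : G)} : Set G) := (hcent _ hxT hxE).symm ▸ hv
      rw [← mem_centralizer_singleton_iff.mp h1.2, mul_inv_cancel_right]
  obtain ⟨ι, ψ, hι, hιL, hιs, hψ, hgι, hgψ⟩ := natural M hF hA LA hLA hfix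
  refine ⟨F, iF, iFt, iC, hF, f, fun a => val (ι a), fun x => if hx : x ∈ E then ψ (toA ⟨x, hx⟩) else 0, hf, hk, hT,
    hvinj.comp hι, fun a b => ?_, fun a => hιL a, fun x hx => ?_, fun x hx y hy => ?_, fun x hx => ?_, fun g hg a => ?_,
    fun g hg x hx => ?_⟩
  · show val (ι (a + b)) = val (ι a) * val (ι b)
    rw [map_add]
    rfl
  · obtain ⟨a, ha⟩ := hιs (toA ⟨x, hL hx⟩) hx
    exact ⟨a, show val (ι a) = x by rw [ha]; rfl⟩
  · simp only [dif_pos hx, dif_pos hy, dif_pos (mul_mem hx hy)]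
    rw [← map_add]
    rfl
  · simp only [dif_pos hx]
    exact hψ _
  · show (g : G) * val (ι a) * (g : G)⁻¹ = val (ι ((f g).1 0 0 * a))
    rw [← hgι (f g) hg a, hρ]
  · have hx' : (g : G) * x * (g : G)⁻¹ ∈ E := (Subgroup.mem_normalizer_iff.mp g.2 x).mp hx
    simp only [dif_pos hx, dif_pos hx']
    rw [← hgψ (f g) hg]
    congr 1
    apply hvinj
    rw [hρ]
    rfl

end Piece

theorem le_or_le_of_forall {E₁ E₂ H : Subgroup G} (h : ∀ x ∈ H, x ∈ E₁ ∨ x ∈ E₂) : H ≤ E₁ ∨ H ≤ E₂ := by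
  by_contra hh
  push Not at hh
  obtain ⟨x, hx, hx1⟩ := SetLike.not_le_iff_exists.mp hh.1
  obtain ⟨y, hy, hy2⟩ := SetLike.not_le_iff_exists.mp hh.2
  have hx2 := (h x hx).resolve_left hx1
  have hy1 := (h y hy).resolve_right hy2
  rcases h _ (mul_mem hx hy) with h' | h'
  · exact hx1 (by simpa using mul_mem h' (inv_mem hy1))
  · exact hy2 (by simpa using mul_mem (inv_mem hx2) h')

section Pair

variable {T E₁ E₂ : Subgroup G} {n : ℕ} (h₁ : Piece T E₁ n) (h₂ : Piece T E₂ n) (hne : E₁ ≠ E₂)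
  (hT : Nat.card T = (2 ^ n) ^ 3)

include h₁ h₂ hne hT

theorem pair_cent (hG : IsCIT G) {x : G} (hx : x ∈ T) (hx1 : x ∉ E₁) :
    E₁ ⊓ centralizer ({x} : Set G) = E₁ ⊓ E₂ := by
  obtain ⟨a, ha, b, hb, rfl⟩ := pair_decomp h₁ h₂ hne hT hG hx
  have hb1 : b ∉ E₁ := fun hh => hx1 (mul_mem ha hh)
  rw [← (pair_card h₁ h₂ hne hT hG).2.2 b hb hb1]
  ext z
  simp only [Subgroup.mem_inf, mem_centralizer_singleton_iff, and_congr_right_iff]
  intro hz
  constructor
  · intro e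
    refine mul_left_cancel (a := a) ?_
    calc a * (z * b) = z * a * b := by rw [← mul_assoc, h₁.comm ha hz]
      _ = z * (a * b) := mul_assoc _ _ _
      _ = a * b * z := e
      _ = a * (b * z) := mul_assoc _ _ _
  · intro e
    calc z * (a * b) = a * z * b := by rw [← mul_assoc, h₁.comm hz ha]
      _ = a * (z * b) := mul_assoc _ _ _
      _ = a * (b * z) := by rw [e]
      _ = a * b * z := (mul_assoc _ _ _).symm

/-- An element normalising `T` and one piece normalises the other. -/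
theorem pair_normalizer (hG : IsCIT G) {g : G} (hg1 : g ∈ normalizer (E₁ : Set G))
    (hgT : g ∈ normalizer (T : Set G)) : g ∈ normalizer (E₂ : Set G) := by
  have hle : cj g E₂ ≤ T := (cj_le_cj h₂.le).trans (cj_eq_of_mem hgT).le
  have hsq : ∀ x ∈ cj g E₂, x * x = 1 := fun x hx => by
    obtain ⟨y, hy, rfl⟩ := hx
    rw [← map_mul, h₂.sq y hy, map_one]
  rcases le_or_le_of_forall (fun x hx => pair_sq h₁ h₂ hne hT hG (hle hx) (hsq x hx)) with h | h
  · exfalso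
    have e : cj g E₂ = E₁ := Subgroup.eq_of_le_of_card_ge h (by rw [card_cj, h₁.card, h₂.card])
    have e2 := congrArg (cj g⁻¹) e
    rw [cj_cj, inv_mul_cancel, cj_one, cj_eq_of_mem (inv_mem hg1)] at e2
    exact hne e2.symm
  · exact mem_normalizer_of_cj (Subgroup.eq_of_le_of_card_ge h (card_cj g E₂).ge)

/-- Two pieces force `q ≤ 4`. -/
theorem q_le_four (hG : IsCIT G) (hn : 1 ≤ n) : n ≤ 2 := by
  classical
  obtain ⟨hLc, -, -⟩ := pair_card h₁ h₂ hne hT hG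
  obtain ⟨F, iF, iFt, iC, hF, f₁, ι₁, -, hf₁, hk₁, hT₁, hι₁, hadd₁, hιL₁, -, -, -, hgι₁, -⟩ :=
    h₁.exists_coords hG hn inf_le_left hLc (fun x hx hx1 => pair_cent h₁ h₂ hne hT hG hx hx1)
  obtain ⟨K, iK, iKt, iKC, hK, f₂, ι₂, ψ₂, hf₂, hk₂, hT₂, hι₂, hadd₂, hιL₂, hιs₂, hψadd, hψ₂, hgι₂, hgψ₂⟩ :=
    h₂.exists_coords hG hn (L := E₁ ⊓ E₂) inf_le_right hLc (fun x hx hx1 => by
      rw [pair_cent h₂ h₁ hne.symm hT hG hx hx1, inf_comm])
  choose σ hσ using fun a : F => hιs₂ (ι₁ a) (hιL₁ a)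
  have hσi : Function.Injective σ := fun a b e => hι₁ (by rw [← hσ a, ← hσ b, e])
  have hσb : Function.Bijective σ := (Fintype.bijective_iff_injective_and_card σ).mpr ⟨hσi, by rw [hF, hK]⟩
  have hσadd : ∀ a b, σ (a + b) = σ a + σ b := fun a b => hι₂ (by rw [hadd₂, hσ, hσ, hσ, hadd₁])
  have hσ0 : σ 0 = 0 := by
    have h := hσadd 0 0
    rw [add_zero] at h
    exact left_eq_add.mp h
  have ho : σ 1 ≠ 0 := fun e => one_ne_zero (hσi (e.trans hσ0.symm))
  -- an element of the second piece over the first unit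
  obtain ⟨b₀, hb₀, hb₀f⟩ : ∃ (b : G) (hb : b ∈ E₂),
      f₁ ⟨b, h₁.le_normalizer (h₂.le hb)⟩ = uSL 1 := by
    obtain ⟨x, hx⟩ := hf₁ (uSL 1)
    obtain ⟨a, ha, b, hb, e⟩ := pair_decomp h₁ h₂ hne hT hG ((hT₁ x).mpr ⟨1, hx⟩)
    refine ⟨b, hb, ?_⟩
    rw [← hx, show x = ⟨a, Subgroup.le_normalizer ha⟩ * ⟨b, h₁.le_normalizer (h₂.le hb)⟩ from Subtype.ext e,
      map_mul, (hk₁ ⟨a, Subgroup.le_normalizer ha⟩).mpr ha, one_mul]
  have hψb₀ : ψ₂ b₀ ≠ 0 := fun e => by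
    have h1 := (hψ₂ b₀ hb₀).mp e
    have h2 := (hk₁ ⟨b₀, h₁.le_normalizer (h₂.le hb₀)⟩).mpr h1.1
    rw [hb₀f] at h2
    simpa [coe_uSL] using congrArg (fun g : SpecialLinearGroup (Fin 2) F => g.1 0 1) h2
  -- the torus of the first piece
  have hb : ∀ c : F, c ≠ 0 → ∃ (b : G) (hb : b ∈ E₂),
      f₁ ⟨b, h₁.le_normalizer (h₂.le hb)⟩ = uSL (c ^ 2) ∧ ψ₂ b = σ 1 / σ c * ψ₂ b₀ := by
    intro c hc
    obtain ⟨g, hg⟩ := hf₁ (dg c hc)
    have hgT : (g : G) ∈ normalizer (T : Set G) := by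
      refine mem_normalizer_of_cj (Subgroup.eq_of_le_of_card_ge ?_ (card_cj _ _).ge)
      rintro _ ⟨t, ht, rfl⟩
      obtain ⟨a, ha⟩ := (hT₁ ⟨t, h₁.le_normalizer ht⟩).mp ht
      refine (hT₁ (g * ⟨t, h₁.le_normalizer ht⟩ * g⁻¹)).mpr ⟨c ^ 2 * a, ?_⟩
      rw [map_mul, map_mul, map_inv, hg, ha, dg_conj, mul_inv_cancel_right]
    set g₂ : normalizer (E₂ : Set G) := ⟨g, pair_normalizer h₁ h₂ hne hT hG g.2 hgT⟩ with hg₂
    have h10 : (f₂ g₂).1 1 0 = 0 := by
      obtain ⟨t, ht⟩ := hf₂ (uSL 1)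
      have htT : (t : G) ∈ T := (hT₂ t).mpr ⟨1, ht⟩
      obtain ⟨b, hb⟩ := (hT₂ (g₂ * t * g₂⁻¹)).mp ((Subgroup.mem_normalizer_iff.mp hgT t).mp htT)
      rw [map_mul, map_mul, map_inv, ht, mul_inv_eq_iff_eq_mul] at hb
      have h11 := congrArg (fun g : SpecialLinearGroup (Fin 2) K => g.1 1 1) hb
      simp [Matrix.mul_apply, Fin.sum_univ_two, coe_uSL] at h11
      exact h11
    have he : (f₂ g₂).1 0 0 * σ 1 = σ c := by
      apply hι₂
      rw [← hgι₂ g₂ h10, hσ, hσ, show ((g₂ : normalizer (E₂ : Set G)) : G) = (g : G) from rfl,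
        hgι₁ g (by rw [hg]; simp [coe_dg]), hg]
      simp [coe_dg]
    have hdet : (f₂ g₂).1 0 0 * (f₂ g₂).1 1 1 = 1 := by
      have := (f₂ g₂).2
      rwa [Matrix.det_fin_two, h10, mul_zero, sub_zero] at this
    have hσc : σ c ≠ 0 := fun e => hc (hσi (e.trans hσ0.symm))
    refine ⟨(g : G) * b₀ * (g : G)⁻¹, (Subgroup.mem_normalizer_iff.mp g₂.2 b₀).mp hb₀, ?_, ?_⟩
    · rw [show (⟨(g : G) * b₀ * (g : G)⁻¹, _⟩ : normalizer (E₁ : Set G)) =
        g * ⟨b₀, h₁.le_normalizer (h₂.le hb₀)⟩ * g⁻¹ from rfl, map_mul, map_mul, map_inv, hg, hb₀f, dg_conj,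
        mul_inv_cancel_right, mul_one]
    · rw [show (g : G) = (g₂ : G) from rfl, hgψ₂ g₂ h10 b₀ hb₀]
      congr 1
      rw [eq_div_iff hσc, ← he, ← mul_assoc, mul_comm ((f₂ g₂).1 1 1), hdet, one_mul]
  -- inversion is additive
  have hquad : ∀ y : K, y ≠ 0 → y ≠ σ 1 → y * y + σ 1 * y + σ 1 * σ 1 = 0 := by
    intro y hy hy1
    obtain ⟨c, rfl⟩ := hσb.2 y
    have hc : c ≠ 0 := fun e => hy (e ▸ hσ0)
    have hc1 : c + 1 ≠ 0 := fun e => hy1 (by rw [CharTwo.add_eq_zero.mp e])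
    obtain ⟨b, hbE, hbf, hbψ⟩ := hb c hc
    obtain ⟨b₁, hb₁E, hb₁f, hb₁ψ⟩ := hb (c + 1) hc1
    have hmem : b * b₀ * b₁⁻¹ ∈ E₁ := by
      refine (hk₁ (⟨b, h₁.le_normalizer (h₂.le hbE)⟩ * ⟨b₀, h₁.le_normalizer (h₂.le hb₀)⟩ *
        ⟨b₁, h₁.le_normalizer (h₂.le hb₁E)⟩⁻¹)).mp ?_
      rw [map_mul, map_mul, map_inv, hbf, hb₀f, hb₁f, uSL_mul, show c ^ 2 + 1 = (c + 1) ^ 2 by
        rw [CharTwo.add_sq, one_pow], mul_inv_cancel]
    have hE2 : b * b₀ * b₁⁻¹ ∈ E₂ := mul_mem (mul_mem hbE hb₀) (inv_mem hb₁E)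
    have h0 := (hψ₂ _ hE2).mpr ⟨hmem, hE2⟩
    rw [hψadd _ (mul_mem hbE hb₀) _ (inv_mem hb₁E), hψadd _ hbE _ hb₀,
      inv_eq_of_mul_eq_one_right (h₂.sq b₁ hb₁E), hbψ, hb₁ψ, hσadd] at h0
    have hcne : σ c + σ 1 ≠ 0 := fun e => hy1 (CharTwo.add_eq_zero.mp e)
    field_simp at h0
    have h2 : (2 : K) = 0 := CharTwo.two_eq_zero
    have h3 : (σ c * σ c + σ 1 * σ c + σ 1 * σ 1) * ψ₂ b₀ = 0 := by
      linear_combination h0 - σ c * σ 1 * ψ₂ b₀ * h2
    exact (mul_eq_zero.mp h3).resolve_right hψb₀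
  by_contra hn2
  push Not at hn2
  have hcard : 8 ≤ Fintype.card K := by
    rw [hK]
    calc 8 = 2 ^ 3 := by norm_num
      _ ≤ 2 ^ n := Nat.pow_le_pow_right (by norm_num) hn2
  obtain ⟨y₀, hy₀⟩ : ∃ y : K, y ∉ ({0, σ 1} : Finset K) := by
    by_contra hh
    push Not at hh
    have := Finset.card_le_card (fun y _ => hh y : Finset.univ ⊆ ({0, σ 1} : Finset K))
    have h2 := Finset.card_le_two (a := (0 : K)) (b := σ 1)
    rw [Finset.card_univ] at this
    omega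
  rw [Finset.mem_insert, Finset.mem_singleton, not_or] at hy₀
  have hsub : (Finset.univ : Finset K) ⊆ {0, σ 1, y₀, y₀ + σ 1} := fun y _ => by
    simp only [Finset.mem_insert, Finset.mem_singleton]
    by_cases h0 : y = 0
    · exact Or.inl h0
    by_cases h1 : y = σ 1
    · exact Or.inr (Or.inl h1)
    right; right
    have e1 := hquad y h0 h1
    have e2 := hquad y₀ hy₀.1 hy₀.2
    have h2 : (2 : K) = 0 := CharTwo.two_eq_zero
    have e3 : (y + y₀) * (y + (y₀ + σ 1)) = 0 := by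
      linear_combination e1 + e2 + (y * y₀ - σ 1 * σ 1) * h2
    rcases mul_eq_zero.mp e3 with h | h
    · exact Or.inl (CharTwo.add_eq_zero.mp h)
    · exact Or.inr (CharTwo.add_eq_zero.mp h)
  have := (Finset.card_le_card hsub).trans Finset.card_le_four
  rw [Finset.card_univ] at this
  omega

end Pair

end CfsgLib.CIT
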