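import Cfsg.Agent.Lib.CIT.Structure
import Cfsg.Agent.Lib.UniqueSubgroup

/-!
An abelian subgroup of largest order of a Sylow 2-subgroup outside the 2-core forces the quotient by the
2-core to be `PSL₂` in characteristic two.
-/

set_option autoImplicit false
set_option linter.unusedSectionVars false
set_option linter.style.haveILetI false

namespace CfsgLib.CIT

open Subgroup Cfsg
open CfsgLib.Involutions (mul_self_eq_one_of_orderOf orderOf_conj orderOf_eq_two_iff')

universe u v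

/-- If `2 ^ k + 1` divides `2 ^ d - 1` then `2 k` divides `d`. -/
theorem two_mul_dvd_of_pow_succ_dvd {k d : ℕ} (hk : 1 ≤ k) (h : 2 ^ k + 1 ∣ 2 ^ d - 1) : 2 * k ∣ d := by
  have h2 : 2 ^ k + 1 ∣ 2 ^ (2 * k) - 1 := ⟨2 ^ k - 1, by
    have h := Nat.sq_sub_sq (2 ^ k) 1
    rw [one_pow, ← pow_mul, mul_comm k 2] at h
    exact h⟩
  have h3 : 2 ^ k + 1 ∣ 2 ^ Nat.gcd (2 * k) d - 1 := by
    rw [← Nat.pow_sub_one_gcd_pow_sub_one]
    exact Nat.dvd_gcd h2 h
  set g := Nat.gcd (2 * k) d with hg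
  have hgpos : 0 < g := Nat.gcd_pos_of_pos_left _ (by omega)
  have hlt : k < g := by
    by_contra hle
    have h4 : 2 ^ g ≤ 2 ^ k := Nat.pow_le_pow_right (by norm_num) (by omega)
    have h5 : 2 ≤ 2 ^ g := le_self_pow₀ (by norm_num) hgpos.ne'
    have := Nat.le_of_dvd (by omega) h3
    omega
  obtain ⟨c, hc⟩ := Nat.gcd_dvd_left (2 * k) d
  rw [← hg] at hc
  have : c = 1 := by
    rcases c with _ | _ | c
    · omega
    · rfl
    · rw [Nat.mul_add, Nat.mul_add] at hc
      omega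
  rw [this, mul_one] at hc
  rw [hc]
  exact Nat.gcd_dvd_right _ _

/-- Orders of images and intersections with the kernel. -/
theorem card_map_mul_card_inf_ker {G : Type u} [Group G] {H : Type v} [Group H] (f : G →* H) (K : Subgroup G) :
    Nat.card (K.map f) * Nat.card ↥(K ⊓ f.ker) = Nat.card K := by
  rw [← (f.comp K.subtype).ker.index_mul_card, Subgroup.index_ker, MonoidHom.range_comp, Subgroup.range_subtype]
  congr 1
  refine Nat.card_congr
    { toFun := fun x => ⟨⟨x.1, x.2.1⟩, MonoidHom.mem_ker.mpr (MonoidHom.mem_ker.mp x.2.2)⟩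
      invFun := fun x => ⟨(x.1 : G), x.1.2, MonoidHom.mem_ker.mpr (MonoidHom.mem_ker.mp x.2)⟩
      left_inv := fun x => rfl
      right_inv := fun x => rfl }

/-- A faithful group of order at least six on four vectors is the symmetric group of degree three. -/
theorem equiv_perm_three {Q : Type u} [Group Q] [Finite Q] {A : Type v} [AddCommGroup A] [Finite A]
    (ρ : Q →* AddMonoid.End A) (hρ : Function.Injective ρ) (hA : Nat.card A = 4) (hQ : 6 ≤ Nat.card Q) :
    Nonempty (Q ≃* Equiv.Perm (Fin 3)) := by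
  classical
  haveI := Fintype.ofFinite A
  have hinj : ∀ (g : Q) (a : A), ρ g⁻¹ (ρ g a) = a := fun g a => by
    rw [show ρ g⁻¹ (ρ g a) = (ρ g⁻¹ * ρ g) a from rfl, ← map_mul, inv_mul_cancel, map_one]
    rfl
  let α : Q →* Equiv.Perm {a : A // a ≠ 0} :=
    { toFun := fun g =>
        { toFun := fun a => ⟨ρ g a, fun e => a.2 (by rw [← hinj g a, e, map_zero])⟩
          invFun := fun a => ⟨ρ g⁻¹ a, fun e => a.2 (by
            have := hinj g⁻¹ a
            rw [inv_inv, e, map_zero] at this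
            exact this.symm)⟩
          left_inv := fun a => Subtype.ext (hinj g a)
          right_inv := fun a => Subtype.ext (by simpa using hinj g⁻¹ (a : A)) }
      map_one' := Equiv.ext fun a => Subtype.ext (by simp)
      map_mul' := fun g h => Equiv.ext fun a => Subtype.ext (by
        show ρ (g * h) (a : A) = ρ g (ρ h a)
        rw [map_mul]; rfl) }
  have hα : Function.Injective α := fun g h e => hρ (AddMonoidHom.ext fun a => by
    by_cases ha : a = 0
    · subst ha
      exact (map_zero (ρ g : A →+ A)).trans (map_zero (ρ h : A →+ A)).symm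
    · exact congrArg Subtype.val (Equiv.congr_fun e ⟨a, ha⟩))
  have h3 : Fintype.card {a : A // a ≠ 0} = 3 := by
    rw [Fintype.card_subtype_compl, Fintype.card_subtype_eq, ← Nat.card_eq_fintype_card, hA]
  let e₃ : {a : A // a ≠ 0} ≃ Fin 3 := Fintype.equivFinOfCardEq h3
  have hbij : Function.Bijective α := by
    refine Nat.bijective_iff_injective_and_card α |>.mpr ⟨hα, le_antisymm (Nat.card_le_card_of_injective α hα) ?_⟩
    rwa [Nat.card_congr e₃.permCongr, Nat.card_perm, Nat.card_fin]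
  exact ⟨(MulEquiv.ofBijective α hbij).trans e₃.permCongrHom⟩

/-- A group of order six acting faithfully on four vectors is `PSL₂(2)`. -/
theorem equiv_psl_two {Q : Type u} [Group Q] [Finite Q] {A : Type v} [AddCommGroup A] [Finite A]
    (ρ : Q →* AddMonoid.End A) (hρ : Function.Injective ρ) (hA : Nat.card A = 4) (hQ : 6 ≤ Nat.card Q)
    [Fact (Nat.Prime 2)] :
    Nonempty (Q ≃* Matrix.ProjectiveSpecialLinearGroup (Fin 2) (ZMod 2)) := by
  classical
  obtain ⟨e⟩ := equiv_perm_three ρ hρ hA hQ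
  let σ : Matrix.SpecialLinearGroup (Fin 2) (ZMod 2) →* AddMonoid.End (Fin 2 → ZMod 2) :=
    { toFun := fun g => (Matrix.mulVecLin g.1).toAddMonoidHom
      map_one' := AddMonoidHom.ext fun v => by show (1 : Matrix.SpecialLinearGroup (Fin 2) (ZMod 2)).1.mulVec v = v; simp
      map_mul' := fun g h => AddMonoidHom.ext fun v => by
        show (g * h).1.mulVec v = g.1.mulVec (h.1.mulVec v)
        rw [Matrix.SpecialLinearGroup.coe_mul, Matrix.mulVec_mulVec] }
  have hσ : Function.Injective σ := fun g h e' => Subtype.ext (Matrix.ext_of_mulVec_single fun j => by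
    exact DFunLike.congr_fun e' (Pi.single j 1))
  obtain ⟨e'⟩ := equiv_perm_three σ hσ (by simp)
    (by rw [CfsgLib.SLCard.card_SL_two, ZMod.card]; norm_num)
  haveI : CharP (ZMod 2) 2 := ZMod.charP 2
  exact ⟨e.trans (e'.symm.trans CfsgLib.PrimeGraphExt.pslEquiv.symm)⟩

namespace FpfMod

variable {Q : Type u} [Group Q] [Finite Q] {A : Type v} [AddCommGroup A] [Nontrivial A]

include A in
/-- Odd prime powers dividing the order are orders of elements. -/
theorem exists_orderOf_pow (M : FpfMod Q A) {p k : ℕ} (hp : p.Prime) (hp2 : p ≠ 2) (hdvd : p ^ k ∣ Nat.card Q) :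
    ∃ x : Q, orderOf x = p ^ k := by
  haveI : Fact p.Prime := ⟨hp⟩
  obtain ⟨P, hP⟩ := Sylow.exists_subgroup_card_pow_prime p hdvd
  rcases Nat.eq_zero_or_pos k with rfl | hk
  · exact ⟨1, by simp⟩
  have hPp : IsPGroup p P := IsPGroup.of_card hP
  haveI : Nontrivial P := Finite.one_lt_card_iff_nontrivial.mp (hP ▸ Nat.one_lt_pow hk.ne' hp.one_lt)
  haveI := hPp.center_nontrivial
  obtain ⟨⟨z, hzc⟩, hz⟩ := exists_prime_orderOf_dvd_card' (G := Subgroup.center P) p
    ((hPp.to_subgroup _).card_eq_or_dvd.resolve_left Finite.one_lt_card.ne')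
  rw [Subgroup.orderOf_mk] at hz
  have hcyc : IsCyclic P := by
    refine (CfsgLib.UniqueSubgroup.cyclic_or_quaternion hPp hz fun x hx => ?_).resolve_right fun h => hp2 h.1
    by_cases hx1 : x = 1
    · rw [hx1]; exact one_mem _
    · have hxo : orderOf x = p := orderOf_eq_prime hx hx1
      have hc : Commute (z : Q) x := congrArg Subtype.val (mem_center_iff.mp hzc x).symm
      obtain ⟨i, hi⟩ := M.mem_zpowers_of_comm hp hp2 (by rw [Subgroup.orderOf_coe, hz])
        (by rw [Subgroup.orderOf_coe, hxo]) hc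
      exact ⟨i, Subtype.ext (by simpa using hi)⟩
  obtain ⟨g, hg⟩ := hcyc.exists_ofOrder_eq_natCard
  exact ⟨(g : Q), by rw [Subgroup.orderOf_coe, hg, hP]⟩

include A in
/-- Odd divisors of the order divide `|A| - 1`. -/
theorem dvd_card_sub_one' [Finite A] (M : FpfMod Q A) {m : ℕ} (hm : Odd m) (hdvd : m ∣ Nat.card Q) :
    m ∣ Nat.card A - 1 :=
  M.dvd_card_sub_one hm fun p k hp hpk => by
    rcases Nat.eq_zero_or_pos k with rfl | hk
    · exact ⟨1, by simp⟩
    refine M.exists_orderOf_pow hp ?_ (hpk.trans hdvd)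
    rintro rfl
    exact absurd (hm.of_dvd_nat ((dvd_pow_self 2 hk.ne').trans hpk)) (by decide)

end FpfMod

variable {X : Type u} [Group X] [Finite X]

/-- An abelian subgroup of largest order of `T`. -/
def MaxAb (T A : Subgroup X) : Prop :=
  A ≤ T ∧ (∀ a ∈ A, ∀ b ∈ A, a * b = b * a) ∧
    ∀ B : Subgroup X, B ≤ T → (∀ a ∈ B, ∀ b ∈ B, a * b = b * a) → Nat.card B ≤ Nat.card A

section Bound

variable {T : Sylow 2 X} {A : Subgroup X} (hA : MaxAb (T : Subgroup X) A)

theorem core_le_sylow : pCore 2 X ≤ (T : Subgroup X) := by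
  haveI : Fact (Nat.Prime 2) := ⟨Nat.prime_two⟩
  obtain ⟨Q, hQ⟩ := (core_two (X := X)).exists_le_sylow
  obtain ⟨g, rfl⟩ := MulAction.exists_smul_eq X Q T
  intro x hx
  rw [Sylow.coe_subgroup_smul, Subgroup.mem_pointwise_smul_iff_inv_smul_mem]
  exact hQ (by simpa [MulAut.smul_def] using (inferInstance : (pCore 2 X).Normal).conj_mem x hx g⁻¹)

include hA

theorem card_Vc_le_mul : Nat.card (Vc X) ≤ Nat.card (A.map qk) * Nat.card ↥(A ⊓ Vc X) := by
  set B := (A ⊓ pCore 2 X) ⊔ Vc X with hB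
  have hBT : B ≤ (T : Subgroup X) := sup_le (inf_le_left.trans hA.1) (Vc_le.trans core_le_sylow)
  have hcomm : B ≤ centralizer (B : Set X) := by
    have key : ∀ K : Subgroup X, A ⊓ pCore 2 X ≤ centralizer (K : Set X) → Vc X ≤ centralizer (K : Set X) →
        B ≤ centralizer (K : Set X) := fun K h1 h2 => sup_le h1 h2
    refine sup_le (le_centralizer_iff.mp (key _ ?_ ?_)) (le_centralizer_iff.mp (key _ ?_ ?_))
    · exact fun a ha => fun b hb => hA.2.1 b hb.1 a ha.1
    · exact fun v hv => fun b hb => hv.2.1 b hb.2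
    · exact fun a ha => fun v hv => (hv.2.1 a ha.2).symm
    · exact fun v hv => fun w hw => hv.2.1 w hw.1
  have h1 := hA.2.2 B hBT fun a ha b hb => (hcomm hb a ha)
  rw [← card_map_mul_card_inf_ker qk A, QuotientGroup.ker_mk'] at h1
  have h2 := card_map_mul_card_inf_ker (QuotientGroup.mk' (Vc X)) B
  rw [QuotientGroup.ker_mk', inf_eq_right.mpr (le_sup_right : Vc X ≤ B), Subgroup.map_sup,
    (QuotientGroup.map_mk'_self (Vc X)), sup_bot_eq] at h2
  have h3 := card_map_mul_card_inf_ker (QuotientGroup.mk' (Vc X)) (A ⊓ pCore 2 X)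
  rw [QuotientGroup.ker_mk', inf_assoc, inf_eq_right.mpr Vc_le] at h3
  refine Nat.le_of_mul_le_mul_left ?_ (Nat.card_pos (α := (A ⊓ pCore 2 X).map (QuotientGroup.mk' (Vc X))))
  rw [h2, mul_left_comm, h3]
  exact h1

theorem card_inf_le_fix (hC : IsCIT X) {q : Qt X} (hq : q ∈ A.map qk) :
    Nat.card ↥(A ⊓ Vc X) ≤ Nat.card ((qMod hC).fix q) := by
  obtain ⟨a, ha, rfl⟩ := hq
  refine Nat.card_le_card_of_injective (fun v => (⟨Additive.ofMul ⟨(v : X), v.2.2⟩,
    (qRep_fixed_iff a _).mpr (hA.2.1 a ha v v.2.1)⟩ : (qMod hC).fix (qk a))) fun v w h => ?_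
  exact Subtype.ext (congrArg (fun z : (qMod hC).fix (qk a) => ((z.1.toMul : Vc X) : X)) h)

theorem card_map_two : ∃ b : ℕ, Nat.card (A.map qk) = 2 ^ b := by
  haveI : Fact (Nat.Prime 2) := ⟨Nat.prime_two⟩
  exact IsPGroup.iff_card.mp ((T.2.to_le hA.1).map qk)

theorem map_ne_bot (hAD : ¬ A ≤ pCore 2 X) : A.map qk ≠ ⊥ := fun e => hAD fun a ha => by
  rw [← qk_eq_one, ← Subgroup.mem_bot, ← e]
  exact ⟨a, ha, rfl⟩

/-- The order of the elementary central part is at most the square of the index. -/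
theorem card_Vc_le_sq (hC : IsCIT X) (hAD : ¬ A ≤ pCore 2 X) :
    Nat.card (Vc X) ≤ Nat.card (A.map qk) ^ 2 := by
  haveI : Fact (Nat.Prime 2) := ⟨Nat.prime_two⟩
  obtain ⟨t, ht, hto⟩ := exists_orderOf_two_mem ((T.2.to_le hA.1).map qk) (map_ne_bot hA hAD)
  obtain ⟨p, k, hp, hp2, hk, hinv⟩ := IsCIT.exists_inverted hto (fun h => by
    rw [pCore_qt, mem_bot] at h
    rw [h, orderOf_one] at hto
    omega)
  have hfix := (qMod hC).card_fix_sq (mul_self_eq_one_of_orderOf hto)
    (fun e => hp.ne_one (by rw [← hk, e, orderOf_one])) (hk ▸ hp.odd_of_ne_two hp2) hinv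
  rw [card_Vc] at hfix
  have h1 := card_Vc_le_mul hA
  have h2 := card_inf_le_fix hA hC ht
  set a := Nat.card (A.map qk)
  set f := Nat.card ((qMod hC).fix t)
  have h3 : f * f ≤ a * f := by
    rw [← sq, hfix]
    exact h1.trans (Nat.mul_le_mul le_rfl h2)
  rw [← hfix]
  exact Nat.pow_le_pow_left (Nat.le_of_mul_le_mul_right h3 Nat.card_pos) 2

theorem card_map_le_sylow (P : Sylow 2 (Qt X)) : Nat.card (A.map qk) ≤ Nat.card P := by
  haveI : Fact (Nat.Prime 2) := ⟨Nat.prime_two⟩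
  obtain ⟨b, hb⟩ := card_map_two hA
  refine Nat.le_of_dvd Nat.card_pos ?_
  rw [hb]
  exact P.pow_dvd_card_of_pow_dvd_card (hb ▸ Subgroup.card_subgroup_dvd_card _)

/-- The Suzuki case does not occur. -/
theorem not_suzType (hC : IsCIT X) (hD : pCore 2 X ≠ ⊥) (hAD : ¬ A ≤ pCore 2 X) : ¬ SuzType (Qt X) := by
  haveI : Fact (Nat.Prime 2) := ⟨Nat.prime_two⟩
  haveI := qMod_nontrivial hD
  rintro ⟨n, -, hn, hcard, hP⟩
  set P := T.mapSurjective (f := (qk : X →* Qt X)) (QuotientGroup.mk'_surjective _) with hPdef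
  obtain ⟨hPc, -, x, hx, y, hy, hxy⟩ := hP P
  have hle : A.map qk ≤ (P : Subgroup (Qt X)) := Subgroup.map_mono hA.1
  have hlt : A.map qk < (P : Subgroup (Qt X)) := lt_of_le_of_ne hle fun e => by
    obtain ⟨a, ha, rfl⟩ : x ∈ A.map qk := e.symm ▸ hx
    obtain ⟨b, hb, rfl⟩ : y ∈ A.map qk := e.symm ▸ hy
    exact hxy (by rw [← map_mul, ← map_mul, hA.2.1 a ha b hb])
  obtain ⟨b, hb⟩ := card_map_two hA
  have hbn : b < 2 * n := by
    by_contra hge
    refine hlt.ne (Subgroup.eq_of_le_of_card_ge hle ?_)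
    rw [hb, hPc, ← pow_mul]
    exact Nat.pow_le_pow_right (by norm_num) (by omega)
  obtain ⟨d, hd⟩ := (qMod hC).exists_card_eq_two_pow
  have hd0 : 0 < d := by
    rcases Nat.eq_zero_or_pos d with rfl | h
    · exact absurd hd (by have := Finite.one_lt_card (α := Additive (Vc X)); simp; omega)
    · exact h
  have hdv : 2 ^ (2 * n) + 1 ∣ 2 ^ d - 1 := by
    rw [← hd]
    refine (qMod hC).dvd_card_sub_one' (Even.add_one (Nat.even_pow.mpr ⟨even_two, by omega⟩)) ?_
    rw [hcard, ← pow_mul, mul_comm n 2]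
    exact dvd_mul_of_dvd_left (dvd_mul_left _ _) _
  have h4 := Nat.le_of_dvd hd0 (two_mul_dvd_of_pow_succ_dvd (by omega) hdv)
  have h5 := card_Vc_le_sq hA hC hAD
  rw [← card_Vc, hd, hb, ← pow_mul] at h5
  have := (Nat.pow_le_pow_iff_right (by norm_num : 1 < 2)).mp h5
  omega

/-- With a normal subgroup of prime order inverted by the involutions the module has four elements. -/
theorem twoType_four (hC : IsCIT X) (hD : pCore 2 X ≠ ⊥) (hAD : ¬ A ≤ pCore 2 X) (hT : TwoType (Qt X)) :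
    Nat.card (Vc X) = 4 ∧ 6 ≤ Nat.card (Qt X) := by
  haveI : Fact (Nat.Prime 2) := ⟨Nat.prime_two⟩
  haveI := qMod_nontrivial hD
  have hQ := hC.quot
  set M := qMod hC with hM
  obtain ⟨p, k, hp, hp2, hk, hN, hinv, hcyc⟩ := hT
  haveI : Fact p.Prime := ⟨hp⟩
  haveI := hN
  set Ab := A.map (qk : X →* Qt X) with hAb
  have hAb2 : IsPGroup 2 Ab := (T.2.to_le hA.1).map qk
  obtain ⟨P, hP⟩ := hAb2.exists_le_sylow
  haveI := hcyc P
  haveI : IsCyclic Ab := isCyclic_of_injective (Subgroup.inclusion hP) (Subgroup.inclusion_injective hP)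
  obtain ⟨⟨g, hg⟩, hgen⟩ := IsCyclic.exists_ofOrder_eq_natCard (α := Ab)
  rw [Subgroup.orderOf_mk] at hgen
  obtain ⟨b, hb⟩ := card_map_two hA
  rw [← hAb] at hb
  rw [hb] at hgen
  have hb1 : 1 ≤ b := by
    rcases Nat.eq_zero_or_pos b with rfl | h
    · exact absurd (Subgroup.card_eq_one.mp hb) (map_ne_bot hA hAD)
    · exact h
  have hk1 : k ≠ 1 := fun e => hp.ne_one (by rw [← hk, e, orderOf_one])
  have hkodd : Odd (orderOf k) := hk ▸ hp.odd_of_ne_two hp2
  set h := g ^ 2 ^ (b - 1) with hh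
  have hho : orderOf h = 2 := by
    rw [hh, orderOf_pow' g (by positivity), hgen,
      Nat.gcd_eq_right (pow_dvd_pow 2 (by omega)), Nat.pow_div (by omega) (by norm_num), show b - (b - 1) = 1 by omega,
      pow_one]
  have hfix := M.card_fix_sq (mul_self_eq_one_of_orderOf hho) hk1 hkodd (hinv h hho)
  rw [card_Vc] at hfix
  have hsub : M.fix g ≤ M.fix h := fun v hv => by
    rw [hh]
    generalize 2 ^ (b - 1) = i
    induction i with
    | zero => rw [FpfMod.mem_fix, pow_zero, M.apply_one]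
    | succ i ih =>
      rw [FpfMod.mem_fix, pow_succ, M.apply_mul, M.mem_fix.mp hv]
      exact ih
  have hle : Nat.card (Vc X) ≤ 2 ^ b * Nat.card (M.fix g) := by
    rw [← hb]
    exact (card_Vc_le_mul hA).trans (Nat.mul_le_mul le_rfl (card_inf_le_fix hA hC hg))
  have hp1 : 2 ^ b ∣ p - 1 := by
    let f : zpowers g →* MulAut (zpowers k) := (MulAut.conjNormal (H := zpowers k)).comp (zpowers g).subtype
    have hf : Function.Injective f := by
      rw [← MonoidHom.ker_eq_bot_iff, eq_bot_iff]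
      intro r hr
      rw [mem_bot]
      by_contra hr1
      have e : (r : Qt X) * k * (r : Qt X)⁻¹ = k :=
        congrArg (fun φ : MulAut (zpowers k) => ((φ ⟨k, mem_zpowers k⟩ : zpowers k) : Qt X)) (MonoidHom.mem_ker.mp hr)
      obtain ⟨j, hj⟩ := hAb2 ⟨(r : Qt X), (zpowers_le.mpr hg : zpowers g ≤ Ab) r.2⟩
      exact hk1 (hQ.fpf hkodd (s := (r : Qt X)) (congrArg Subtype.val hj)
        (fun e1 => hr1 (Subtype.ext e1)) (mul_inv_eq_iff_eq_mul.mp e).symm)
    haveI : IsCyclic (zpowers k) := inferInstance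
    have h1 := Subgroup.card_dvd_of_injective f hf
    rwa [Nat.card_zpowers, hgen, IsCyclic.card_mulAut, Nat.card_zpowers, hk, Nat.totient_prime hp] at h1
  have hpd : p ∣ Nat.card (Vc X) - 1 := by
    have := M.orderOf_dvd hkodd
    rwa [hk, card_Vc] at this
  have hV1 : 1 < Nat.card (Vc X) := card_Vc (X := X) ▸ Finite.one_lt_card
  set f := Nat.card (M.fix h) with hf
  set e := Nat.card (M.fix g) with he
  have hef : e ≤ f := Nat.card_le_card_of_injective (Set.inclusion hsub) (Set.inclusion_injective hsub)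
  have hf2 : 2 ≤ f := by
    by_contra hlt
    have : f ^ 2 ≤ 1 ^ 2 := Nat.pow_le_pow_left (by omega) 2
    omega
  have hfb : f ≤ 2 ^ b := by
    refine Nat.le_of_mul_le_mul_right ?_ (show 0 < f by omega)
    rw [← sq, hfix]
    exact hle.trans (Nat.mul_le_mul le_rfl hef)
  have hb2 : 2 ^ b ≤ p - 1 := Nat.le_of_dvd (by have := hp.two_le; omega) hp1
  rw [← hfix, show f ^ 2 - 1 = (f + 1) * (f - 1) from by rw [← Nat.sq_sub_sq, one_pow]] at hpd
  have hpf : p = f + 1 := by
    rcases hp.dvd_mul.mp hpd with h' | h'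
    · have := Nat.le_of_dvd (by omega) h'
      omega
    · have := Nat.le_of_dvd (by omega) h'
      omega
  have hfeq : f = 2 ^ b := by omega
  rcases Nat.lt_or_ge b 2 with hblt | hbge
  · obtain rfl : b = 1 := by omega
    have hf' : f = 2 := by rw [hfeq, pow_one]
    refine ⟨by rw [← hfix, hf']; norm_num, ?_⟩
    have h2d : 2 ∣ Nat.card (Qt X) := hho ▸ orderOf_dvd_natCard h
    have h3d : 3 ∣ Nat.card (Qt X) := by
      have := orderOf_dvd_natCard k
      rwa [hk, hpf, hf'] at this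
    exact Nat.le_of_dvd Nat.card_pos (Nat.Coprime.mul_dvd_of_dvd_of_dvd (by norm_num) h2d h3d)
  exfalso
  have heq : e = f := by
    refine le_antisymm hef (Nat.le_of_mul_le_mul_left ?_ (show 0 < 2 ^ b by positivity))
    calc 2 ^ b * f = f ^ 2 := by rw [← hfeq, sq]
      _ ≤ 2 ^ b * e := hfix ▸ hle
  have hgh : M.fix g = M.fix h := SetLike.coe_injective
    (Set.eq_of_subset_of_ncard_le hsub (by rw [← Nat.card_coe_set_eq, ← Nat.card_coe_set_eq]; exact le_of_eq heq.symm)
      (Set.toFinite _))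
  set c := g ^ 2 ^ (b - 2) with hc
  have hcc : c * c = h := by rw [hc, hh, ← pow_add]; congr 1; rw [← two_mul, ← pow_succ']; congr 1; omega
  have hch : ∀ v ∈ M.fix h, M.ρ c v = v := fun v hv => by
    rw [← hgh, FpfMod.mem_fix] at hv
    rw [hc]
    generalize 2 ^ (b - 2) = i
    induction i with
    | zero => rw [pow_zero, M.apply_one]
    | succ i ih => rw [pow_succ, M.apply_mul, hv, ih]
  have hall : ∀ w, M.ρ h w = w := fun w => by
    have hmem : M.ρ h w + w ∈ M.fix h := by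
      rw [FpfMod.mem_fix, map_add, ← M.apply_mul, mul_self_eq_one_of_orderOf hho, M.apply_one, add_comm]
    set u := M.ρ c w + w with hu
    have hcu : M.ρ c u = M.ρ h w + M.ρ c w := by rw [hu, map_add, ← M.apply_mul, hcc]
    have huh : u ∈ M.fix h := by
      rw [FpfMod.mem_fix]
      have h1 := hch _ hmem
      have hcomm : M.ρ h (M.ρ c w) = M.ρ c (M.ρ h w) := by
        rw [← M.apply_mul, ← M.apply_mul, ← hcc, mul_assoc]
      rw [hu, map_add, hcomm]
      rw [map_add] at h1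
      calc M.ρ c (M.ρ h w) + M.ρ h w = M.ρ c (M.ρ h w) + M.ρ c w + (M.ρ c w + M.ρ h w) := by
            rw [show M.ρ c (M.ρ h w) + M.ρ c w + (M.ρ c w + M.ρ h w) =
              M.ρ c (M.ρ h w) + M.ρ h w + (M.ρ c w + M.ρ c w) by abel, M.two, add_zero]
        _ = M.ρ h w + w + (M.ρ c w + M.ρ h w) := by rw [h1]
        _ = _ := by
            rw [show M.ρ h w + w + (M.ρ c w + M.ρ h w) = M.ρ c w + w + (M.ρ h w + M.ρ h w) by abel, M.two, add_zero]
    have h2 := hch u huh
    rw [hcu, hu] at h2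
    have h3 : M.ρ h w + M.ρ c w = w + M.ρ c w := h2.trans (add_comm _ _)
    exact add_right_cancel h3
  have h1 : qRep h = qRep 1 := by
    rw [map_one]
    exact AddMonoidHom.ext hall
  rw [qRep_injective hC hD h1, orderOf_one] at hho
  omega

/-- The quotient is `PSL₂` in characteristic two. -/
theorem exists_psl (hC : IsCIT X) (hD : pCore 2 X ≠ ⊥) {m : ℕ} (hIH : Below.{u} m) (hm : Nat.card X ≤ m)
    (hAD : ¬ A ≤ pCore 2 X) :
    ∃ (F : Type) (_ : Field F) (_ : Fintype F) (n : ℕ), 1 ≤ n ∧ Fintype.card F = 2 ^ n ∧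
      Nonempty (Qt X ≃* Matrix.ProjectiveSpecialLinearGroup (Fin 2) F) := by
  haveI : Fact (Nat.Prime 2) := ⟨Nat.prime_two⟩
  rcases struct hIH hm hC hD with hodd | htwo | hlin | hsuz
  · exfalso
    obtain ⟨b, hb⟩ := card_map_two hA
    have : Odd (Nat.card (A.map qk)) := hodd.of_dvd_nat (Subgroup.card_subgroup_dvd_card _)
    rcases Nat.eq_zero_or_pos b with rfl | hb0
    · exact map_ne_bot hA hAD (Subgroup.card_eq_one.mp hb)
    · rw [hb] at this
      exact absurd this (Nat.not_odd_iff_even.mpr (Nat.even_pow.mpr ⟨even_two, by omega⟩))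
  · obtain ⟨h4, h6⟩ := twoType_four hA hC hD hAD htwo
    exact ⟨ZMod 2, inferInstance, inferInstance, 1, le_rfl, ZMod.card 2,
      equiv_psl_two qRep (qRep_injective hC hD) (card_Vc.trans h4) h6⟩
  · obtain ⟨F, iF, iFt, n, hn, hF, e⟩ := hlin
    exact ⟨F, iF, iFt, n, by omega, hF, e⟩
  · exact (not_suzType hA hC hD hAD hsuz).elim

end Bound

end CfsgLib.CIT
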