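import Cfsg.Agent.Lib.CIT.Coords
import Cfsg.Agent.S0111

/-!
Two pieces of order sixteen: their product is a full Sylow 2-subgroup.
-/

set_option autoImplicit false
set_option linter.unusedSectionVars false
set_option linter.style.haveILetI false

namespace CfsgLib.CIT

open Subgroup Cfsg
open Matrix (SpecialLinearGroup)
open CfsgLib.PSL2 (uSL coe_uSL)
open CfsgLib.Involutions (mul_self_eq_one_of_orderOf inv_eq_self_of_orderOf orderOf_eq_two_iff' orderOf_conj)

universe u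

variable {G : Type u} [Group G] [Finite G]

/-- A lower bound for the number of conjugates under a subgroup. -/
theorem card_le_conj_mul (N : Subgroup G) (s : G) {k : ℕ}
    (hk : Nat.card ↥(N ⊓ centralizer ({s} : Set G)) ≤ k) :
    Nat.card N ≤ k * Nat.card (Set.range fun g : N => (g : G) * s * (g : G)⁻¹) := by
  classical
  haveI := Fintype.ofFinite N
  let φ : N → G := fun g => (g : G) * s * (g : G)⁻¹
  have h := Finset.card_le_mul_card_image (f := φ) (Finset.univ : Finset N) k fun v hv => ?_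
  · have hcard : Nat.card (Set.range φ) = (Finset.univ.image φ).card := by
      rw [← Fintype.coe_image_univ (f := φ), Nat.card_coe_set_eq, Set.ncard_coe_finset]
    rw [Nat.card_eq_fintype_card, ← Finset.card_univ]
    show Finset.univ.card ≤ k * Nat.card (Set.range φ)
    rw [hcard]
    exact h
  · obtain ⟨g₀, -, rfl⟩ := Finset.mem_image.mp hv
    refine le_trans ?_ hk
    rw [← Fintype.card_coe, ← Nat.card_eq_fintype_card]
    refine Nat.card_le_card_of_injective (fun g => (⟨(g₀ : G)⁻¹ * (g.1 : G), N.mul_mem (N.inv_mem g₀.2) g.1.2,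
      mem_centralizer_singleton_iff.mpr ?_⟩ : ↥(N ⊓ centralizer ({s} : Set G)))) ?_
    · have e : (g.1 : G) * s * (g.1 : G)⁻¹ = (g₀ : G) * s * (g₀ : G)⁻¹ := (Finset.mem_filter.mp g.2).2
      calc (g₀ : G)⁻¹ * (g.1 : G) * s = (g₀ : G)⁻¹ * ((g.1 : G) * s * (g.1 : G)⁻¹) * g.1 := by group
        _ = (g₀ : G)⁻¹ * ((g₀ : G) * s * (g₀ : G)⁻¹) * g.1 := by rw [e]
        _ = _ := by group
    · intro a b e
      exact Subtype.ext (Subtype.ext (mul_left_cancel (congrArg Subtype.val e)))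

namespace Piece

variable {T E : Subgroup G} (h : Piece T E 2)

include h

theorem card_normalizer : Nat.card (normalizer (E : Set G)) = 960 := by
  classical
  obtain ⟨F, iF, iFt, iC, hF, f, hf, hk, -⟩ := h.exists_model one_le_two
  rw [f.ker.card_eq_card_quotient_mul_card_subgroup,
    Nat.card_congr (QuotientGroup.quotientKerEquivOfSurjective f hf).toEquiv, CfsgLib.SLCard.card_SL_two, hF,
    show Nat.card f.ker = Nat.card E from Nat.card_congr
      { toFun := fun x => ⟨(x : normalizer (E : Set G)), (hk _).mp (MonoidHom.mem_ker.mp x.2)⟩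
        invFun := fun x => ⟨⟨x, Subgroup.le_normalizer x.2⟩, MonoidHom.mem_ker.mpr ((hk _).mpr x.2)⟩
        left_inv := fun x => rfl
        right_inv := fun x => rfl }, h.card]
  norm_num

theorem card_two_le (hT : Nat.card T = (2 ^ 2) ^ 3) {R : Subgroup G} (hR : IsPGroup 2 R)
    (hRN : R ≤ normalizer (E : Set G)) : Nat.card R ≤ 64 :=
  (h.ov.syl.card_le hR hRN).trans (by rw [hT]; norm_num)

/-- All involutions of a piece are conjugate in its normaliser. -/
theorem conj_involution (hG : IsCIT G) (hT : Nat.card T = (2 ^ 2) ^ 3) {s t : G} (hs : s ∈ E) (hs1 : s ≠ 1)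
    (ht : t ∈ E) (ht1 : t ≠ 1) : ∃ g ∈ normalizer (E : Set G), g * s * g⁻¹ = t := by
  classical
  set N := normalizer (E : Set G) with hN
  have hc := card_le_conj_mul N s (h.card_two_le hT
    ((hG s (orderOf_eq_two_iff'.mpr ⟨h.sq s hs, hs1⟩)).to_le inf_le_right) inf_le_left)
  rw [h.card_normalizer] at hc
  set R := Set.range fun g : N => (g : G) * s * (g : G)⁻¹
  have hsub : R ⊆ (E : Set G) \ {1} := by
    rintro _ ⟨g, rfl⟩
    refine ⟨(Subgroup.mem_normalizer_iff.mp g.2 s).mp hs, fun e => hs1 ?_⟩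
    simpa using conj_eq_one_iff.mp (Set.mem_singleton_iff.mp e)
  have heq : R = (E : Set G) \ {1} := Set.eq_of_subset_of_ncard_le hsub (by
    rw [Set.ncard_sdiff_singleton_of_mem E.one_mem, ← Nat.card_coe_set_eq, ← Nat.card_coe_set_eq]
    have h16 : Nat.card E = 16 := by rw [h.card]; norm_num
    show Nat.card E - 1 ≤ Nat.card R
    omega) (Set.toFinite _)
  obtain ⟨g, hg⟩ := heq.symm ▸ (show t ∈ (E : Set G) \ {1} from ⟨ht, ht1⟩)
  exact ⟨g, g.2, hg⟩

end Piece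

section Pair

variable {T E₁ E₂ : Subgroup G} (h₁ : Piece T E₁ 2) (h₂ : Piece T E₂ 2) (hne : E₁ ≠ E₂)
  (hT : Nat.card T = (2 ^ 2) ^ 3)

include h₁ h₂ hne hT

theorem pair_conj_all (hG : IsCIT G) {z t : G} (hz : z ∈ E₁ ⊓ E₂) (hz1 : z ≠ 1) (ht : t ∈ T) (ht2 : t * t = 1)
    (ht1 : t ≠ 1) : ∃ g : G, g * z * g⁻¹ = t := by
  rcases pair_sq h₁ h₂ hne hT hG ht ht2 with h | h
  · obtain ⟨g, -, e⟩ := h₁.conj_involution hG hT hz.1 hz1 h ht1; exact ⟨g, e⟩
  · obtain ⟨g, -, e⟩ := h₂.conj_involution hG hT hz.2 hz1 h ht1; exact ⟨g, e⟩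

/-- The pieces are permuted by the normaliser of `T`. -/
theorem pair_swap (hG : IsCIT G) {g : G} (hg : g ∈ normalizer (T : Set G))
    (hg1 : g ∉ normalizer (E₁ : Set G)) : cj g E₁ = E₂ ∧ cj g E₂ = E₁ := by
  have hperm : ∀ E : Subgroup G, E ≤ T → Nat.card E = 16 → (∀ x ∈ E, x * x = 1) → cj g E = E₁ ∨ cj g E = E₂ := by
    intro E hle hc hsq
    have hle' : cj g E ≤ T := (cj_le_cj hle).trans (cj_eq_of_mem hg).le
    have hsq' : ∀ x ∈ cj g E, x * x = 1 := fun x hx => by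
      obtain ⟨y, hy, rfl⟩ := hx
      rw [← map_mul, hsq y hy, map_one]
    rcases le_or_le_of_forall (fun x hx => pair_sq h₁ h₂ hne hT hG (hle' hx) (hsq' x hx)) with h | h
    · exact Or.inl (Subgroup.eq_of_le_of_card_ge h (by rw [card_cj, hc, h₁.card]; norm_num))
    · exact Or.inr (Subgroup.eq_of_le_of_card_ge h (by rw [card_cj, hc, h₂.card]; norm_num))
  have e1 := (hperm E₁ h₁.le (by rw [h₁.card]; norm_num) h₁.sq).resolve_left fun e => hg1 (mem_normalizer_of_cj e)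
  refine ⟨e1, (hperm E₂ h₂.le (by rw [h₂.card]; norm_num) h₂.sq).resolve_right fun e => hne ?_⟩
  exact Subgroup.map_injective (f := (MulAut.conj g).toMonoidHom) (MulAut.conj g).injective (e1.trans e.symm)

theorem pair_sq_mem_normalizer (hG : IsCIT G) {g g' : G} (hg : g ∈ normalizer (T : Set G))
    (hg' : g' ∈ normalizer (T : Set G)) (hg1 : g ∉ normalizer (E₁ : Set G)) (hg1' : g' ∉ normalizer (E₁ : Set G)) :
    g * g' ∈ normalizer (E₁ : Set G) := by
  refine mem_normalizer_of_cj ?_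
  rw [← cj_cj, (pair_swap h₁ h₂ hne hT hG hg' hg1').1, (pair_swap h₁ h₂ hne hT hG hg hg1).2]

theorem pair_T_of_two (hG : IsCIT G) {S : Subgroup G} (hS : IsPGroup 2 S) (hTS : T ≤ S) {g : G} (hgS : g ∈ S)
    (hg : g ∈ normalizer (E₁ : Set G)) : g ∈ T :=
  h₁.ov.syl.max (S ⊓ normalizer (E₁ : Set G)) (hS.to_le inf_le_left) (le_inf hTS h₁.le_normalizer) inf_le_right ▸
    (show g ∈ S ⊓ normalizer (E₁ : Set G) from ⟨hgS, hg⟩)

/-- An element of order three normalising `T` and the first piece. -/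
theorem pair_exists_three (hG : IsCIT G) :
    ∃ h : G, orderOf h = 3 ∧ h ∈ normalizer (E₁ : Set G) ∧ h ∈ normalizer (T : Set G) := by
  classical
  obtain ⟨F, iF, iFt, iC, hF, f, hf, hk, hTm⟩ := h₁.exists_model one_le_two
  obtain ⟨c, hc⟩ : ∃ c : F, c ∉ ({0, 1} : Finset F) := by
    by_contra hh
    push Not at hh
    have := Finset.card_le_card (fun y _ => hh y : Finset.univ ⊆ ({0, 1} : Finset F))
    have h2 := Finset.card_le_two (a := (0 : F)) (b := 1)
    rw [Finset.card_univ, hF] at this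
    omega
  rw [Finset.mem_insert, Finset.mem_singleton, not_or] at hc
  obtain ⟨g, hg⟩ := hf (dg c hc.1)
  have hc3 : (dg c hc.1) ^ 3 = 1 := by
    have h3 : c ^ 3 = 1 := by
      have := FiniteField.pow_card_sub_one_eq_one c hc.1
      rwa [hF] at this
    have h3' : dg c hc.1 ^ 3 = dg (c * c * c) (mul_ne_zero (mul_ne_zero hc.1 hc.1) hc.1) := by
      rw [pow_succ, sq, dg_mul, dg_mul]
    rw [h3']
    apply Subtype.ext
    rw [coe_dg]
    have e : c * c * c = 1 := by rw [← h3]; ring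
    simp [e, Matrix.one_fin_two]
  obtain ⟨a, m, hm, ha⟩ : ∃ a m : ℕ, Odd m ∧ orderOf g = 2 ^ a * m := by
    obtain ⟨a, m, hm, e⟩ := Nat.exists_eq_two_pow_mul_odd (orderOf_pos g).ne'
    exact ⟨a, m, hm, e⟩
  set x := g ^ 2 ^ a
  have hfx : f x ≠ 1 := fun e => by
    rw [map_pow, hg] at e
    have hd := orderOf_dvd_of_pow_eq_one e
    have ho : orderOf (dg c hc.1) = 3 := by
      haveI : Fact (Nat.Prime 3) := ⟨Nat.prime_three⟩
      refine orderOf_eq_prime hc3 fun e1 => hc.2 ?_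
      simpa [coe_dg] using congrArg (fun g : SpecialLinearGroup (Fin 2) F => g.1 0 0) e1
    rw [ho] at hd
    exact absurd (Nat.prime_three.dvd_of_dvd_pow hd) (by norm_num)
  have hodd : Odd (orderOf x) := hm.of_dvd_nat (orderOf_dvd_of_pow_eq_one (by
    rw [← pow_mul, ← ha, pow_orderOf_eq_one]))
  have hx3 : orderOf (x : G) = 3 := by
    haveI : Fact (Nat.Prime 3) := ⟨Nat.prime_three⟩
    rw [Subgroup.orderOf_coe]
    refine orderOf_eq_prime ?_ fun e => hfx (by rw [e, map_one])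
    have hmem : ((x ^ 3 : normalizer (E₁ : Set G)) : G) ∈ E₁ := (hk _).mp (by
      rw [map_pow, map_pow, hg, ← pow_mul, mul_comm, pow_mul, hc3, one_pow])
    refine Subtype.ext (eq_one_of_mem_two_group h₁.two hmem ?_)
    rw [Subgroup.orderOf_coe]
    exact hodd.of_dvd_nat (orderOf_pow_dvd 3)
  refine ⟨x, hx3, x.2, ?_⟩
  have hgT : (g : G) ∈ normalizer (T : Set G) := by
    refine mem_normalizer_of_cj (Subgroup.eq_of_le_of_card_ge ?_ (card_cj _ _).ge)
    rintro _ ⟨t, ht, rfl⟩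
    obtain ⟨b, hb⟩ := (hTm ⟨t, h₁.le_normalizer ht⟩).mp ht
    refine (hTm (g * ⟨t, h₁.le_normalizer ht⟩ * g⁻¹)).mpr ⟨c ^ 2 * b, ?_⟩
    rw [map_mul, map_mul, map_inv, hg, hb, dg_conj, mul_inv_cancel_right]
  exact pow_mem hgT _

/-- An element of order three normalising the pieces moves every non-trivial element of the common part. -/
theorem pair_three_fpf (hG : IsCIT G) {h : G} (hh : orderOf h = 3) {l : G} (hl : l ∈ E₁ ⊓ E₂)
    (e : h * l = l * h) : l = 1 := by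
  by_contra hl1
  have := hG.fpf (x := h) (by rw [hh]; decide) (k := 1) (s := l) (by rw [pow_one, sq]; exact h₁.sq l hl.1) hl1 e
  rw [this, orderOf_one] at hh
  omega

/-- An involution exchanging the pieces and inverting an element of order three. -/
theorem pair_exists_flip (hG : IsCIT G) {y : G} (hy : y ∈ normalizer (T : Set G))
    (hy1 : y ∉ normalizer (E₁ : Set G)) :
    ∃ h u : G, orderOf h = 3 ∧ h ∈ normalizer (E₁ : Set G) ∧ h ∈ normalizer (T : Set G) ∧ orderOf u = 2 ∧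
      u ∈ normalizer (T : Set G) ∧ u ∉ normalizer (E₁ : Set G) ∧ u * h * u⁻¹ = h⁻¹ := by
  haveI : Fact (Nat.Prime 3) := ⟨Nat.prime_three⟩
  classical
  obtain ⟨h, hh, hh1, hhT⟩ := pair_exists_three h₁ h₂ hne hT hG
  set N₁ := normalizer (E₁ : Set G) with hN₁
  set B := N₁ ⊓ normalizer (T : Set G) with hB
  have hyB : ∀ b : G, b ∈ B → y * b * y⁻¹ ∈ B := fun b hb => by
    refine ⟨mem_normalizer_of_cj ?_, (normalizer (T : Set G)).mul_mem ((normalizer (T : Set G)).mul_mem hy hb.2) ((normalizer (T : Set G)).inv_mem hy)⟩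
    have hy' : y⁻¹ ∉ N₁ := fun h' => hy1 (inv_mem_iff.mp h')
    rw [← cj_cj, ← cj_cj, (pair_swap h₁ h₂ hne hT hG (inv_mem hy) hy').1,
      cj_eq_of_mem (pair_normalizer h₁ h₂ hne hT hG hb.1 hb.2), (pair_swap h₁ h₂ hne hT hG hy hy1).2]
  have hc3 : ∀ (x : G) (hx : x ∈ B), orderOf x = 3 →
      Nat.card (zpowers (⟨x, hx⟩ : B)) = 3 ^ (Nat.card B).factorization 3 := by
    intro x hx hxo
    have h1 : Nat.card B ∣ 960 := h₁.card_normalizer ▸ Subgroup.card_dvd_of_le inf_le_left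
    have h2 : (Nat.card B).factorization 3 = 1 := by
      refine le_antisymm ?_ (Nat.Prime.factorization_pos_of_dvd Nat.prime_three Nat.card_pos.ne' ?_)
      · refine ((Nat.factorization_le_iff_dvd Nat.card_pos.ne' (by norm_num)).mpr h1 3).trans (le_of_eq ?_)
        rw [show (960 : ℕ) = 3 * 320 from rfl, Nat.factorization_mul (by norm_num) (by norm_num), Finsupp.add_apply,
          Nat.prime_three.factorization_self, Nat.factorization_eq_zero_of_not_dvd (by norm_num)]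
      · rw [← hxo, ← Subgroup.orderOf_mk x hx]
        exact orderOf_dvd_natCard _
    rw [Nat.card_zpowers, Subgroup.orderOf_mk, hxo, h2, pow_one]
  set P : Sylow 3 B := Sylow.ofCard _ (hc3 h ⟨hh1, hhT⟩ hh) with hP
  set Q : Sylow 3 B := Sylow.ofCard _ (hc3 _ (hyB h ⟨hh1, hhT⟩) ((orderOf_conj y h).trans hh)) with hQ
  obtain ⟨b, hb⟩ := MulAction.exists_smul_eq B Q P
  set y₀ := (b : G) * y with hy₀
  have hy₀T : y₀ ∈ normalizer (T : Set G) := mul_mem b.2.2 hy
  have hy₀1 : y₀ ∉ N₁ := fun h' => hy1 (by simpa [hy₀] using N₁.mul_mem (N₁.inv_mem b.2.1) h')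
  have hy₀h : y₀ * h * y₀⁻¹ ∈ zpowers h := by
    have hmem : (MulAut.conj b) • (⟨y * h * y⁻¹, hyB h ⟨hh1, hhT⟩⟩ : B) ∈ ((P : Sylow 3 B) : Subgroup B) := by
      rw [← hb, Sylow.coe_subgroup_smul]
      exact Subgroup.smul_mem_pointwise_smul _ _ _ (mem_zpowers _)
    rw [hP, Sylow.coe_ofCard] at hmem
    obtain ⟨i, hi⟩ := hmem
    refine ⟨i, (congrArg Subtype.val hi).trans ?_⟩
    show (b : G) * (y * h * y⁻¹) * (b : G)⁻¹ = _
    rw [hy₀]; group
  -- two-part
  obtain ⟨a, m, hm, ha⟩ : ∃ a m : ℕ, Odd m ∧ orderOf y₀ = 2 ^ a * m := by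
    obtain ⟨a, m, hm, e⟩ := Nat.exists_eq_two_pow_mul_odd (orderOf_pos y₀).ne'
    exact ⟨a, m, hm, e⟩
  set u := y₀ ^ m with hu
  have hu2 : u ^ 2 ^ a = 1 := by rw [hu, ← pow_mul, mul_comm, ← ha, pow_orderOf_eq_one]
  have hu1 : u ∉ N₁ := fun h' => hy₀1 (by
    obtain ⟨c, rfl⟩ := hm
    rw [hu, pow_succ, pow_mul, sq] at h'
    exact (Subgroup.mul_mem_cancel_left _ (pow_mem (pair_sq_mem_normalizer h₁ h₂ hne hT hG hy₀T hy₀T hy₀1 hy₀1) c)).mp h')
  have hhc : orderOf h = Nat.card (zpowers h) := (Nat.card_zpowers h).symm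
  have huh : u * h * u⁻¹ ∈ zpowers h := by
    have hn : y₀ ∈ normalizer (zpowers h : Set G) := by
      refine mem_normalizer_of_cj (Subgroup.eq_of_le_of_card_ge ?_ (card_cj _ _).ge)
      rintro _ ⟨x, ⟨i, rfl⟩, rfl⟩
      show MulAut.conj y₀ (h ^ i) ∈ _
      rw [map_zpow]
      exact zpow_mem hy₀h i
    exact (Subgroup.mem_normalizer_iff.mp (pow_mem hn m) h).mp (mem_zpowers h)
  have hune : u ≠ 1 := fun e => hu1 (e ▸ one_mem _)
  have hfpf : ∀ v : G, v ^ 2 ^ a = 1 → v * h * v⁻¹ = h → v = 1 := fun v hv e => by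
    by_contra hv1
    have := hG.fpf (x := h) (by rw [hh]; decide) hv hv1 (mul_inv_eq_iff_eq_mul.mp e).symm
    rw [this, orderOf_one] at hh
    omega
  have hinv : u * h * u⁻¹ = h⁻¹ := by
    rw [mem_zpowers_iff_mem_range_orderOf, hh, Finset.mem_image] at huh
    obtain ⟨j, hj, hje⟩ := huh
    have hj3 := Finset.mem_range.mp hj
    interval_cases j
    · rw [pow_zero] at hje
      rw [conj_eq_one_iff.mp hje.symm, orderOf_one] at hh
      omega
    · rw [pow_one] at hje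
      exact absurd (hfpf u hu2 hje.symm) hune
    · rw [← hje]
      refine eq_inv_of_mul_eq_one_left ?_
      rw [← pow_succ, show (2 : ℕ) + 1 = orderOf h from hh.symm, pow_orderOf_eq_one]
  have huu : u * u = 1 := hfpf _ (by rw [← sq, ← pow_mul, mul_comm, pow_mul, hu2, one_pow]) (by
    rw [show u * u * h * (u * u)⁻¹ = u * (u * h * u⁻¹) * u⁻¹ by group, hinv,
      show u * h⁻¹ * u⁻¹ = (u * h * u⁻¹)⁻¹ by group, hinv, inv_inv])
  exact ⟨h, u, hh, hh1, hhT, orderOf_eq_two_iff'.mpr ⟨huu, hune⟩, pow_mem hy₀T m, hu1, hinv⟩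

/-- The product of two pieces of order sixteen is a maximal 2-subgroup. -/
theorem pair_sylow [IsSimpleGroup G] (hna : ¬ IsMulCommutative G) (hG : IsCIT G) :
    ∀ R : Subgroup G, IsPGroup 2 R → T ≤ R → R = T := by
  intro R₀ hR₀ hTR₀
  by_contra hne₀
  haveI : Fact (Nat.Prime 2) := ⟨Nat.prime_two⟩
  classical
  obtain ⟨y, hy, hyT⟩ := SetLike.exists_of_lt (lt_inf_normalizer_two hR₀ (lt_of_le_of_ne hTR₀ (Ne.symm hne₀)))
  obtain ⟨h, u, hh, hh1, hhT, huo, huT, hu1, hinv⟩ := pair_exists_flip h₁ h₂ hne hT hG hy.2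
    fun h' => hyT (pair_T_of_two h₁ h₂ hne hT hG hR₀ hTR₀ hy.1 h')
  have huu := mul_self_eq_one_of_orderOf huo
  have hui := inv_eq_self_of_orderOf huo
  set R := zpowers u ⊔ T with hR
  have hR2 : IsPGroup 2 R := IsPGroup.to_sup_of_normal_right'
    (IsPGroup.of_card (n := 1) (by rw [Nat.card_zpowers, huo, pow_one])) h₁.ov.syl.two (zpowers_le.mpr huT)
  obtain ⟨S, hRS⟩ := hR2.exists_le_sylow
  have hTS : T ≤ (S : Subgroup G) := le_sup_right.trans hRS
  have huS : u ∈ (S : Subgroup G) := hRS (mem_sup_left (mem_zpowers u))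
  have huNot : u ∉ T := fun h' => hu1 (h₁.le_normalizer h')
  obtain ⟨sw1, sw2⟩ := pair_swap h₁ h₂ hne hT hG huT hu1
  have hswap : ∀ x, (x ∈ E₁ → u * x * u⁻¹ ∈ E₂) ∧ (x ∈ E₂ → u * x * u⁻¹ ∈ E₁) := fun x =>
    ⟨fun hx => sw1 ▸ ⟨x, hx, rfl⟩, fun hx => sw2 ▸ ⟨x, hx, rfl⟩⟩
  have hdecR : ∀ r ∈ R, r ∈ T ∨ r * u ∈ T := by
    intro r hr
    rw [hR, ← SetLike.mem_coe, Subgroup.coe_mul_of_left_le_normalizer_right _ _ (zpowers_le.mpr huT)] at hr
    obtain ⟨a, ⟨i, rfl⟩, t, ht, rfl⟩ := hr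
    obtain ⟨l, rfl | rfl⟩ := Int.even_or_odd' i
    · left
      show u ^ (2 * l) * t ∈ T
      rw [zpow_mul, zpow_two, huu, one_zpow, one_mul]
      exact ht
    · right
      show u ^ (2 * l + 1) * t * u ∈ T
      rw [zpow_add_one, zpow_mul, zpow_two, huu, one_zpow, one_mul]
      have := (Subgroup.mem_normalizer_iff.mp huT t).mp ht
      rwa [hui] at this
  -- the common part
  set L := E₁ ⊓ E₂ with hL
  obtain ⟨hLc, -, -⟩ := pair_card h₁ h₂ hne hT hG
  have hLu : ∀ l ∈ L, u * l * u⁻¹ ∈ L := fun l hl => ⟨(hswap l).2 hl.2, (hswap l).1 hl.1⟩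
  have hLh : ∀ l ∈ L, h * l * h⁻¹ ∈ L := fun l hl => ⟨(Subgroup.mem_normalizer_iff.mp hh1 l).mp hl.1,
    (Subgroup.mem_normalizer_iff.mp (pair_normalizer h₁ h₂ hne hT hG hh1 hhT) l).mp hl.2⟩
  let φ : L →* L :=
    { toFun := fun l => ⟨(l : G) * (u * l * u⁻¹), mul_mem l.2 (hLu l l.2)⟩
      map_one' := Subtype.ext (by simp)
      map_mul' := fun a b => Subtype.ext (by
        show (a : G) * b * (u * ((a : G) * b) * u⁻¹) = a * (u * a * u⁻¹) * (b * (u * b * u⁻¹))
        calc (a : G) * b * (u * ((a : G) * b) * u⁻¹) = a * (b * (u * a * u⁻¹)) * (u * b * u⁻¹) := by group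
          _ = a * (u * a * u⁻¹ * b) * (u * b * u⁻¹) := by rw [h₁.comm b.2.1 (hLu a a.2).1]
          _ = _ := by group) }
  have hφfix : ∀ l : L, u * (φ l : G) * u⁻¹ = φ l := fun l => by
    show u * ((l : G) * (u * l * u⁻¹)) * u⁻¹ = l * (u * l * u⁻¹)
    calc u * ((l : G) * (u * l * u⁻¹)) * u⁻¹ = u * l * u⁻¹ * ((u * u) * l * (u * u)⁻¹) := by group
      _ = u * l * u⁻¹ * l := by rw [huu]; group
      _ = _ := h₁.comm (hLu l l.2).1 l.2.1
  have hnfix : ∃ l : L, u * (l : G) * u⁻¹ ≠ l := by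
    by_contra hh'
    push Not at hh'
    obtain ⟨l, hl, hl1⟩ : ∃ l ∈ L, l ≠ (1 : G) := by
      by_contra h'
      push Not at h'
      have : Nat.card L = 1 := Subgroup.card_eq_one.mpr ((Subgroup.eq_bot_iff_forall L).mpr h')
      rw [hLc] at this
      norm_num at this
    refine hl1 (pair_three_fpf h₁ h₂ hne hT hG hh hl ?_)
    have hfl : h * l * h⁻¹ = h⁻¹ * l * h := by
      have h1 := hh' ⟨_, hLh l hl⟩
      calc h * l * h⁻¹ = u * (h * l * h⁻¹) * u⁻¹ := h1.symm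
        _ = u * h * u⁻¹ * (u * l * u⁻¹) * (u * h * u⁻¹)⁻¹ := by group
        _ = _ := by rw [hinv, hh' ⟨l, hl⟩, inv_inv]
    have h3 : h * h * h = 1 := by rw [← sq, ← pow_succ, show (2 : ℕ) + 1 = orderOf h from hh.symm, pow_orderOf_eq_one]
    have h2 : h * h * l = l * (h * h) := by
      calc h * h * l = h * (h * l * h⁻¹) * h := by group
        _ = h * (h⁻¹ * l * h) * h := by rw [hfl]
        _ = _ := by group
    calc h * l = h * (h * h * h) * l := by rw [h3, mul_one]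
      _ = (h * h) * (h * h * l) := by group
      _ = (h * h) * l * (h * h) := (congrArg (h * h * ·) h2).trans (mul_assoc _ _ _).symm
      _ = l * (h * h) * (h * h) := by rw [h2]
      _ = l * h * (h * h * h) := by group
      _ = l * h := by rw [h3, mul_one]
  obtain ⟨l₁, hl₁⟩ := hnfix
  set z : G := (φ l₁ : G) with hz
  have hzL : z ∈ L := (φ l₁).2
  have hz1 : z ≠ 1 := fun e => hl₁ (by
    have e' : (l₁ : G) * (u * l₁ * u⁻¹) = 1 := e
    rw [eq_inv_of_mul_eq_one_right e', inv_eq_of_mul_eq_one_right (h₁.sq _ l₁.2.1)])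
  have hzu : u * z = z * u := mul_inv_eq_iff_eq_mul.mp (hφfix l₁)
  set Fx := L ⊓ centralizer ({u} : Set G) with hFx
  have hFx2 : Nat.card Fx = 2 := by
    have hlt : Nat.card Fx < Nat.card L := by
      by_contra hge
      push Not at hge
      have e := Subgroup.eq_of_le_of_card_ge (inf_le_left : Fx ≤ L) hge
      have : (l₁ : G) ∈ Fx := (SetLike.ext_iff.mp e _).mpr l₁.2
      exact hl₁ (by rw [← mem_centralizer_singleton_iff.mp this.2, mul_inv_cancel_right])
    have hgt : 1 < Nat.card Fx := by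
      haveI : Nontrivial Fx := ⟨⟨⟨z, hzL, mem_centralizer_singleton_iff.mpr hzu.symm⟩, 1, fun e =>
        hz1 (congrArg Subtype.val e)⟩⟩
      exact Finite.one_lt_card
    have hd := Subgroup.card_dvd_of_le (inf_le_left : Fx ≤ L)
    rw [hLc] at hd hlt
    obtain ⟨i, -, hi⟩ := (Nat.dvd_prime_pow Nat.prime_two).mp hd
    rw [hi] at hlt hgt ⊢
    have h1 := (Nat.pow_lt_pow_iff_right (by norm_num : 1 < 2)).mp hlt
    rcases i with _ | _ | i
    · simp at hgt
    · rfl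
    · omega
  have hFxz : ∀ x ∈ L, u * x = x * u → x = 1 ∨ x = z := by
    intro x hx hxu
    rw [or_iff_not_imp_left]
    intro hx1
    by_contra hxz
    have h3 : ({1, x, z} : Set G) ⊆ (Fx : Set G) := by
      rintro w (rfl | rfl | rfl)
      exacts [one_mem _, ⟨hx, mem_centralizer_singleton_iff.mpr hxu.symm⟩,
        ⟨hzL, mem_centralizer_singleton_iff.mpr hzu.symm⟩]
    have hle := Set.ncard_le_ncard h3 (Set.toFinite _)
    rw [Set.ncard_insert_of_notMem (by simp [Ne.symm hx1, Ne.symm hz1]),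
      Set.ncard_insert_of_notMem (by simp [hxz]), Set.ncard_singleton, ← Nat.card_coe_set_eq] at hle
    have : Nat.card ↥(Fx : Set G) = 2 := hFx2
    omega
  -- the centraliser of the involution in `T`
  have hinvT : ∀ t ∈ T, t * t = 1 → u * t = t * u → t = 1 ∨ t = z := by
    intro t ht ht2 htu
    have e : u * t * u⁻¹ = t := mul_inv_eq_iff_eq_mul.mpr htu
    refine hFxz t ?_ htu
    rcases pair_sq h₁ h₂ hne hT hG ht ht2 with h' | h'
    · exact ⟨h', e ▸ (hswap t).1 h'⟩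
    · exact ⟨e ▸ (hswap t).2 h', h'⟩
  set D := T ⊓ centralizer ({u} : Set G) with hD
  have hcommL : ∀ a ∈ E₁, ∀ b ∈ E₂, a * b * a⁻¹ * b⁻¹ ∈ L := fun a ha b hb =>
    ⟨by rw [show a * b * a⁻¹ * b⁻¹ = a * (b * a⁻¹ * b⁻¹) by group]
        exact mul_mem ha ((Subgroup.mem_normalizer_iff.mp (h₁.le_normalizer (h₂.le hb)) _).mp (inv_mem ha)),
      E₂.mul_mem ((Subgroup.mem_normalizer_iff.mp (h₂.le_normalizer (h₁.le ha)) _).mp hb) (E₂.inv_mem hb)⟩
  have hD8 : 8 ≤ Nat.card D := by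
    obtain ⟨F, iF, iFt, iC, hF, f, hf, hk, hTm⟩ := h₁.exists_model one_le_two
    set D₁ := D.subgroupOf (normalizer (E₁ : Set G)) with hD₁
    have hDle : D ≤ normalizer (E₁ : Set G) := inf_le_left.trans h₁.le_normalizer
    have key := card_map_mul_card_inf_ker f D₁
    rw [Nat.card_congr (Subgroup.subgroupOfEquivOfLe hDle).toEquiv] at key
    rw [← key]
    have h4 : Nat.card F = 4 := by rw [Nat.card_eq_fintype_card, hF]; norm_num
    have himg : ∀ a : F, (uSL a : SpecialLinearGroup (Fin 2) F) ∈ D₁.map f := by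
      intro a
      obtain ⟨x, hx⟩ := hf (uSL a)
      obtain ⟨c, hc, b, hb, e⟩ := pair_decomp h₁ h₂ hne hT hG ((hTm x).mpr ⟨a, hx⟩)
      set a₁ := u * b * u⁻¹ with ha₁
      have ha₁E : a₁ ∈ E₁ := (hswap b).2 hb
      have hba : u * a₁ * u⁻¹ = b := by
        rw [ha₁, show u * (u * b * u⁻¹) * u⁻¹ = (u * u) * b * (u * u)⁻¹ by group, huu]; group
      set k := (a₁ * b)⁻¹ * (b * a₁) with hk'
      have hkL : k ∈ L := by
        have := hcommL a₁⁻¹ (inv_mem ha₁E) b⁻¹ (inv_mem hb)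
        rw [inv_inv, inv_inv] at this
        have h2 := inv_mem this
        rw [show (a₁⁻¹ * b⁻¹ * a₁ * b)⁻¹ = (a₁ * b)⁻¹ * (b * a₁) by group] at h2
        exact h2
      have hku : u * k * u⁻¹ = k := by
        have e1 : u * k * u⁻¹ = k⁻¹ := by
          rw [hk', show u * ((a₁ * b)⁻¹ * (b * a₁)) * u⁻¹ =
            ((u * a₁ * u⁻¹) * (u * b * u⁻¹))⁻¹ * ((u * b * u⁻¹) * (u * a₁ * u⁻¹)) by group, hba, ← ha₁]
          group
        rw [e1]
        exact inv_eq_of_mul_eq_one_right (h₁.sq k hkL.1)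
      obtain ⟨l, hl⟩ : ∃ l : L, (φ l : G) = k := by
        rcases hFxz k hkL (mul_inv_eq_iff_eq_mul.mp hku) with e1 | e1
        · exact ⟨1, by rw [map_one, e1]; rfl⟩
        · exact ⟨l₁, by rw [e1, hz]⟩
      have hlu : u * (l : G) * u⁻¹ = k * l := by
        rw [← hl]
        show _ = (l : G) * (u * l * u⁻¹) * l
        rw [h₁.comm l.2.1 (hLu l l.2).1, mul_assoc (u * (l : G) * u⁻¹), h₁.sq _ l.2.1, mul_one]
      set t := a₁ * b * l with ht
      have htT : t ∈ T := mul_mem (mul_mem (h₁.le ha₁E) (h₂.le hb)) (h₁.le l.2.1)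
      have htu : u * t = t * u := by
        refine mul_inv_eq_iff_eq_mul.mp ?_
        rw [ht, show u * (a₁ * b * l) * u⁻¹ = (u * a₁ * u⁻¹) * (u * b * u⁻¹) * (u * l * u⁻¹) by group, hba, ← ha₁,
          hlu, hk']
        calc b * a₁ * ((a₁ * b)⁻¹ * (b * a₁) * l) = b * a₁ * ((a₁ * b)⁻¹ * (b * a₁)) * l := by group
          _ = b * a₁ * k * l := by rw [hk']
          _ = b * a₁ * k⁻¹ * l := by rw [inv_eq_of_mul_eq_one_right (h₁.sq k hkL.1)]
          _ = _ := by rw [hk']; group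
      refine ⟨⟨t, h₁.le_normalizer htT⟩, Subgroup.mem_subgroupOf.mpr ⟨htT, mem_centralizer_singleton_iff.mpr htu.symm⟩, ?_⟩
      have e2 : (⟨t, h₁.le_normalizer htT⟩ : normalizer (E₁ : Set G)) =
          ⟨a₁, Subgroup.le_normalizer ha₁E⟩ * ⟨b, h₁.le_normalizer (h₂.le hb)⟩ *
            ⟨(l : G), Subgroup.le_normalizer l.2.1⟩ := rfl
      have e3 : x = ⟨c, Subgroup.le_normalizer hc⟩ * ⟨b, h₁.le_normalizer (h₂.le hb)⟩ := Subtype.ext e
      rw [← hx, e2, e3, map_mul, map_mul, map_mul, (hk ⟨a₁, Subgroup.le_normalizer ha₁E⟩).mpr ha₁E,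
        (hk ⟨c, Subgroup.le_normalizer hc⟩).mpr hc, (hk ⟨(l : G), Subgroup.le_normalizer l.2.1⟩).mpr l.2.1, mul_one]
    have hm : 4 ≤ Nat.card (D₁.map f) := by
      rw [← h4]
      refine Nat.card_le_card_of_injective (fun a => (⟨uSL a, himg a⟩ : D₁.map f)) fun a b e => ?_
      simpa [coe_uSL] using congrArg (fun g : D₁.map f => (g : SpecialLinearGroup (Fin 2) F).1 0 1) e
    have hker : 2 ≤ Nat.card ↥(D₁ ⊓ f.ker) := by
      haveI : Nontrivial ↥(D₁ ⊓ f.ker) := ⟨⟨⟨⟨z, Subgroup.le_normalizer hzL.1⟩,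
        Subgroup.mem_subgroupOf.mpr ⟨h₁.le hzL.1, mem_centralizer_singleton_iff.mpr hzu.symm⟩,
        MonoidHom.mem_ker.mpr ((hk _).mpr hzL.1)⟩, 1, fun e => hz1 (congrArg Subtype.val (congrArg Subtype.val e))⟩⟩
      exact Finite.one_lt_card
    calc 8 = 4 * 2 := by norm_num
      _ ≤ _ := Nat.mul_le_mul hm hker
  have hTcomm : ∀ a ∈ T, ∀ b ∈ T, a * b * a⁻¹ * b⁻¹ ∈ L := by
    intro a ha b hb
    obtain ⟨a₁, ha₁, a₂, ha₂, rfl⟩ := pair_decomp h₁ h₂ hne hT hG ha
    obtain ⟨b₁, hb₁, b₂, hb₂, rfl⟩ := pair_decomp h₁ h₂ hne hT hG hb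
    have hcl : ∀ l ∈ L, ∀ t ∈ T, t * l = l * t := fun l hl t ht => pair_center h₁ h₂ hne hT hG hl ht
    set c₁ := a₂ * b₁ * a₂⁻¹ * b₁⁻¹ with hc₁
    set c₂ := a₁ * b₂ * a₁⁻¹ * b₂⁻¹ with hc₂
    have hc₁L : c₁ ∈ L := by
      have := inv_mem (hcommL b₁ hb₁ a₂ ha₂)
      rwa [show (b₁ * a₂ * b₁⁻¹ * a₂⁻¹)⁻¹ = a₂ * b₁ * a₂⁻¹ * b₁⁻¹ by group] at this
    have hc₂L : c₂ ∈ L := hcommL a₁ ha₁ b₂ hb₂
    have key : a₁ * a₂ * (b₁ * b₂) * (a₁ * a₂)⁻¹ * (b₁ * b₂)⁻¹ = c₁ * c₂ := by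
      calc a₁ * a₂ * (b₁ * b₂) * (a₁ * a₂)⁻¹ * (b₁ * b₂)⁻¹
          = a₁ * (c₁ * b₁) * (a₂ * b₂ * a₂⁻¹) * a₁⁻¹ * b₂⁻¹ * b₁⁻¹ := by rw [hc₁]; group
        _ = (a₁ * c₁) * b₁ * b₂ * a₁⁻¹ * b₂⁻¹ * b₁⁻¹ := by rw [h₂.comm ha₂ hb₂]; group
        _ = c₁ * (a₁ * b₁) * b₂ * a₁⁻¹ * b₂⁻¹ * b₁⁻¹ := by rw [hcl c₁ hc₁L a₁ (h₁.le ha₁)]; group
        _ = c₁ * (b₁ * (a₁ * b₂ * a₁⁻¹ * b₂⁻¹)) * b₁⁻¹ := by rw [h₁.comm ha₁ hb₁]; group
        _ = c₁ * (b₁ * c₂) * b₁⁻¹ := by rw [hc₂]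
        _ = _ := by rw [hcl c₂ hc₂L b₁ (h₁.le hb₁)]; group
    rw [key]
    exact mul_mem hc₁L hc₂L
  have hexp : ∀ t ∈ T, t * t * (t * t) = 1 := by
    intro t ht
    obtain ⟨a, ha, b, hb, rfl⟩ := pair_decomp h₁ h₂ hne hT hG ht
    refine h₁.sq _ ?_
    rw [show a * b * (a * b) = a * (b * a * b⁻¹) * (b * b) by group, h₂.sq b hb, mul_one]
    exact mul_mem ha ((Subgroup.mem_normalizer_iff.mp (h₁.le_normalizer (h₂.le hb)) a).mp ha)
  have hDz : ∀ a ∈ D, ∀ b ∈ D, a * b * a⁻¹ * b⁻¹ = 1 ∨ a * b * a⁻¹ * b⁻¹ = z := fun a ha b hb => by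
    refine hFxz _ (hTcomm a ha.1 b hb.1) ?_
    have ca : Commute u a := (mem_centralizer_singleton_iff.mp ha.2).symm
    have cb : Commute u b := (mem_centralizer_singleton_iff.mp hb.2).symm
    exact (((ca.mul_right cb).mul_right ca.inv_right).mul_right cb.inv_right).eq
  obtain ⟨a₀, ha₀, b₀, hb₀, hab₀⟩ : ∃ a ∈ D, ∃ b ∈ D, a * b * a⁻¹ * b⁻¹ = z := by
    by_contra hh'
    push Not at hh'
    have hab : ∀ a ∈ D, ∀ b ∈ D, a * b = b * a := fun a ha b hb => by
      have := (hDz a ha b hb).resolve_right (hh' a ha b hb)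
      rwa [mul_inv_eq_one, mul_inv_eq_iff_eq_mul] at this
    let sqD : D →* D :=
      { toFun := fun x => x * x
        map_one' := one_mul 1
        map_mul' := fun x y => Subtype.ext (by
          show (x : G) * y * ((x : G) * y) = x * x * ((y : G) * y)
          calc (x : G) * y * ((x : G) * y) = x * (y * x) * y := by group
            _ = x * (x * y) * y := by rw [hab y y.2 x x.2]
            _ = _ := by group) }
    have hsmall : ∀ H : Subgroup D, (∀ x ∈ H, (x : G) * x = 1) → Nat.card H ≤ 2 := by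
      intro H hH
      refine (Nat.card_le_card_of_injective (fun x : H => decide (((x : D) : G) = 1)) ?_).trans
        (le_of_eq (by simp))
      intro x y e
      have e' := decide_eq_decide.mp e
      refine Subtype.ext (Subtype.ext ?_)
      rcases hinvT _ (x : D).2.1 (hH x x.2) (mem_centralizer_singleton_iff.mp (x : D).2.2).symm with hx | hx <;>
        rcases hinvT _ (y : D).2.1 (hH y y.2) (mem_centralizer_singleton_iff.mp (y : D).2.2).symm with hy | hy
      · rw [hx, hy]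
      · exact absurd (e'.mp hx) (by rw [hy]; exact hz1)
      · exact absurd (e'.mpr hy) (by rw [hx]; exact hz1)
      · rw [hx, hy]
    have hk : Nat.card sqD.ker ≤ 2 := hsmall _ fun x hx => congrArg Subtype.val (MonoidHom.mem_ker.mp hx)
    have hi : Nat.card sqD.range ≤ 2 := hsmall _ fun x ⟨w, hw⟩ => by
      rw [← hw]
      exact hexp (w : G) w.2.1
    have hm := Nat.mul_le_mul hi hk
    rw [← Subgroup.index_ker, Subgroup.index_mul_card] at hm
    omega
  -- `R` is a Sylow subgroup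
  have hnoT : ∀ E : Subgroup G, E ≤ R → Nat.card E = 16 → (∀ x ∈ E, x * x = 1) → E ≤ T := by
    intro E hER hEc hEsq
    by_contra hle
    obtain ⟨v, hv, hvT⟩ := SetLike.not_le_iff_exists.mp hle
    have hvu : v * u ∈ T := (hdecR v (hER hv)).resolve_left hvT
    have hEcomm : ∀ x ∈ E, x * v = v * x := fun x hx => by
      calc x * v = (x * v)⁻¹ := (inv_eq_of_mul_eq_one_right (hEsq _ (mul_mem hx hv))).symm
        _ = v * x := by
          rw [mul_inv_rev, inv_eq_of_mul_eq_one_right (hEsq v hv), inv_eq_of_mul_eq_one_right (hEsq x hx)]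
    have hvsw : ∀ x, (x ∈ E₁ → v * x * v⁻¹ ∈ E₂) ∧ (x ∈ E₂ → v * x * v⁻¹ ∈ E₁) := fun x => by
      have e : v * x * v⁻¹ = (v * u) * (u * x * u⁻¹) * (v * u)⁻¹ := by
        rw [show (v * u) * (u * x * u⁻¹) * (v * u)⁻¹ = v * (u * u) * x * (u * u)⁻¹ * v⁻¹ by group, huu]; group
      exact ⟨fun hx => e ▸ (Subgroup.mem_normalizer_iff.mp (h₂.le_normalizer hvu) _).mp ((hswap x).1 hx),
        fun hx => e ▸ (Subgroup.mem_normalizer_iff.mp (h₁.le_normalizer hvu) _).mp ((hswap x).2 hx)⟩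
    have hinL : E ⊓ T ≤ L := fun x hx => by
      have e : v * x * v⁻¹ = x := mul_inv_eq_iff_eq_mul.mpr (hEcomm x hx.1).symm
      rcases pair_sq h₁ h₂ hne hT hG hx.2 (hEsq x hx.1) with h' | h'
      · exact ⟨h', e ▸ (hvsw x).1 h'⟩
      · exact ⟨e ▸ (hvsw x).2 h', h'⟩
    have hle8 : Nat.card E ≤ 2 * Nat.card ↥(E ⊓ T) := by
      have hvE : ∀ x ∈ E, x ∉ T → x * v ∈ T := fun x hx hxT => by
        have h1 := (hdecR x (hER hx)).resolve_left hxT
        have := mul_mem h1 (inv_mem hvu)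
        rwa [show x * u * (v * u)⁻¹ = x * v⁻¹ by group, inv_eq_of_mul_eq_one_right (hEsq v hv)] at this
      refine (Nat.card_le_card_of_injective (fun x : E => if hx : (x : G) ∈ T then (true, (⟨x, x.2, hx⟩ : ↥(E ⊓ T)))
        else (false, ⟨x * v, mul_mem x.2 hv, hvE x x.2 hx⟩)) ?_).trans (le_of_eq ?_)
      · intro x y e
        by_cases hx : (x : G) ∈ T <;> by_cases hy : (y : G) ∈ T <;> simp [hx, hy] at e
        · exact Subtype.ext (congrArg (fun z : ↥(E ⊓ T) => (z : G)) e)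
        · exact Subtype.ext (mul_right_cancel (congrArg (fun z : ↥(E ⊓ T) => (z : G)) e))
      · rw [Nat.card_prod, Nat.card_eq_fintype_card (α := Bool), Fintype.card_bool]
    have h4 := Subgroup.card_le_of_le hinL
    rw [hLc] at h4
    omega
  have hRS' : R = (S : Subgroup G) := by
    by_contra hne'
    obtain ⟨g, hg, hgR⟩ := SetLike.exists_of_lt (lt_inf_normalizer_two S.2 (lt_of_le_of_ne hRS hne'))
    have hcg : cj g R = R := cj_eq_of_mem hg.2
    have hEg : ∀ E : Subgroup G, E ≤ T → Nat.card E = 16 → (∀ x ∈ E, x * x = 1) → cj g E ≤ T := fun E h1 h2 h3 =>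
      hnoT _ (hcg ▸ cj_le_cj (h1.trans le_sup_right)) (by rw [card_cj, h2]) fun x hx => by
        obtain ⟨w, hw, rfl⟩ := hx
        rw [← map_mul, h3 w hw, map_one]
    have hgT : g ∈ normalizer (T : Set G) := by
      refine mem_normalizer_of_cj (Subgroup.eq_of_le_of_card_ge ?_ (card_cj _ _).ge)
      rw [← (pair_card h₁ h₂ hne hT hG).2.1, cj, Subgroup.map_sup, (pair_card h₁ h₂ hne hT hG).2.1]
      exact sup_le (hEg E₁ h₁.le (by rw [h₁.card]; norm_num) h₁.sq)
        (hEg E₂ h₂.le (by rw [h₂.card]; norm_num) h₂.sq)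
    by_cases hg1 : g ∈ normalizer (E₁ : Set G)
    · exact hgR (mem_sup_right (pair_T_of_two h₁ h₂ hne hT hG S.2 hTS hg.1 hg1))
    · have h1 := pair_T_of_two h₁ h₂ hne hT hG S.2 hTS (mul_mem hg.1 huS)
        (pair_sq_mem_normalizer h₁ h₂ hne hT hG hgT huT hg1 hu1)
      refine hgR ?_
      rw [show g = (g * u) * u by rw [mul_assoc, huu, mul_one]]
      exact mul_mem (mem_sup_right h1) (mem_sup_left (mem_zpowers u))
  -- transfer
  have hzo : orderOf z = 2 := orderOf_eq_two_iff'.mpr ⟨h₁.sq z hzL.1, hz1⟩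
  have hrel : T.relIndex (S : Subgroup G) = 2 := by
    show (T.subgroupOf (S : Subgroup G)).index = 2
    rw [index_eq_two_iff]
    refine ⟨⟨u, huS⟩, fun w => ?_⟩
    have hw : (w : G) ∈ R := hRS'.symm ▸ w.2
    simp only [Subgroup.mem_subgroupOf, Subgroup.coe_mul]
    rcases hdecR _ hw with h' | h'
    · exact Or.inr ⟨h', fun h'' => huNot ((T.mul_mem_cancel_left h').mp h'')⟩
    · refine Or.inl ⟨h', fun h'' => huNot ((T.mul_mem_cancel_left h'').mp h')⟩
  obtain ⟨g, hgu⟩ : ∃ g : G, g * u * g⁻¹ ∈ T := by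
    refine (Cfsg.Agent.S0111.result S T hTS hrel u huo huS huNot).resolve_left ?_
    rintro ⟨M, hM, hMi, -⟩
    rcases hM.eq_bot_or_eq_top with e | e
    · rw [e, Subgroup.index_bot] at hMi
      haveI : IsCyclic G := isCyclic_of_prime_card (p := 2) hMi
      exact hna ⟨⟨(IsCyclic.commGroup (α := G)).mul_comm⟩⟩
    · rw [e, Subgroup.index_top] at hMi
      omega
  have hguo : orderOf (g * u * g⁻¹) = 2 := (orderOf_conj g u).trans huo
  obtain ⟨k, hk⟩ := pair_conj_all h₁ h₂ hne hT hG hzL hz1 hgu (mul_self_eq_one_of_orderOf hguo)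
    (fun e => by rw [e, orderOf_one] at hguo; omega)
  set g' := g⁻¹ * k with hg'
  have hgz : g' * z * g'⁻¹ = u := by
    rw [hg', show g⁻¹ * k * z * (g⁻¹ * k)⁻¹ = g⁻¹ * (k * z * k⁻¹) * g by group, hk]; group
  have hCz : centralizer ({z} : Set G) = (S : Subgroup G) := S.3 (hG z hzo) (by
    rw [← hRS']
    refine sup_le (zpowers_le.mpr (mem_centralizer_singleton_iff.mpr hzu)) fun t ht =>
      mem_centralizer_singleton_iff.mpr (pair_center h₁ h₂ hne hT hG hzL ht))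
  set S' := cj g' (S : Subgroup G) with hS'
  have hCu : centralizer ({u} : Set G) = S' := by
    rw [hS', ← hCz, ← hgz]
    ext x
    rw [mem_cj, mem_centralizer_singleton_iff, mem_centralizer_singleton_iff]
    constructor
    · intro e
      calc g'⁻¹ * x * g' * z = g'⁻¹ * (x * (g' * z * g'⁻¹)) * g' := by group
        _ = g'⁻¹ * (g' * z * g'⁻¹ * x) * g' := by rw [e]
        _ = _ := by group
    · intro e
      calc x * (g' * z * g'⁻¹) = g' * (g'⁻¹ * x * g' * z) * g'⁻¹ := by group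
        _ = g' * (z * (g'⁻¹ * x * g')) * g'⁻¹ := by rw [e]
        _ = _ := by group
  set W := (S : Subgroup G) ⊓ S' with hW
  have hlt : W < S' := lt_of_le_of_ne inf_le_right fun e => by
    have e2 : (S : Subgroup G) = S' :=
      (Subgroup.eq_of_le_of_card_ge (e ▸ inf_le_left : S' ≤ (S : Subgroup G)) (card_cj g' _).ge).symm
    obtain ⟨a, ha, ha2⟩ := SetLike.not_le_iff_exists.mp (not_le h₂ h₁ hne.symm)
    have hau : a ∈ centralizer ({u} : Set G) := hCu ▸ e2 ▸ hTS (h₁.le ha)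
    refine ha2 ?_
    have := (hswap a).1 ha
    rwa [mul_inv_eq_iff_eq_mul.mpr (mem_centralizer_singleton_iff.mp hau).symm] at this
  have hdecW : ∀ w ∈ W, ∃ d ∈ D, w = d ∨ w = d * u := by
    intro w hw
    have hwu : w * u = u * w := mem_centralizer_singleton_iff.mp (hCu.symm ▸ hw.2)
    rcases hdecR w (hRS'.symm ▸ hw.1) with h' | h'
    · exact ⟨w, ⟨h', mem_centralizer_singleton_iff.mpr hwu⟩, Or.inl rfl⟩
    · refine ⟨w * u, ⟨h', mem_centralizer_singleton_iff.mpr ?_⟩, Or.inr (by rw [mul_assoc, huu, mul_one])⟩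
      rw [mul_assoc, huu, mul_one, hwu, ← mul_assoc, huu, one_mul]
  have hWz : ∀ v ∈ W, ∀ w ∈ W, v * w * v⁻¹ * w⁻¹ = 1 ∨ v * w * v⁻¹ * w⁻¹ = z := by
    intro v hv w hw
    obtain ⟨a, ha, hva⟩ := hdecW v hv
    obtain ⟨b, hb, hwb⟩ := hdecW w hw
    have hua : u * a = a * u := (mem_centralizer_singleton_iff.mp ha.2).symm
    have hub : u * b = b * u := (mem_centralizer_singleton_iff.mp hb.2).symm
    have : v * w * v⁻¹ * w⁻¹ = a * b * a⁻¹ * b⁻¹ := by
      rcases hva with rfl | rfl <;> rcases hwb with rfl | rfl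
      · rfl
      · calc v * (b * u) * v⁻¹ * (b * u)⁻¹ = v * b * (u * v⁻¹ * u⁻¹) * b⁻¹ := by group
          _ = _ := by rw [(show Commute u v from hua).inv_right.eq, mul_inv_cancel_right]
      · calc a * u * w * (a * u)⁻¹ * w⁻¹ = a * (u * w * u⁻¹) * a⁻¹ * w⁻¹ := by group
          _ = _ := by rw [hub, mul_inv_cancel_right]
      · calc a * u * (b * u) * (a * u)⁻¹ * (b * u)⁻¹ = a * (u * b * a⁻¹ * u⁻¹) * b⁻¹ := by group
          _ = a * (b * a⁻¹ * u * u⁻¹) * b⁻¹ := by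
            rw [((show Commute u b from hub).mul_right (show Commute u a from hua).inv_right).eq.trans rfl |> fun e =>
              show u * b * a⁻¹ = b * a⁻¹ * u by rw [mul_assoc]; exact e]
          _ = _ := by group
    rw [this]
    exact hDz a ha b hb
  obtain ⟨y', hy', hy'W⟩ := SetLike.exists_of_lt (lt_inf_normalizer_two (cj_two g' S.2) hlt)
  have hDW : D ≤ W := le_inf (inf_le_left.trans hTS) (hCu ▸ inf_le_right)
  have hcz : y' * z * y'⁻¹ = z := by
    have ha' := (Subgroup.mem_normalizer_iff.mp hy'.2 a₀).mp (hDW ha₀)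
    have hb' := (Subgroup.mem_normalizer_iff.mp hy'.2 b₀).mp (hDW hb₀)
    rcases hWz _ ha' _ hb' with e | e
    · exfalso
      refine hz1 ?_
      rw [← hab₀]
      have : y' * (a₀ * b₀ * a₀⁻¹ * b₀⁻¹) * y'⁻¹ = 1 := by rw [← e]; group
      exact conj_eq_one_iff.mp this
    · rw [← hab₀]
      conv_rhs => rw [hab₀, ← e]
      group
  exact hy'W ⟨hCz ▸ mem_centralizer_singleton_iff.mpr (mul_inv_eq_iff_eq_mul.mp hcz), hy'.1⟩

end Pair

end CfsgLib.CIT
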