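import Cfsg.Agent.Lib.CharTheory.Induced
import Cfsg.Agent.Lib.CharTheory.Integral
import Cfsg.Agent.Lib.CharTheory.Irr

/-!
Sums of characters over subgroups and the numerical inequality used for the configuration of order sixty-four.
-/

set_option autoImplicit false
set_option linter.unusedSectionVars false

namespace CfsgLib.CIT.Sums

open Cfsg CfsgLib.CharTheory
open scoped ComplexConjugate

universe u

variable {G : Type u} [Group G] [Fintype G]

open Classical in
/-- The elements of a subgroup as a finite set. -/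
noncomputable def fs (H : Subgroup G) : Finset G := Finset.univ.filter (· ∈ H)

open Classical in
/-- The indicator function of a subgroup. -/
noncomputable def ind (H : Subgroup G) (x : G) : ℂ := if x ∈ H then 1 else 0

theorem mem_fs {H : Subgroup G} {x : G} : x ∈ fs H ↔ x ∈ H := by simp [fs]

theorem card_fs (H : Subgroup G) : (fs H).card = Nat.card H := by
  classical
  rw [Nat.card_eq_fintype_card, Fintype.card_subtype, fs]

theorem ind_of_mem {H : Subgroup G} {x : G} (h : x ∈ H) : ind H x = 1 := by simp [ind, h]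

theorem ind_of_not {H : Subgroup G} {x : G} (h : x ∉ H) : ind H x = 0 := by simp [ind, h]

theorem conj_ind (H : Subgroup G) (x : G) : conj (ind H x) = ind H x := by
  by_cases h : x ∈ H <;> simp [ind, h]

theorem sum_ind_mul (H K : Subgroup G) (f : G → ℂ) : ∑ x ∈ fs H, ind K x * f x = ∑ x ∈ fs (H ⊓ K), f x := by
  classical
  have : fs (H ⊓ K) = (fs H).filter (· ∈ K) := by ext x; simp [mem_fs]
  rw [this, Finset.sum_filter]
  exact Finset.sum_congr rfl fun x _ => by by_cases h : x ∈ K <;> simp [ind, h]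

theorem sum_coe (H : Subgroup G) [Fintype H] (f : G → ℂ) : ∑ x : H, f x = ∑ x ∈ fs H, f x := by
  classical
  rw [Finset.sum_subtype (p := (· ∈ H)) (fs H) (fun x => mem_fs) f]

theorem classInner_res (H : Subgroup G) [Fintype H] (f g : G → ℂ) :
    classInner (fun x : H => f x) (fun x => g x) = (Nat.card H : ℂ)⁻¹ * ∑ x ∈ fs H, f x * conj (g x) := by
  rw [classInner, sum_coe H fun x => f x * conj (g x)]

theorem exists_nat_sum {χ : G → ℂ} (hχ : IsCharacter G χ) (H : Subgroup G) [Fintype H] {θ : G → ℂ}
    (hθ : IsCharacter H fun x => θ x) (hr : ∀ x, conj (θ x) = θ x) :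
    ∃ a : ℕ, ∑ x ∈ fs H, θ x * χ x = (Nat.card H : ℂ) * a := by
  obtain ⟨a, ha⟩ := classInner_char_nat (isCharacter_restrict hχ H) hθ
  refine ⟨a, ?_⟩
  rw [← ha]
  show _ = (Nat.card H : ℂ) * classInner (fun x : H => χ x) (fun x => θ x)
  rw [classInner_res, ← mul_assoc, mul_inv_cancel₀ (Nat.cast_ne_zero.mpr Nat.card_pos.ne'), one_mul]
  exact Finset.sum_congr rfl fun x _ => by rw [hr, mul_comm]

theorem exists_nat_sum_one {χ : G → ℂ} (hχ : IsCharacter G χ) (H : Subgroup G) :
    ∃ a : ℕ, ∑ x ∈ fs H, χ x = (Nat.card H : ℂ) * a := by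
  haveI := Fintype.ofFinite H
  simpa using exists_nat_sum hχ H (θ := fun _ => 1) isCharacter_one (fun _ => map_one _)

omit [Fintype G] in
/-- The permutation character on the cosets of a normal subgroup, less the principal character. -/
theorem isCharacter_index_sub_one [Finite G] (N : Subgroup G) [N.Normal] [DecidablePred (· ∈ N)] :
    IsCharacter G (fun x => (if x ∈ N then (N.index : ℂ) else 0) - 1) := by
  classical
  haveI := Fintype.ofFinite G
  have hval : (fun x : G => (if x ∈ N then (N.index : ℂ) else 0) - 1) =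
      indFun N (fun _ => 1) - fun _ => 1 := by
    funext x
    rw [Pi.sub_apply]
    congr 1
    split_ifs with h
    · rw [indFun_normal_apply N (fun _ => 1) ⟨x, h⟩, Finset.sum_const, Finset.card_univ,
        ← Nat.card_eq_fintype_card, nsmul_one, ← N.card_mul_index, Nat.cast_mul, inv_mul_cancel_left₀]
      exact Nat.cast_ne_zero.mpr Nat.card_pos.ne'
    · rw [indFun_normal_apply_not_mem N _ h]
  rw [hval]
  refine isCharacter_iff_coeff_nat.mpr ⟨isClassFunction_sub (indFun_isClassFunction _ _) isClassFunction_one,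
    fun ψ hψ => ?_⟩
  rw [classInner_sub_left, frobenius_reciprocity N _ (isClassFunction_irr hψ)]
  by_cases h : ψ = fun _ => 1
  · subst h
    refine ⟨0, ?_⟩
    simp [classInner_irr_self (isIrrCharacter_one (G := G)), classInner_irr_self (isIrrCharacter_one (G := N))]
  · rw [classInner_irr_ne isIrrCharacter_one hψ (Ne.symm h), sub_zero]
    exact classInner_char_nat isCharacter_one (isCharacter_restrict (isCharacter_of_irr hψ) N)

/-- The lower bound for one character. -/
theorem option_bound {d z cf s a m c : ℤ} (hz : z = 4 * cf - s) (hcf : cf * cf ≤ 6) (hs : s * s ≤ 39)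
    (hd0 : 0 < d) (hd : z + 16 ≤ d) (h16 : (16 : ℤ) ∣ d - z) (ha : d + 27 * z + 12 * s = 64 * a) (ha0 : 0 ≤ a)
    (hm : d + 11 * z - 4 * s = 64 * m) (hm0 : 0 ≤ m) (hc : 9 * d - 45 * z + 12 * s = 64 * c) (hc0 : 0 ≤ c) :
    -(150 * (cf * (z * z))) ≤ d * (23 * (cf * cf) + 2 * (s * s) - 10 * (cf * s)) := by
  have h1 : -2 ≤ cf ∧ cf ≤ 2 := by constructor <;> nlinarith
  have h2 : -6 ≤ s ∧ s ≤ 6 := by constructor <;> nlinarith
  obtain ⟨h1l, h1u⟩ := h1
  obtain ⟨h2l, h2u⟩ := h2
  subst hz
  interval_cases cf <;> interval_cases s <;> omega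

end CfsgLib.CIT.Sums
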