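import Cfsg.Agent.Lib.CIT.L34Base
import Cfsg.Agent.Lib.CIT.L34CharBasic
import Cfsg.Agent.Lib.BSW.PairCount

/-!
The configuration of order sixty-four: the character-theoretic bound on the group order.
-/

set_option autoImplicit false
set_option linter.unusedSectionVars false
set_option linter.style.haveILetI false

namespace CfsgLib.CIT

open Subgroup Cfsg CfsgLib.CharTheory
open CfsgLib.CIT.Sums
open CfsgLib.Involutions (mul_self_eq_one_of_orderOf inv_eq_self_of_orderOf orderOf_eq_two_iff' orderOf_conj)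
open scoped ComplexConjugate

universe u

namespace Pair4

variable {G : Type u} [Group G] [Fintype G] {T E₁ E₂ : Subgroup G} (P : Pair4 T E₁ E₂)

include P

theorem sq_mem {x : G} (hx : x ∈ T) : x * x ∈ E₁ ⊓ E₂ := by
  obtain ⟨a, ha, b, hb, rfl⟩ := pair_decomp P.p₁ P.p₂ P.ne P.cardT P.cit hx
  have hb2 := P.p₂.sq b hb
  have ha2 := P.p₁.sq a ha
  have h1 : b * a * b⁻¹ ∈ E₁ := (Subgroup.mem_normalizer_iff.mp (P.p₁.le_normalizer (P.p₂.le hb)) a).mp ha
  have h2 : a * b * a⁻¹ ∈ E₂ := (Subgroup.mem_normalizer_iff.mp (P.p₂.le_normalizer (P.p₁.le ha)) b).mp hb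
  constructor
  · rw [show a * b * (a * b) = a * (b * a * b⁻¹) * (b * b) by group, hb2, mul_one]
    exact E₁.mul_mem ha h1
  · rw [show a * b * (a * b) = (a * b * a⁻¹) * ((a * a) * b) by group, ha2, one_mul]
    exact E₂.mul_mem h2 hb

theorem sq_eq_one {x : G} (hx : x ∈ T) : x * x = 1 ↔ x ∈ E₁ ∨ x ∈ E₂ :=
  ⟨P.mem_or hx, fun h => h.elim (P.p₁.sq x) (P.p₂.sq x)⟩

/-- Splitting a sum over the Sylow subgroup. -/
theorem sum_T [DecidableEq G] (f : G → ℂ) : ∑ x ∈ fs T, f x =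
    (∑ x ∈ fs E₁, f x) + (∑ x ∈ fs E₂, f x) - (∑ x ∈ fs (E₁ ⊓ E₂), f x) +
      ∑ x ∈ (fs T).filter (fun x => ¬ x * x = 1), f x := by
  rw [← Finset.sum_filter_add_sum_filter_not (fs T) (fun x => x * x = 1)]
  congr 1
  have h1 : (fs T).filter (fun x => x * x = 1) = fs E₁ ∪ fs E₂ := by
    ext x
    simp only [Finset.mem_filter, Finset.mem_union, mem_fs]
    exact ⟨fun h => P.mem_or h.1 h.2, fun h => ⟨h.elim (fun a => P.p₁.le a) (fun a => P.p₂.le a),
      h.elim (P.p₁.sq x) (P.p₂.sq x)⟩⟩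
  have h2 : fs E₁ ∩ fs E₂ = fs (E₁ ⊓ E₂) := by ext x; simp [mem_fs]
  rw [h1, ← h2, eq_sub_iff_add_eq, Finset.sum_union_inter]

theorem card_four [DecidableEq G] : ((fs T).filter (fun x => ¬ x * x = 1)).card = 36 := by
  have h := P.sum_T fun _ => 1
  simp only [Finset.sum_const, nsmul_one, card_fs, P.card_T, P.card_E, P.symm.card_E, P.card_L] at h
  push_cast at h
  have h' : (((fs T).filter (fun x => ¬ x * x = 1)).card : ℂ) = 36 := by linear_combination -h
  exact_mod_cast h'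

theorem mem_four [DecidableEq G] {x : G} (hx : x ∈ (fs T).filter (fun x => ¬ x * x = 1)) :
    x ∈ T ∧ x ∉ E₁ ∧ x ∉ E₂ ∧ x * x ≠ 1 ∧ x * x ∈ E₁ ⊓ E₂ := by
  obtain ⟨h1, h2⟩ := Finset.mem_filter.mp hx
  have h1' := mem_fs.mp h1
  exact ⟨h1', fun h => h2 (P.p₁.sq x h), fun h => h2 (P.p₂.sq x h), h2, P.sq_mem h1'⟩

/-- Conjugating an involution runs uniformly over all involutions. -/
theorem sum_conj_inv {x : G} (hx : orderOf x = 2) (F : G → ℂ) :
    ∑ g : G, F (g⁻¹ * x * g) = 64 * ∑ y ∈ Finset.univ.filter (fun y : G => orderOf y = 2), F y := by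
  classical
  set A := Finset.univ.filter (fun y : G => orderOf y = 2)
  have hmap : ∀ g : G, g⁻¹ * x * g ∈ A := fun g => Finset.mem_filter.mpr ⟨Finset.mem_univ _, by
    have := orderOf_conj g⁻¹ x
    rw [inv_inv] at this
    rw [this, hx]⟩
  rw [← Finset.sum_fiberwise_of_maps_to (fun g _ => hmap g), Finset.mul_sum]
  refine Finset.sum_congr rfl fun y hy => ?_
  rw [Finset.sum_congr rfl (g := fun _ => F y) fun g hg => by rw [(Finset.mem_filter.mp hg).2], Finset.sum_const,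
    nsmul_eq_mul]
  congr 1
  obtain ⟨z, hz, hz1⟩ := P.exists_L
  obtain ⟨k, hk⟩ := P.exists_conj hz hz1 hx
  obtain ⟨l, hl⟩ := P.exists_conj hz hz1 (Finset.mem_filter.mp hy).2
  set g₀ := k * l⁻¹
  have hg₀ : g₀⁻¹ * x * g₀ = y := by
    rw [← hk, ← hl]; simp only [g₀]; group
  have hc : (Finset.univ.filter fun g : G => g⁻¹ * x * g = y).card = Nat.card (centralizer ({x} : Set G)) := by
    rw [← Fintype.card_subtype, ← Nat.card_eq_fintype_card]
    refine Nat.card_congr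
      { toFun := fun g => ⟨g.1 * g₀⁻¹, mem_centralizer_singleton_iff.mpr ?_⟩
        invFun := fun c => ⟨c.1 * g₀, ?_⟩
        left_inv := fun g => Subtype.ext (inv_mul_cancel_right _ _)
        right_inv := fun c => Subtype.ext (mul_inv_cancel_right _ _) }
    · have e := g.2.trans hg₀.symm
      calc g.1 * g₀⁻¹ * x = g.1 * (g₀⁻¹ * x * g₀) * g₀⁻¹ := by group
        _ = g.1 * (g.1⁻¹ * x * g.1) * g₀⁻¹ := by rw [e]
        _ = _ := by group
    · rw [← hg₀]
      calc (c.1 * g₀)⁻¹ * x * (c.1 * g₀) = g₀⁻¹ * (c.1⁻¹ * (x * c.1)) * g₀ := by group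
        _ = _ := by rw [← mem_centralizer_singleton_iff.mp c.2]; group
  rw [hc, P.card_cent hx]
  norm_num

theorem card_G : Nat.card G = 64 * (Finset.univ.filter fun y : G => orderOf y = 2).card := by
  obtain ⟨z, hz, hz1⟩ := P.exists_L
  have h := P.sum_conj_inv (P.order_two hz.1 hz1) fun _ => 1
  simp only [Finset.sum_const, Finset.card_univ, nsmul_one, ← Nat.card_eq_fintype_card] at h
  exact_mod_cast h

/-- The value of an induced function at an involution of `T`. -/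
theorem indFun_inv [DecidableEq G] {θ : G → ℂ} (h1 : θ 1 = 0) {x : G} (hx : orderOf x = 2) :
    indFun T (fun y : T => θ y) x =
      (∑ y ∈ fs E₁, θ y) + (∑ y ∈ fs E₂, θ y) - ∑ y ∈ fs (E₁ ⊓ E₂), θ y := by
  rw [indFun, P.sum_conj_inv hx (extendByZero T fun y : T => θ y), P.card_T, ← mul_assoc]
  norm_num
  classical
  set A := Finset.univ.filter (fun y : G => orderOf y = 2)
  have h2 : ∑ y ∈ A, extendByZero T (fun y => θ y) y = ∑ y ∈ (fs T).filter (fun y => y * y = 1), θ y := by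
    rw [← Finset.sum_subset (s₁ := A.filter (· ∈ T)) (Finset.filter_subset _ _) fun y hy hy' =>
      extendByZero_of_not_mem T _ fun h => hy' (Finset.mem_filter.mpr ⟨hy, h⟩)]
    rw [Finset.sum_congr rfl (g := θ) fun y hy => extendByZero_of_mem T _ (Finset.mem_filter.mp hy).2]
    refine Finset.sum_subset (fun y hy => ?_) fun y hy hy' => ?_
    · simp only [A, Finset.mem_filter, Finset.mem_univ, true_and, mem_fs] at hy ⊢
      exact ⟨hy.2, mul_self_eq_one_of_orderOf hy.1⟩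
    · simp only [A, Finset.mem_filter, Finset.mem_univ, true_and, mem_fs] at hy hy'
      by_cases e : y = 1
      · rw [e, h1]
      · exact absurd ⟨orderOf_eq_two_iff'.mpr ⟨hy.2, e⟩, hy.1⟩ hy'
  rw [h2]
  have h3 := P.sum_T θ
  rw [← Finset.sum_filter_add_sum_filter_not (fs T) (fun x => x * x = 1)] at h3
  exact add_right_cancel h3

/-- The value of an induced function at an element of order four of `T`. -/
theorem indFun_four [DecidableEq G] {θ : G → ℂ} {v : ℂ}
    (hv : ∀ y ∈ (fs T).filter (fun y => ¬ y * y = 1), θ y = v)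
    {x : G} (hx : x ∈ (fs T).filter (fun y => ¬ y * y = 1)) :
    indFun T (fun y : T => θ y) x = 3 * v := by
  classical
  obtain ⟨hxT, -, -, hx2, hxL⟩ := P.mem_four hx
  set N := normalizer (T : Set G)
  have hext : ∀ g : G, extendByZero T (fun y => θ y) (g⁻¹ * x * g) = if g ∈ N then v else 0 := by
    intro g
    split_ifs with hg
    · have hm : g⁻¹ * x * g ∈ T := (Subgroup.mem_normalizer_iff''.mp hg x).mp hxT
      rw [extendByZero_of_mem T _ hm]
      refine hv _ (Finset.mem_filter.mpr ⟨mem_fs.mpr hm, fun e => hx2 ?_⟩)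
      rw [show g⁻¹ * x * g * (g⁻¹ * x * g) = g⁻¹ * (x * x) * g by group] at e
      have := congrArg (fun w => g * w * g⁻¹) e
      simpa [mul_assoc] using this
    · refine extendByZero_of_not_mem T _ fun hm => hg ?_
      have e : g⁻¹ * (x * x) * g ∈ E₁ ⊓ E₂ := by
        have := P.sq_mem hm
        rwa [show g⁻¹ * x * g * (g⁻¹ * x * g) = g⁻¹ * (x * x) * g by group] at this
      have e1 : g⁻¹ * (x * x) * g ≠ 1 := fun h => hx2 (by
        have := congrArg (fun w => g * w * g⁻¹) h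
        simpa [mul_assoc] using this)
      have hc := P.cent_eq e e1
      have hcx := P.cent_eq hxL hx2
      refine mem_normalizer_of_cj (Subgroup.eq_of_le_of_card_ge ?_ (card_cj _ _).ge)
      intro y hy
      rw [mem_cj, ← hc, mem_centralizer_singleton_iff] at hy
      rw [← hcx, mem_centralizer_singleton_iff]
      calc y * (x * x) = g * (g⁻¹ * y * g * (g⁻¹ * (x * x) * g)) * g⁻¹ := by group
        _ = g * (g⁻¹ * (x * x) * g * (g⁻¹ * y * g)) * g⁻¹ := by rw [hy]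
        _ = _ := by group
  rw [indFun, Finset.sum_congr rfl fun g _ => hext g, ← Finset.sum_filter, Finset.sum_const, nsmul_eq_mul,
    P.card_T, ← Fintype.card_subtype, ← Nat.card_eq_fintype_card, P.card_NT]
  norm_num
  ring

/-- Summing against the indicator functions. -/
theorem sum_weights [DecidableEq G] {f : G → ℂ} :
    ∑ x ∈ fs E₁, ind E₂ x * f x = ∑ x ∈ fs (E₁ ⊓ E₂), f x ∧
    ∑ x ∈ fs T, ind E₁ x * f x = ∑ x ∈ fs E₁, f x ∧
    ∑ x ∈ fs T, ind E₂ x * f x = ∑ x ∈ fs E₂, f x ∧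
    ∑ x ∈ fs T, ind (E₁ ⊓ E₂) x * f x = ∑ x ∈ fs (E₁ ⊓ E₂), f x := by
  refine ⟨sum_ind_mul _ _ _, ?_, ?_, ?_⟩ <;> rw [sum_ind_mul] <;> congr 2 <;>
    simp [P.p₁.le, P.p₂.le, inf_le_left.trans P.p₁.le]

omit P in
/-- The first test function. -/
noncomputable def tf (E₂ : Subgroup G) (x : G) : ℂ := 4 - 4 * ind E₂ x

omit P in
/-- The second test function. -/
noncomputable def tg (E₁ E₂ : Subgroup G) (x : G) : ℂ := 16 * (1 - ind E₁ x - ind E₂ x + ind (E₁ ⊓ E₂) x)

omit P in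
theorem conj_tf (x : G) : conj (tf E₂ x) = tf E₂ x := by simp [tf, conj_ind, Complex.conj_ofNat]

omit P in
theorem conj_tg (x : G) : conj (tg E₁ E₂ x) = tg E₁ E₂ x := by simp [tg, conj_ind, Complex.conj_ofNat]

theorem tf_four [DecidableEq G] : ∀ y ∈ (fs T).filter (fun y => ¬ y * y = 1), tf E₂ y = 4 := fun y hy => by
  simp [tf, ind_of_not (P.mem_four hy).2.2.1]

theorem tg_four [DecidableEq G] : ∀ y ∈ (fs T).filter (fun y => ¬ y * y = 1), tg E₁ E₂ y = 16 := fun y hy => by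
  obtain ⟨-, h1, h2, -⟩ := P.mem_four hy
  simp [tg, ind_of_not h1, ind_of_not h2, ind_of_not (fun h : y ∈ E₁ ⊓ E₂ => h1 h.1)]

theorem tf_sums [DecidableEq G] : (∑ y ∈ fs E₁, tf E₂ y) = 48 ∧ (∑ y ∈ fs E₂, tf E₂ y) = 0 ∧
    (∑ y ∈ fs (E₁ ⊓ E₂), tf E₂ y) = 0 := by
  refine ⟨?_, Finset.sum_eq_zero fun y hy => by simp [tf, ind_of_mem (mem_fs.mp hy)],
    Finset.sum_eq_zero fun y hy => by simp [tf, ind_of_mem (mem_fs.mp hy).2]⟩
  have h := (P.sum_weights (f := fun _ => (1 : ℂ))).1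
  simp only [mul_one, Finset.sum_const, nsmul_one, card_fs, P.card_L] at h
  simp only [tf, Finset.sum_sub_distrib, ← Finset.mul_sum, h, Finset.sum_const, nsmul_eq_mul, card_fs, P.card_E]
  norm_num

theorem tg_invol {y : G} (hy : y ∈ T) (h2 : y * y = 1) : tg E₁ E₂ y = 0 := by
  rcases (P.sq_eq_one hy).mp h2 with h | h
  · by_cases h' : y ∈ E₂
    · simp [tg, ind_of_mem h, ind_of_mem h', ind_of_mem (show y ∈ E₁ ⊓ E₂ from ⟨h, h'⟩)]
    · simp [tg, ind_of_mem h, ind_of_not h', ind_of_not (fun hh : y ∈ E₁ ⊓ E₂ => h' hh.2)]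
  · by_cases h' : y ∈ E₁
    · simp [tg, ind_of_mem h, ind_of_mem h', ind_of_mem (show y ∈ E₁ ⊓ E₂ from ⟨h', h⟩)]
    · simp [tg, ind_of_mem h, ind_of_not h', ind_of_not (fun hh : y ∈ E₁ ⊓ E₂ => h' hh.1)]

theorem tg_sums [DecidableEq G] : (∑ y ∈ fs E₁, tg E₁ E₂ y) = 0 ∧ (∑ y ∈ fs E₂, tg E₁ E₂ y) = 0 ∧
    (∑ y ∈ fs (E₁ ⊓ E₂), tg E₁ E₂ y) = 0 := by
  refine ⟨?_, ?_, ?_⟩ <;> refine Finset.sum_eq_zero fun y hy => ?_
  · exact P.tg_invol (P.p₁.le (mem_fs.mp hy)) (P.p₁.sq y (mem_fs.mp hy))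
  · exact P.tg_invol (P.p₂.le (mem_fs.mp hy)) (P.p₂.sq y (mem_fs.mp hy))
  · exact P.tg_invol (P.p₁.le (mem_fs.mp hy).1) (P.p₁.sq y (mem_fs.mp hy).1)

/-- The inner product of induced test functions. -/
theorem inner_ind [DecidableEq G] {a b : G → ℂ} (ha1 : a 1 = 0) (hb1 : b 1 = 0) (hb : ∀ x, conj (b x) = b x) {u v : ℂ}
    (hu : ∀ y ∈ (fs T).filter (fun y => ¬ y * y = 1), a y = u)
    (hv : ∀ y ∈ (fs T).filter (fun y => ¬ y * y = 1), b y = v) :
    classInner (indFun T fun y => b y) (indFun T fun y => a y) = (64 : ℂ)⁻¹ *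
      (((∑ y ∈ fs E₁, b y) + (∑ y ∈ fs E₂, b y) - ∑ y ∈ fs (E₁ ⊓ E₂), b y) *
        conj ((∑ y ∈ fs E₁, a y) + (∑ y ∈ fs E₂, a y) - ∑ y ∈ fs (E₁ ⊓ E₂), a y) + 36 * v * conj (3 * u)) := by
  haveI := Fintype.ofFinite T
  rw [frobenius_reciprocity T _ (indFun_isClassFunction _ _), classInner_res, P.card_T,
    P.sum_T fun x => b x * conj (indFun T (fun y => a y) x)]
  norm_num
  have hinv : ∀ H : Subgroup G, H ≤ E₁ ∨ H ≤ E₂ → ∑ x ∈ fs H, b x * conj (indFun T (fun y => a y) x) =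
      (∑ x ∈ fs H, b x) * conj ((∑ y ∈ fs E₁, a y) + (∑ y ∈ fs E₂, a y) - ∑ y ∈ fs (E₁ ⊓ E₂), a y) := by
    intro H hH
    rw [Finset.sum_mul]
    refine Finset.sum_congr rfl fun x hx => ?_
    by_cases e : x = 1
    · rw [e, hb1, zero_mul, zero_mul]
    · have h2 : x * x = 1 := hH.elim (fun h => P.p₁.sq x (h (mem_fs.mp hx))) fun h => P.p₂.sq x (h (mem_fs.mp hx))
      rw [P.indFun_inv ha1 (orderOf_eq_two_iff'.mpr ⟨h2, e⟩)]
  rw [hinv E₁ (Or.inl le_rfl), hinv E₂ (Or.inr le_rfl), hinv (E₁ ⊓ E₂) (Or.inl inf_le_left),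
    Finset.sum_congr rfl (fun x hx => by rw [hv x hx, P.indFun_four hu hx] :
      ∀ x ∈ (fs T).filter (fun y => ¬ y * y = 1), b x * conj (indFun T (fun y => a y) x) = v * conj (3 * u)),
    Finset.sum_const, P.card_four, nsmul_eq_mul]
  simp only [map_add, map_sub, map_mul, map_sum, Complex.conj_ofNat]
  push_cast
  ring

/-- The invariants of an irreducible character. -/
theorem char_data [IsSimpleGroup G] [DecidableEq G] (χ : IrrCharacter G) :
    ∃ d z cf s a m c : ℤ, z = 4 * cf - s ∧ 0 < d ∧ (χ : G → ℂ) 1 = d ∧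
      (∀ t : G, orderOf t = 2 → (χ : G → ℂ) t = z) ∧
      (∑ x ∈ fs T, tf E₂ x * (χ : G → ℂ) x) = 64 * (3 * cf : ℤ) ∧
      (∑ x ∈ fs T, tg E₁ E₂ x * (χ : G → ℂ) x) = 64 * (3 * s : ℤ) ∧
      ((χ : G → ℂ) ≠ (fun _ => 1) → z + 16 ≤ d) ∧ (16 : ℤ) ∣ d - z ∧ d + 27 * z + 12 * s = 64 * a ∧ 0 ≤ a ∧
      d + 11 * z - 4 * s = 64 * m ∧ 0 ≤ m ∧ 9 * d - 45 * z + 12 * s = 64 * c ∧ 0 ≤ c := by
  obtain ⟨z₀, hz₀, hz₀1⟩ := P.exists_L
  set f : G → ℂ := (χ : G → ℂ) with hf
  obtain ⟨d, hdpos, hd'⟩ := irr_degree_pos χ.2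
  have hd : f 1 = (d : ℂ) := hd'
  have hch : IsCharacter G f := isCharacter_of_irr χ.2
  have hcl := isClassFunction_irr χ.2
  have hinv : ∀ t : G, orderOf t = 2 → f t = f z₀ := fun t ht => by
    obtain ⟨k, rfl⟩ := P.exists_conj hz₀ hz₀1 ht
    exact hcl z₀ k
  have hconst : ∀ (H : Subgroup G) (n : ℕ), Nat.card H = n + 1 → (∀ x ∈ H, x * x = 1) →
      ∑ x ∈ fs H, f x = d + n * f z₀ := by
    intro H n hn hsq
    rw [← Finset.add_sum_erase _ _ (mem_fs.mpr H.one_mem), hd,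
      Finset.sum_congr rfl (g := fun _ => f z₀) fun x hx => hinv x (orderOf_eq_two_iff'.mpr
        ⟨hsq x (mem_fs.mp (Finset.mem_of_mem_erase hx)), Finset.ne_of_mem_erase hx⟩),
      Finset.sum_const, Finset.card_erase_of_mem (mem_fs.mpr H.one_mem), card_fs, hn, nsmul_eq_mul, Nat.add_sub_cancel]
  have hE1 := hconst E₁ 15 P.card_E P.p₁.sq
  have hE2 := hconst E₂ 15 P.symm.card_E P.p₂.sq
  have hL := hconst (E₁ ⊓ E₂) 3 P.card_L fun x hx => P.p₁.sq x hx.1
  -- the value at involutions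
  obtain ⟨e, he⟩ := exists_nat_sum_one hch E₁
  rw [hE1, P.card_E] at he
  obtain ⟨z, hz⟩ : ∃ z : ℤ, f z₀ = z := by
    have h2 : f z₀ = (((16 * (e : ℚ) - d) / 15 : ℚ) : ℂ) := by
      push_cast
      rw [eq_div_iff (by norm_num)]
      push_cast at he
      linear_combination he
    obtain ⟨n, hn⟩ := exists_int_of_isIntegral_ratCast (h2 ▸ isIntegral_of_char hch z₀)
    exact ⟨n, by rw [h2, hn]; push_cast; rfl⟩
  rw [hz] at hE1 hE2 hL he
  -- the sums over `T`
  set R := (fs T).filter (fun x => ¬ x * x = 1) with hR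
  have hT := P.sum_T f
  rw [hE1, hE2, hL, ← hR] at hT
  obtain ⟨a, ha⟩ := exists_nat_sum_one hch T
  rw [P.card_T] at ha
  haveI := Fintype.ofFinite T
  have hP : ∀ E : Subgroup G, E ≤ T → Nat.card E = 16 → T ≤ normalizer (E : Set G) →
      IsCharacter T (fun x : T => 4 * ind E x - 1) := by
    intro E hle hc hn
    classical
    haveI := (Subgroup.normal_subgroupOf_iff_le_normalizer hle).mpr hn
    have hi : (E.subgroupOf T).index = 4 := by
      have := (E.subgroupOf T).card_mul_index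
      rw [Nat.card_congr (Subgroup.subgroupOfEquivOfLe hle).toEquiv, hc, P.card_T] at this
      omega
    convert isCharacter_index_sub_one (E.subgroupOf T) using 1
    funext x
    by_cases h : (x : G) ∈ E
    · simp [ind_of_mem h, Subgroup.mem_subgroupOf, h, hi]
    · simp [ind_of_not h, Subgroup.mem_subgroupOf, h]
  have hP2 := hP E₂ P.p₂.le P.symm.card_E P.p₂.le_normalizer
  have hP1 := hP E₁ P.p₁.le P.card_E P.p₁.le_normalizer
  obtain ⟨b, hb⟩ := exists_nat_sum hch T (θ := fun x => 4 * ind E₂ x - 1) hP2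
    (fun x => by simp [conj_ind, Complex.conj_ofNat])
  obtain ⟨c, hc⟩ := exists_nat_sum hch T (θ := fun x => (4 * ind E₂ x - 1) * (4 * ind E₁ x - 1))
    (isCharacter_mul hP2 hP1) (fun x => by simp [conj_ind, Complex.conj_ofNat])
  obtain ⟨-, w1, w2, wL⟩ := P.sum_weights (f := f)
  have hii : ∀ x, ind E₂ x * ind E₁ x = ind (E₁ ⊓ E₂) x := fun x => by
    by_cases h1 : x ∈ E₁ <;> by_cases h2 : x ∈ E₂ <;> simp [ind, h1, h2]
  have hb' : 4 * ((d : ℂ) + 15 * z) - ∑ x ∈ fs T, f x = 64 * b := by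
    rw [P.card_T] at hb
    simp only [sub_mul, one_mul, Finset.sum_sub_distrib, mul_assoc, ← Finset.mul_sum, w2, hE2] at hb
    push_cast at hb
    linear_combination hb
  have hc' : 16 * ((d : ℂ) + 3 * z) - 8 * ((d : ℂ) + 15 * z) + ∑ x ∈ fs T, f x = 64 * c := by
    rw [P.card_T] at hc
    have hexp : ∀ x, (4 * ind E₂ x - 1) * (4 * ind E₁ x - 1) * f x =
        16 * (ind (E₁ ⊓ E₂) x * f x) - 4 * (ind E₂ x * f x) - 4 * (ind E₁ x * f x) + f x := fun x => by
      rw [← hii x]; ring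
    simp only [hexp, Finset.sum_add_distrib, Finset.sum_sub_distrib, ← Finset.mul_sum, w1, w2, wL, hE1, hE2, hL] at hc
    push_cast at hc
    linear_combination hc
  -- the elements of order four fall into three equal parts
  obtain ⟨h, hh, -, hhT⟩ := P.exists_three
  set Ls := (fs (E₁ ⊓ E₂)).erase 1 with hLs
  set U := ∑ x ∈ R.filter (fun x => x * x = z₀), f x with hU
  have hconjU : ∀ l, ∑ x ∈ R.filter (fun x => x * x = h * l * h⁻¹), f x = ∑ x ∈ R.filter (fun x => x * x = l), f x := by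
    intro l
    refine Finset.sum_bij' (fun x _ => h⁻¹ * x * h) (fun x _ => h * x * h⁻¹) ?_ ?_ ?_ ?_ ?_
    · intro x hx
      simp only [hR, Finset.mem_filter, mem_fs] at hx ⊢
      obtain ⟨⟨hxT, hx2⟩, hxl⟩ := hx
      have e : h⁻¹ * x * h * (h⁻¹ * x * h) = l := by
        rw [show h⁻¹ * x * h * (h⁻¹ * x * h) = h⁻¹ * (x * x) * h by group, hxl]; group
      refine ⟨⟨(Subgroup.mem_normalizer_iff''.mp hhT x).mp hxT, fun e1 => hx2 ?_⟩, e⟩
      rw [hxl, ← e, e1]; group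
    · intro x hx
      simp only [hR, Finset.mem_filter, mem_fs] at hx ⊢
      obtain ⟨⟨hxT, hx2⟩, hxl⟩ := hx
      have e : h * x * h⁻¹ * (h * x * h⁻¹) = h * l * h⁻¹ := by rw [← hxl]; group
      refine ⟨⟨(Subgroup.mem_normalizer_iff.mp hhT x).mp hxT, fun e1 => hx2 ?_⟩, e⟩
      rw [e] at e1
      rw [hxl]
      exact conj_eq_one_iff.mp e1
    · intro x _; group
    · intro x _; group
    · intro x _
      have := hcl x h⁻¹
      rw [inv_inv] at this
      exact this.symm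
  have hR3 : ∑ x ∈ R, f x = 3 * U := by
    rw [← Finset.sum_fiberwise_of_maps_to (t := Ls) (g := fun x => x * x) (fun x hx => by
      obtain ⟨-, -, -, h2, hL⟩ := P.mem_four hx
      exact Finset.mem_erase.mpr ⟨h2, mem_fs.mpr hL⟩)]
    have hcard : Ls.card = 3 := by
      rw [hLs, Finset.card_erase_of_mem (mem_fs.mpr (one_mem _)), card_fs, P.card_L]
    have hz' : ∀ l ∈ E₁ ⊓ E₂, h * l * h⁻¹ ∈ E₁ ⊓ E₂ := fun l hl => by
      have hn : h ∈ normalizer (E₁ : Set G) ⊓ normalizer (E₂ : Set G) := P.inf_normalizer ▸ hhT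
      exact ⟨(Subgroup.mem_normalizer_iff.mp hn.1 l).mp hl.1, (Subgroup.mem_normalizer_iff.mp hn.2 l).mp hl.2⟩
    set z₁ := h * z₀ * h⁻¹ with hz₁
    set z₂ := h * z₁ * h⁻¹ with hz₂
    have hz₁1 : z₁ ≠ 1 := fun e => hz₀1 (conj_eq_one_iff.mp e)
    have hne1 : z₁ ≠ z₀ := fun e => hz₀1 (P.three_fpf hh hz₀ (mul_inv_eq_iff_eq_mul.mp e))
    have hne2 : z₂ ≠ z₁ := fun e => hz₁1 (P.three_fpf hh (hz' _ hz₀) (mul_inv_eq_iff_eq_mul.mp e))
    have hne3 : z₂ ≠ z₀ := fun e => by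
      have h3 : h * z₂ * h⁻¹ = z₀ := by
        rw [hz₂, hz₁, show h * (h * (h * z₀ * h⁻¹) * h⁻¹) * h⁻¹ = h ^ 3 * z₀ * (h ^ 3)⁻¹ by simp [pow_succ, mul_assoc],
          show h ^ 3 = 1 by rw [← hh, pow_orderOf_eq_one]]
        group
      exact hne1 (by rw [hz₁]; exact (congrArg (fun w => h * w * h⁻¹) e).symm.trans h3)
    have hsub : ({z₀, z₁, z₂} : Finset G) = Ls := by
      refine Finset.eq_of_subset_of_card_le ?_ ?_
      · intro w hw
        simp only [Finset.mem_insert, Finset.mem_singleton] at hw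
        rw [hLs, Finset.mem_erase, mem_fs]
        rcases hw with rfl | rfl | rfl
        · exact ⟨hz₀1, hz₀⟩
        · exact ⟨hz₁1, hz' _ hz₀⟩
        · exact ⟨fun e => hz₁1 (conj_eq_one_iff.mp e), hz' _ (hz' _ hz₀)⟩
      · rw [hcard, Finset.card_insert_of_notMem (by simp [hne1.symm, hne3.symm]),
          Finset.card_pair hne2.symm]
    rw [← hsub, Finset.sum_insert (by simp [hne1.symm, hne3.symm]), Finset.sum_pair hne2.symm]
    simp only [hz₂, hz₁, hconjU, hU]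
    ring
  rw [hR3] at hT
  obtain ⟨u, hu⟩ : ∃ u : ℤ, U = u := by
    have h2 : U = (((64 * (a : ℚ) - d - 27 * z) / 3 : ℚ) : ℂ) := by
      push_cast
      rw [eq_div_iff (by norm_num)]
      push_cast at hT ha
      linear_combination ha - hT
    have hUi : IsIntegral ℤ U := by
      rw [hU]; exact IsIntegral.sum _ fun x _ => isIntegral_of_char hch x
    rw [h2] at hUi
    obtain ⟨n, hn⟩ := exists_int_of_isIntegral_ratCast hUi
    exact ⟨n, by rw [h2, hn]; push_cast; rfl⟩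
  rw [hu] at hT
  push_cast at hT ha he
  have ia : (d : ℤ) + 27 * z + 3 * u = 64 * a := by
    have h : (((d : ℤ) + 27 * z + 3 * u : ℤ) : ℂ) = ((64 * a : ℤ) : ℂ) := by
      push_cast; linear_combination ha - hT
    exact_mod_cast h
  have ib : 4 * ((d : ℤ) + 15 * z) - 64 * a = 64 * b := by
    have h : ((4 * ((d : ℤ) + 15 * z) - 64 * a : ℤ) : ℂ) = ((64 * b : ℤ) : ℂ) := by
      push_cast; linear_combination hb' + ha
    exact_mod_cast h
  have ic : 16 * ((d : ℤ) + 3 * z) - 8 * ((d : ℤ) + 15 * z) + 64 * a = 64 * c := by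
    have h : ((16 * ((d : ℤ) + 3 * z) - 8 * ((d : ℤ) + 15 * z) + 64 * a : ℤ) : ℂ) = ((64 * c : ℤ) : ℂ) := by
      push_cast; linear_combination hc' - ha
    exact_mod_cast h
  have ie : (d : ℤ) + 15 * z = 16 * e := by
    have h : (((d : ℤ) + 15 * z : ℤ) : ℂ) = ((16 * e : ℤ) : ℂ) := by
      push_cast; linear_combination he
    exact_mod_cast h
  obtain ⟨m, hm⟩ : ∃ m : ℕ, b = 3 * m := by
    obtain ⟨m, hm⟩ : 3 ∣ b := by omega
    exact ⟨m, hm⟩
  subst hm
  push_cast at ib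
  refine ⟨d, z, (a : ℤ) - m, 4 * ((a : ℤ) - m) - z, a, m, c, by ring, by exact_mod_cast hdpos,
    by rw [hd]; push_cast; rfl, fun t ht => (hinv t ht).trans hz, ?_, ?_, ?_, ?_, ?_, by positivity, ?_,
    by positivity, ?_, by positivity⟩
  · simp only [tf, sub_mul, Finset.sum_sub_distrib, mul_assoc, ← Finset.mul_sum, w2, hE2, ha]
    have h : ((4 * (64 * (a : ℤ)) - 4 * ((d : ℤ) + 15 * z) : ℤ) : ℂ) = ((64 * (3 * ((a : ℤ) - m)) : ℤ) : ℂ) :=
      congrArg (Int.cast : ℤ → ℂ) (by omega)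
    push_cast at h ⊢
    linear_combination h
  · have hexp : ∀ x, tg E₁ E₂ x * f x =
        16 * f x - 16 * (ind E₁ x * f x) - 16 * (ind E₂ x * f x) + 16 * (ind (E₁ ⊓ E₂) x * f x) := fun x => by
      rw [tg]; ring
    simp only [hexp, Finset.sum_add_distrib, Finset.sum_sub_distrib, ← Finset.mul_sum, w1, w2, wL, hE1, hE2, hL, ha]
    have h : ((16 * (64 * (a : ℤ)) - 16 * ((d : ℤ) + 15 * z) - 16 * ((d : ℤ) + 15 * z) + 16 * ((d : ℤ) + 3 * z) : ℤ) : ℂ) =
        ((64 * (3 * (4 * ((a : ℤ) - m) - z)) : ℤ) : ℂ) := congrArg (Int.cast : ℤ → ℂ) (by omega)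
    push_cast at h ⊢
    linear_combination h
  · intro hne
    have hle : (z : ℤ) ≤ d := by
      have h1 := norm_char_le hch z₀
      rw [hz, hd, Complex.norm_intCast, Complex.norm_natCast] at h1
      exact_mod_cast (le_abs_self (z : ℝ)).trans h1
    have hzd : z ≠ (d : ℤ) := fun ezd => hne (by
      obtain ⟨n, ρ, hρ, hρf⟩ := χ.2
      have hfin : (Module.finrank ℂ (Fin n → ℂ) : ℂ) = d := by
        rw [← ρ.char_one, hρf]; exact hd
      have hker : ρ z₀ = LinearMap.id := (character_eq_finrank_iff ρ z₀).mp (by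
        rw [hfin, hρf]
        show f z₀ = _
        rw [hz, ezd]; push_cast; rfl)
      have hk : ρ.ker = ⊤ := (MonoidHom.normal_ker ρ).eq_bot_or_eq_top.resolve_left fun e0 => hz₀1 (by
        have : z₀ ∈ ρ.ker := hker
        rw [e0, Subgroup.mem_bot] at this
        exact this)
      have hval : ∀ g, f g = (d : ℂ) := fun g => by
        rw [← hd]
        show (χ : G → ℂ) g = (χ : G → ℂ) 1
        rw [← hρf, Representation.character, Representation.character,
          show ρ g = ρ 1 from (MonoidHom.mem_ker.mp (hk ▸ Subgroup.mem_top g : g ∈ ρ.ker)).trans (map_one ρ).symm]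
      have h1 := classInner_irr_self χ.2
      rw [classInner, Finset.sum_congr rfl (g := fun _ => (d : ℂ) * d) (fun g _ => by
        rw [show (χ : G → ℂ) g = (d : ℂ) from hval g]; simp), Finset.sum_const, Finset.card_univ, nsmul_eq_mul,
        ← Nat.card_eq_fintype_card, ← mul_assoc, inv_mul_cancel₀ (Nat.cast_ne_zero.mpr Nat.card_pos.ne'), one_mul] at h1
      have hd1 : d * d = 1 := by exact_mod_cast h1
      have hd1' : d = 1 := Nat.eq_one_of_dvd_one ⟨d, hd1.symm⟩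
      exact funext fun g => by show f g = 1; rw [hval g, hd1']; norm_num)
    omega
  · omega
  · omega
  · omega
  · omega

theorem count_invol [DecidableEq G] {z : G} (hz : z ∈ E₁ ⊓ E₂) (hz1 : z ≠ 1) :
    ((Finset.univ.filter fun y : G => orderOf y = 2).filter
      fun s => s⁻¹ * z ∈ Finset.univ.filter fun y : G => orderOf y = 2).card = 26 := by
  have hset : (Finset.univ.filter fun y : G => orderOf y = 2).filter
      (fun s => s⁻¹ * z ∈ Finset.univ.filter fun y : G => orderOf y = 2) = (((fs E₁ ∪ fs E₂).erase 1).erase z) := by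
    ext s
    simp only [Finset.mem_filter, Finset.mem_univ, true_and, Finset.mem_erase, Finset.mem_union, mem_fs]
    constructor
    · rintro ⟨hs, hsz⟩
      have hs2 := mul_self_eq_one_of_orderOf hs
      have hsT : s ∈ T := by
        rw [← P.cent_eq hz hz1, mem_centralizer_singleton_iff]
        have h1 := inv_eq_self_of_orderOf hsz
        rw [mul_inv_rev, inv_inv, inv_eq_self_of_orderOf hs, inv_eq_self_of_orderOf (P.order_two hz.1 hz1)] at h1
        exact h1.symm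
      refine ⟨fun e => ?_, fun e => ?_, (P.sq_eq_one hsT).mp hs2⟩
      · rw [e, inv_mul_cancel, orderOf_one] at hsz
        omega
      · rw [e, orderOf_one] at hs
        omega
    · rintro ⟨hsz, hs1, hs⟩
      have hs2 : s * s = 1 := hs.elim (P.p₁.sq s) (P.p₂.sq s)
      have hsT : s ∈ T := hs.elim (fun h => P.p₁.le h) (fun h => P.p₂.le h)
      refine ⟨orderOf_eq_two_iff'.mpr ⟨hs2, hs1⟩, orderOf_eq_two_iff'.mpr ⟨?_, fun e => hsz ?_⟩⟩
      · rw [show s⁻¹ * z * (s⁻¹ * z) = s⁻¹ * (z * s⁻¹) * z by group,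
          ← P.comm_L hz (inv_mem hsT), show s⁻¹ * (s⁻¹ * z) * z = (s * s)⁻¹ * (z * z) by group, hs2, P.p₁.sq z hz.1]
        group
      · exact inv_mul_eq_one.mp e
  rw [hset, Finset.card_erase_of_mem (Finset.mem_erase.mpr ⟨hz1, Finset.mem_union_left _ (mem_fs.mpr hz.1)⟩),
    Finset.card_erase_of_mem (by simp [mem_fs]), Finset.card_union,
    show fs E₁ ∩ fs E₂ = fs (E₁ ⊓ E₂) by ext x; simp [mem_fs], card_fs, card_fs, card_fs, P.card_E, P.symm.card_E,
    P.card_L]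

theorem count_four [DecidableEq G] {x : G} (hx : x ∈ (fs T).filter (fun y => ¬ y * y = 1)) :
    ((Finset.univ.filter fun y : G => orderOf y = 2).filter
      fun s => s⁻¹ * x ∈ Finset.univ.filter fun y : G => orderOf y = 2).card = 8 := by
  obtain ⟨hxT, hx1, hx2, hxx, hxL⟩ := P.mem_four hx
  obtain ⟨a, ha, b, hb, rfl⟩ := pair_decomp P.p₁ P.p₂ P.ne P.cardT P.cit hxT
  have ha2 : a ∉ E₂ := fun h => hx2 (E₂.mul_mem h hb)
  have hb1 : b ∉ E₁ := fun h => hx1 (E₁.mul_mem ha h)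
  have hbb := P.p₂.sq b hb
  have hbi : b⁻¹ = b := inv_eq_of_mul_eq_one_right hbb
  have hai : a⁻¹ = a := inv_eq_of_mul_eq_one_right (P.p₁.sq a ha)
  have hbab : b * a * b ∈ E₁ := by
    have := (Subgroup.mem_normalizer_iff.mp (P.p₁.le_normalizer (P.p₂.le hb)) a).mp ha
    rwa [hbi] at this
  have hset : (Finset.univ.filter fun y : G => orderOf y = 2).filter
      (fun s => s⁻¹ * (a * b) ∈ Finset.univ.filter fun y : G => orderOf y = 2) =
      (fs (E₁ ⊓ E₂)).image (a * ·) ∪ (fs (E₁ ⊓ E₂)).image (b * ·) := by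
    ext s
    simp only [Finset.mem_filter, Finset.mem_univ, true_and, Finset.mem_union, Finset.mem_image, mem_fs]
    constructor
    · rintro ⟨hs, ht⟩
      set t := s⁻¹ * (a * b) with htd
      have hsi := inv_eq_self_of_orderOf hs
      have hti := inv_eq_self_of_orderOf ht
      have hst : a * b = s * t := by rw [htd, mul_inv_cancel_left]
      have hsT : s ∈ T := by
        rw [← P.cent_eq hxL hxx, mem_centralizer_singleton_iff]
        have h4 : ((a * b) * (a * b))⁻¹ = (a * b) * (a * b) := inv_eq_of_mul_eq_one_right (P.p₁.sq _ hxL.1)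
        have e : s * ((a * b) * (a * b)) * s⁻¹ = ((a * b) * (a * b))⁻¹ := by
          rw [hst, show (s * t * (s * t))⁻¹ = t⁻¹ * s⁻¹ * (t⁻¹ * s⁻¹) by group, hti, hsi]
          calc s * (s * t * (s * t)) * s = (s * s) * t * s * t * s := by group
            _ = _ := by rw [mul_self_eq_one_of_orderOf hs]; group
        rw [h4, mul_inv_eq_iff_eq_mul] at e
        exact e
      have htT : t ∈ T := T.mul_mem (T.inv_mem hsT) hxT
      rcases P.mem_or hsT (mul_self_eq_one_of_orderOf hs) with h1 | h1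
      · rcases P.mem_or htT (mul_self_eq_one_of_orderOf ht) with h2 | h2
        · exact absurd (hst ▸ E₁.mul_mem h1 h2) hx1
        · refine Or.inl ⟨a⁻¹ * s, ⟨E₁.mul_mem (E₁.inv_mem ha) h1, ?_⟩, mul_inv_cancel_left a s⟩
          rw [show a⁻¹ * s = b * t⁻¹ by
            rw [inv_mul_eq_iff_eq_mul, ← mul_assoc, hst, mul_inv_cancel_right]]
          exact E₂.mul_mem hb (E₂.inv_mem h2)
      · rcases P.mem_or htT (mul_self_eq_one_of_orderOf ht) with h2 | h2
        · refine Or.inr ⟨b⁻¹ * s, ⟨?_, E₂.mul_mem (E₂.inv_mem hb) h1⟩, mul_inv_cancel_left b s⟩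
          rw [show b⁻¹ * s = b * a * b * t⁻¹ by
            rw [hbi, show b * a * b * t⁻¹ = b * ((a * b) * t⁻¹) by group, hst, mul_inv_cancel_right]]
          exact E₁.mul_mem hbab (E₁.inv_mem h2)
        · exact absurd (hst ▸ E₂.mul_mem h1 h2) hx2
    · have key : ∀ s t : G, s * s = 1 → s ≠ 1 → t = s⁻¹ * (a * b) → t * t = 1 → t ≠ 1 →
          orderOf s = 2 ∧ orderOf (s⁻¹ * (a * b)) = 2 := fun s t h1 h2 h3 h4 h5 =>
        ⟨orderOf_eq_two_iff'.mpr ⟨h1, h2⟩, h3 ▸ orderOf_eq_two_iff'.mpr ⟨h4, h5⟩⟩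
      rintro (⟨l, hl, rfl⟩ | ⟨l, hl, rfl⟩)
      · have ht : l⁻¹ * b ∈ E₂ := E₂.mul_mem (E₂.inv_mem hl.2) hb
        refine key _ (l⁻¹ * b) (P.p₁.sq _ (E₁.mul_mem ha hl.1)) (fun e => ha2 ?_) (by group) (P.p₂.sq _ ht)
          (fun e => hb1 ?_)
        · rw [eq_inv_of_mul_eq_one_left e]; exact E₂.inv_mem hl.2
        · rw [inv_mul_eq_one] at e; exact e ▸ hl.1
      · have ht : l⁻¹ * (b * a * b) ∈ E₁ := E₁.mul_mem (E₁.inv_mem hl.1) hbab
        refine key _ (l⁻¹ * (b * a * b)) (P.p₂.sq _ (E₂.mul_mem hb hl.2)) (fun e => hb1 ?_)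
          (by rw [mul_inv_rev, hbi]; group) (P.p₁.sq _ ht) (fun e => ha2 ?_)
        · rw [eq_inv_of_mul_eq_one_left e]; exact E₁.inv_mem hl.1
        · rw [inv_mul_eq_one] at e
          rw [show a = b⁻¹ * (b * a * b) * b⁻¹ by group]
          exact E₂.mul_mem (E₂.mul_mem (E₂.inv_mem hb) (e ▸ hl.2)) (E₂.inv_mem hb)
  rw [hset, Finset.card_union_of_disjoint, Finset.card_image_of_injective _ (mul_right_injective a),
    Finset.card_image_of_injective _ (mul_right_injective b), card_fs, P.card_L]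
  rw [Finset.disjoint_left]
  intro s hs hs'
  simp only [Finset.mem_image, mem_fs] at hs hs'
  obtain ⟨l, hl, rfl⟩ := hs
  obtain ⟨k, hk, e⟩ := hs'
  refine ha2 ?_
  rw [show a = b * k * l⁻¹ by rw [e, mul_inv_cancel_right]]
  exact E₂.mul_mem (E₂.mul_mem hb hk.2) (E₂.inv_mem hl.2)

/-- The order of the group is bounded. -/
theorem card_le [IsSimpleGroup G] : Nat.card G ≤ 320000 := by
  classical
  set A := Finset.univ.filter fun y : G => orderOf y = 2 with hA
  choose d z cf s a m c hz hd0 hd1 hval hf hg hfaith h16 ha ha0 hm hm0 hc hc0 using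
    fun χ : IrrCharacter G => P.char_data χ
  haveI := Fintype.ofFinite T
  set Φ := indFun T (fun y : T => tf E₂ y)
  set Ψ := indFun T (fun y : T => tg E₁ E₂ y)
  have hcoef : ∀ (θ : G → ℂ), (∀ x, conj (θ x) = θ x) → ∀ (χ : IrrCharacter G) (k : ℤ),
      (∑ x ∈ fs T, θ x * (χ : G → ℂ) x) = 64 * (3 * k : ℤ) →
      classInner (χ : G → ℂ) (indFun T fun y => θ y) = (3 * k : ℤ) ∧
        classInner (indFun T fun y => θ y) (χ : G → ℂ) = (3 * k : ℤ) := by
    intro θ hθ χ k hk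
    have h1 : classInner (χ : G → ℂ) (indFun T fun y => θ y) = (3 * k : ℤ) := by
      rw [frobenius_reciprocity' T _ (isClassFunction_irr χ.2), classInner_res, P.card_T,
        Finset.sum_congr rfl (fun x _ => by rw [hθ, mul_comm] : ∀ x ∈ fs T,
          (χ : G → ℂ) x * conj (θ x) = θ x * (χ : G → ℂ) x), hk]
      push_cast
      ring
    exact ⟨h1, by rw [← classInner_comm, h1, map_intCast]⟩
  have h10f : tf E₂ (1 : G) = 0 := by simp [tf, ind_of_mem E₂.one_mem]
  have h10g : tg E₁ E₂ (1 : G) = 0 := P.tg_invol T.one_mem (one_mul 1)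
  obtain ⟨f1, f2, f3⟩ := P.tf_sums
  obtain ⟨g1, g2, g3⟩ := P.tg_sums
  have nff : classInner Φ Φ = 63 := by
    rw [P.inner_ind h10f h10f conj_tf P.tf_four P.tf_four, f1, f2, f3]
    simp [Complex.conj_ofNat]; norm_num
  have ngg : classInner Ψ Ψ = 432 := by
    rw [P.inner_ind h10g h10g conj_tg P.tg_four P.tg_four, g1, g2, g3]
    simp [Complex.conj_ofNat]; norm_num
  have nfg : classInner Φ Ψ = 108 := by
    rw [P.inner_ind h10g h10f conj_tf P.tg_four P.tf_four, f1, f2, f3, g1, g2, g3]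
    simp [Complex.conj_ofNat]; norm_num
  have hΦ : IsClassFunction G Φ := indFun_isClassFunction _ _
  have hΨ : IsClassFunction G Ψ := indFun_isClassFunction _ _
  have sff : ∑ χ : IrrCharacter G, cf χ * cf χ = 7 := by
    rw [classInner_eq_sum_irr hΦ, Finset.sum_congr rfl (fun χ _ => by
      rw [(hcoef _ conj_tf χ _ (hf χ)).2, (hcoef _ conj_tf χ _ (hf χ)).1] :
      ∀ χ ∈ (Finset.univ : Finset (IrrCharacter G)), classInner Φ (χ : G → ℂ) * classInner (χ : G → ℂ) Φ =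
        ((3 * cf χ : ℤ) : ℂ) * ((3 * cf χ : ℤ) : ℂ))] at nff
    have h : (∑ χ : IrrCharacter G, 3 * cf χ * (3 * cf χ)) = 63 := by exact_mod_cast nff
    rw [Finset.sum_congr rfl (g := fun χ => 9 * (cf χ * cf χ)) fun χ _ => by ring, ← Finset.mul_sum] at h
    omega
  have sgg : ∑ χ : IrrCharacter G, s χ * s χ = 48 := by
    rw [classInner_eq_sum_irr hΨ, Finset.sum_congr rfl (fun χ _ => by
      rw [(hcoef _ conj_tg χ _ (hg χ)).2, (hcoef _ conj_tg χ _ (hg χ)).1] :
      ∀ χ ∈ (Finset.univ : Finset (IrrCharacter G)), classInner Ψ (χ : G → ℂ) * classInner (χ : G → ℂ) Ψ =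
        ((3 * s χ : ℤ) : ℂ) * ((3 * s χ : ℤ) : ℂ))] at ngg
    have h : (∑ χ : IrrCharacter G, 3 * s χ * (3 * s χ)) = 432 := by exact_mod_cast ngg
    rw [Finset.sum_congr rfl (g := fun χ => 9 * (s χ * s χ)) fun χ _ => by ring, ← Finset.mul_sum] at h
    omega
  have sfg : ∑ χ : IrrCharacter G, cf χ * s χ = 12 := by
    rw [classInner_eq_sum_irr hΦ, Finset.sum_congr rfl (fun χ _ => by
      rw [(hcoef _ conj_tf χ _ (hf χ)).2, (hcoef _ conj_tg χ _ (hg χ)).1] :
      ∀ χ ∈ (Finset.univ : Finset (IrrCharacter G)), classInner Φ (χ : G → ℂ) * classInner (χ : G → ℂ) Ψ =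
        ((3 * cf χ : ℤ) : ℂ) * ((3 * s χ : ℤ) : ℂ))] at nfg
    have h : (∑ χ : IrrCharacter G, 3 * cf χ * (3 * s χ)) = 108 := by exact_mod_cast nfg
    rw [Finset.sum_congr rfl (g := fun χ => 9 * (cf χ * s χ)) fun χ _ => by ring, ← Finset.mul_sum] at h
    omega
  -- the principal character
  set o : IrrCharacter G := ⟨fun _ => 1, isIrrCharacter_one⟩ with ho
  obtain ⟨z₀, hz₀, hz₀1⟩ := P.exists_L
  have hdo : d o = 1 := by
    have h : (1 : ℂ) = (d o : ℂ) := hd1 o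
    exact_mod_cast h.symm
  have hzo : z o = 1 := by
    have h : (1 : ℂ) = (z o : ℂ) := hval o z₀ (P.order_two hz₀.1 hz₀1)
    exact_mod_cast h.symm
  have hcfo : cf o = 1 := by
    have h := hf o
    simp only [ho, mul_one] at h
    rw [P.sum_T, f1, f2, f3, Finset.sum_congr rfl P.tf_four, Finset.sum_const, P.card_four] at h
    rw [← ho] at h
    norm_num at h
    have h2 : (192 : ℤ) = 64 * (3 * cf o) := by exact_mod_cast h
    omega
  have hso : s o = 3 := by have := hz o; omega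
  -- bound for every non-principal character
  have hsmall : ∀ χ ∈ Finset.univ.erase o, cf χ * cf χ ≤ 6 ∧ s χ * s χ ≤ 39 := by
    intro χ hχ
    have h1 := Finset.single_le_sum (s := Finset.univ.erase o) (f := fun χ => cf χ * cf χ)
      (fun i _ => mul_self_nonneg _) hχ
    have h2 := Finset.single_le_sum (s := Finset.univ.erase o) (f := fun χ => s χ * s χ)
      (fun i _ => mul_self_nonneg _) hχ
    rw [Finset.sum_erase_eq_sub (Finset.mem_univ o), sff, hcfo] at h1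
    rw [Finset.sum_erase_eq_sub (Finset.mem_univ o), sgg, hso] at h2
    omega
  let q : IrrCharacter G → ℚ := fun χ => (cf χ * (z χ * z χ) : ℤ) / (d χ : ℚ)
  have hq : ∀ χ ∈ Finset.univ.erase o,
      -(((23 * (cf χ * cf χ) + 2 * (s χ * s χ) - 10 * (cf χ * s χ) : ℤ) : ℚ) / 150) ≤ q χ := by
    intro χ hχ
    obtain ⟨h1, h2⟩ := hsmall χ hχ
    have hb := option_bound (hz χ) h1 h2 (hd0 χ)
      (hfaith χ fun e => Finset.ne_of_mem_erase hχ (Subtype.ext e)) (h16 χ) (ha χ) (ha0 χ) (hm χ) (hm0 χ) (hc χ) (hc0 χ)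
    have hdq : (0 : ℚ) < d χ := by exact_mod_cast hd0 χ
    rw [le_div_iff₀ hdq, neg_mul, div_mul_eq_mul_div, ← neg_div, div_le_iff₀ (by norm_num)]
    have : -((23 * (cf χ * cf χ) + 2 * (s χ * s χ) - 10 * (cf χ * s χ)) * d χ) ≤ cf χ * (z χ * z χ) * 150 := by
      linarith [mul_comm (d χ) (23 * (cf χ * cf χ) + 2 * (s χ * s χ) - 10 * (cf χ * s χ))]
    exact_mod_cast this
  have hsum : (24 : ℚ) / 150 ≤ ∑ χ, q χ := by
    rw [← Finset.add_sum_erase _ q (Finset.mem_univ o)]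
    refine le_trans (le_of_eq ?_) (add_le_add_right (Finset.sum_le_sum hq) (q o))
    have hqo : q o = 1 := by simp [q, hcfo, hzo, hdo]
    have hS : (∑ χ ∈ Finset.univ.erase o, (23 * (cf χ * cf χ) + 2 * (s χ * s χ) - 10 * (cf χ * s χ))) = 126 := by
      rw [Finset.sum_sub_distrib, Finset.sum_add_distrib, ← Finset.mul_sum, ← Finset.mul_sum, ← Finset.mul_sum,
        Finset.sum_erase_eq_sub (Finset.mem_univ o), Finset.sum_erase_eq_sub (Finset.mem_univ o),
        Finset.sum_erase_eq_sub (Finset.mem_univ o), sff, sgg, sfg, hcfo, hso]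
      norm_num
    rw [hqo, Finset.sum_neg_distrib, ← Finset.sum_div, ← Int.cast_sum, hS]
    norm_num
  -- counting pairs of involutions
  have hAconj : ∀ x ∈ A, ∀ h : G, h * x * h⁻¹ ∈ A := fun x hx h => Finset.mem_filter.mpr
    ⟨Finset.mem_univ _, by rw [orderOf_conj]; exact (Finset.mem_filter.mp hx).2⟩
  set Nc : G → ℕ := fun g => (A.filter fun x => x⁻¹ * g ∈ A).card with hNc
  have hAsum : ∀ χ : IrrCharacter G, ∑ x ∈ A, (χ : G → ℂ) x = (A.card : ℂ) * z χ := fun χ => by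
    rw [Finset.sum_congr rfl fun x hx => hval χ x (Finset.mem_filter.mp hx).2, Finset.sum_const, nsmul_eq_mul]
  have hcount : ∀ g : G, (Nat.card G : ℂ) * (Nc g : ℂ) =
      ∑ χ : IrrCharacter G, ((A.card : ℂ) * z χ) ^ 2 * conj ((χ : G → ℂ) g) / (d χ : ℂ) := fun g => by
    rw [BSW.card_pairs A hAconj g]
    exact Finset.sum_congr rfl fun χ _ => by rw [hAsum, hd1]
  have hN26 : ∀ x : G, orderOf x = 2 → Nc x = 26 := by
    intro x hx
    have h : (Nat.card G : ℂ) * (Nc x : ℂ) = (Nat.card G : ℂ) * (Nc z₀ : ℂ) := by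
      rw [hcount, hcount]
      exact Finset.sum_congr rfl fun χ _ => by rw [hval χ x hx, hval χ z₀ (P.order_two hz₀.1 hz₀1)]
    have h2 := mul_left_cancel₀ (Nat.cast_ne_zero.mpr Nat.card_pos.ne') h
    rw [Nat.cast_inj] at h2
    rw [h2]
    exact P.count_invol hz₀ hz₀1
  have hL : ∑ x ∈ fs T, tf E₂ x * (Nc x : ℂ) = 2400 := by
    rw [P.sum_T]
    have hinv : ∀ H : Subgroup G, (∀ x ∈ H, x * x = 1) →
        ∑ x ∈ fs H, tf E₂ x * (Nc x : ℂ) = (∑ x ∈ fs H, tf E₂ x) * 26 := fun H hH => by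
      rw [Finset.sum_mul]
      refine Finset.sum_congr rfl fun x hx => ?_
      by_cases e : x = 1
      · rw [e, h10f, zero_mul, zero_mul]
      · rw [hN26 x (orderOf_eq_two_iff'.mpr ⟨hH x (mem_fs.mp hx), e⟩)]; norm_num
    rw [hinv E₁ P.p₁.sq, hinv E₂ P.p₂.sq, hinv (E₁ ⊓ E₂) (fun x hx => P.p₁.sq x hx.1), f1, f2, f3,
      Finset.sum_congr rfl (g := fun _ => (4 : ℂ) * 8) (fun x hx => by
        rw [P.tf_four x hx, show Nc x = 8 from P.count_four hx]; norm_num),
      Finset.sum_const, P.card_four, nsmul_eq_mul]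
    norm_num
  have hR : ∑ x ∈ fs T, tf E₂ x * ((Nat.card G : ℂ) * (Nc x : ℂ)) =
      (A.card : ℂ) ^ 2 * 192 * ((∑ χ, q χ : ℚ) : ℂ) := by
    simp only [hcount, Finset.mul_sum]
    rw [Finset.sum_comm, Rat.cast_sum, Finset.mul_sum]
    refine Finset.sum_congr rfl fun χ _ => ?_
    have hcj : ∑ x ∈ fs T, tf E₂ x * conj ((χ : G → ℂ) x) = 64 * (3 * cf χ : ℤ) := by
      have := congrArg conj (hf χ)
      rw [map_sum, map_mul, map_intCast, Complex.conj_ofNat] at this
      simpa [conj_tf] using this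
    calc ∑ x ∈ fs T, tf E₂ x * (((A.card : ℂ) * z χ) ^ 2 * conj ((χ : G → ℂ) x) / (d χ : ℂ))
        = ((A.card : ℂ) * z χ) ^ 2 / (d χ : ℂ) * ∑ x ∈ fs T, tf E₂ x * conj ((χ : G → ℂ) x) := by
          rw [Finset.mul_sum]
          exact Finset.sum_congr rfl fun x _ => by ring
      _ = _ := by rw [hcj]; simp only [q]; push_cast; ring
  have hI : (A.card : ℂ) ≠ 0 := by
    refine Nat.cast_ne_zero.mpr (Finset.card_ne_zero.mpr ⟨z₀, ?_⟩)
    exact Finset.mem_filter.mpr ⟨Finset.mem_univ _, P.order_two hz₀.1 hz₀1⟩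
  have hkey : (A.card : ℚ) * ∑ χ, q χ = 800 := by
    have h := hR
    rw [Finset.sum_congr rfl (g := fun x => (Nat.card G : ℂ) * (tf E₂ x * (Nc x : ℂ))) fun x _ => by ring,
      ← Finset.mul_sum, hL, P.card_G, ← hA] at h
    push_cast at h
    have h' : (A.card : ℂ) * ((A.card : ℂ) * ((∑ χ, q χ : ℚ) : ℂ)) = (A.card : ℂ) * 800 := by
      push_cast
      linear_combination (-(1 / 192) : ℂ) * h
    have := mul_left_cancel₀ hI h'
    exact_mod_cast this
  have hle : (A.card : ℚ) ≤ 5000 := by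
    have := mul_le_mul_of_nonneg_left hsum (Nat.cast_nonneg A.card : (0 : ℚ) ≤ A.card)
    rw [hkey] at this
    linarith
  have : A.card ≤ 5000 := by exact_mod_cast hle
  rw [P.card_G, ← hA]
  omega

end Pair4

end CfsgLib.CIT
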