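import Cfsg.Agent.Lib.CIT.L34Plane
import Cfsg.Agent.Lib.CIT.L34Char
import Cfsg.Agent.Lib.CIT.Outcome

/-!
The configuration of order sixty-four gives the simple group of the plane of order four.
-/

set_option autoImplicit false
set_option linter.unusedSectionVars false
set_option linter.style.haveILetI false

namespace CfsgLib.CIT

open Subgroup Cfsg CfsgPlane
open scoped Pointwise LinearAlgebra.Projectivization
open CfsgLib.Involutions (orderOf_eq_two_iff')

universe u

/-- A simple group of order `20160` acting on a plane of order four is `PSL₃(4)`. -/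
theorem psl34_of_action {H : Type u} [Group H] [Finite H] [IsSimpleGroup H] (hc : Nat.card H = 20160)
    {α : Type u} [Fintype α] [DecidableEq α] {L : Set (Finset α)} (hL : IsSteinerSystem 2 5 L)
    (hα : Fintype.card α = 21) (φ : H →* Equiv.Perm α) (hφ : Function.Injective φ)
    (hinv : ∀ h : H, ∀ l ∈ L, l.image (φ h) ∈ L) (F : Type) [Field F] [Fintype F] (hF : Fintype.card F = 4) :
    Nonempty (H ≃* Matrix.ProjectiveSpecialLinearGroup (Fin 3) F) := by
  classical
  haveI : Fintype (ℙ F (Fin 3 → F)) := Fintype.ofFinite _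
  obtain ⟨hM, hβ⟩ := steiner_field hF
  obtain ⟨G1⟩ := exists_frame hL hα
  obtain ⟨G2⟩ := exists_frame hM hβ
  obtain ⟨e, he, -⟩ := exists_collineation hL hα hM hβ G1 G2
  let PF := Matrix.ProjectiveSpecialLinearGroup (Fin 3) F
  let ψ : H →* setSystemAut (fieldLines F) :=
    { toFun := fun g => ⟨e.permCongr (φ g), by
        have h1 : (fun s : Finset α => s.image (φ g)) '' L = L :=
          Set.eq_of_subset_of_ncard_le (by rintro _ ⟨b, hb, rfl⟩; exact hinv g b hb)
            (le_of_eq (Set.ncard_image_of_injective _ (Finset.image_injective (φ g).injective)).symm) (Set.toFinite _)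
        rw [MulAction.mem_stabilizer_iff, CfsgCode.smul_sys]
        conv_lhs => rw [← he, Set.image_image]
        conv_rhs => rw [← he, ← h1, Set.image_image]
        refine Set.image_congr fun b _ => ?_
        rw [Finset.image_image, Finset.image_image]
        refine Finset.image_congr fun x _ => ?_
        simp [Equiv.permCongr_apply]⟩
      map_one' := Subtype.ext (Equiv.ext fun x => by simp [Equiv.permCongr_apply])
      map_mul' := fun g h => Subtype.ext (Equiv.ext fun x => by simp [map_mul, Equiv.permCongr_apply]) }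
  have hψ : Function.Injective ψ := fun g h h' => hφ (e.permCongr.injective (congrArg Subtype.val h'))
  let χ0 : Matrix.SpecialLinearGroup (Fin 3) F →* setSystemAut (fieldLines F) :=
    colPerm.codRestrict _ fun g => colPerm_mem g
  have hk : χ0.ker = Subgroup.center (Matrix.SpecialLinearGroup (Fin 3) F) := by
    rw [MonoidHom.ker_codRestrict, colPerm_ker]
  let χ : PF →* setSystemAut (fieldLines F) := QuotientGroup.lift _ χ0 hk.ge
  have hχ : Function.Injective χ := by
    rw [← MonoidHom.ker_eq_bot_iff, QuotientGroup.ker_lift, hk, QuotientGroup.map_mk'_self]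
  have hA : Nat.card (setSystemAut (fieldLines F)) ≤ 168 * 720 := card_aut_le hM hβ
  have hcP : Nat.card χ.range = 20160 := by
    rw [← Nat.card_congr (MonoidHom.ofInjective hχ).toEquiv, card_PSL34 hF]
  have hle : ψ.range ≤ χ.range := by
    let C := χ.range.comap ψ
    have hidx : C.index ≤ 6 := by
      have h1 : C.index = χ.range.relIndex ψ.range := Subgroup.index_comap _ _
      have h2 : χ.range.relIndex ψ.range ≤ χ.range.index := by
        rw [← Subgroup.relIndex_top_right]
        exact Subgroup.relIndex_le_of_le_right le_top (by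
          rw [Subgroup.relIndex_top_right]; exact Subgroup.index_ne_zero_of_finite)
      have h3 := χ.range.card_mul_index
      rw [hcP] at h3
      have : 20160 * χ.range.index ≤ 20160 * 6 := by rw [h3]; exact hA.trans (by norm_num)
      omega
    have hk' : C.normalCore = ⊤ := by
      refine ((Subgroup.normalCore_normal C).eq_bot_or_eq_top).resolve_left fun hbot => ?_
      have hinj : Function.Injective (MulAction.toPermHom H (H ⧸ C)) := by
        rw [← MonoidHom.ker_eq_bot_iff, ← Subgroup.normalCore_eq_ker, hbot]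
      haveI : Fintype (H ⧸ C) := Fintype.ofFinite _
      have := Nat.card_le_card_of_injective _ hinj
      rw [hc, Nat.card_perm, Nat.card_eq_fintype_card, ← Nat.card_eq_fintype_card, ← Subgroup.index_eq_card] at this
      have := this.trans (Nat.factorial_le hidx)
      norm_num [Nat.factorial] at this
    have hC : C = ⊤ := top_le_iff.mp (hk' ▸ C.normalCore_le)
    rintro _ ⟨g, rfl⟩
    exact (hC ▸ Subgroup.mem_top g : g ∈ C)
  have heq : ψ.range = χ.range := Subgroup.eq_of_le_of_card_ge hle (by
    rw [hcP, ← Nat.card_congr (MonoidHom.ofInjective hψ).toEquiv, hc])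
  exact ⟨(MonoidHom.ofInjective hψ).trans ((MulEquiv.subgroupCongr heq).trans (MonoidHom.ofInjective hχ).symm)⟩

variable {G : Type u} [Group G] [Finite G] {T E₁ E₂ : Subgroup G}

namespace Pair4

theorem index_ne_213 [IsSimpleGroup G] (P : Pair4 T E₁ E₂) (hi : (normalizer (E₁ : Set G)).index = 213) : False := by
  haveI : Fact (Nat.Prime 71) := ⟨by norm_num⟩
  have hG : Nat.card G = 204480 := by rw [← P.card_points_total, hi]
  set S : Sylow 71 G := default
  have hS : Nat.card (S : Subgroup G) = 71 := by
    rw [S.card_eq_multiplicity, hG, show (204480 : ℕ) = 71 * 2880 from rfl,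
      Nat.factorization_mul (by norm_num) (by norm_num), Finsupp.add_apply,
      (by norm_num : Nat.Prime 71).factorization_self, Nat.factorization_eq_zero_of_not_dvd (by norm_num), pow_one]
  have hidx : (S : Subgroup G).index = 2880 := by
    have := (S : Subgroup G).card_mul_index
    rw [hS, hG] at this
    omega
  have hn : Nat.card (Sylow 71 G) = 1 ∨ Nat.card (Sylow 71 G) = 72 := by
    have h1 : Nat.card (Sylow 71 G) ∣ 2880 := hidx ▸ Sylow.card_dvd_index S
    have h2 := card_sylow_modEq_one 71 G
    rw [Nat.ModEq, Nat.one_mod_eq_one.mpr (by norm_num : (71 : ℕ) ≠ 1)] at h2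
    have h3 := Nat.le_of_dvd (by norm_num) h1
    obtain ⟨k, hk⟩ : ∃ k, Nat.card (Sylow 71 G) = 71 * k + 1 := ⟨Nat.card (Sylow 71 G) / 71, by omega⟩
    rw [hk] at h1 h3 ⊢
    have : k ≤ 40 := by omega
    interval_cases k <;> revert h1 <;> norm_num
  rcases hn with hn | hn
  · haveI : Subsingleton (Sylow 71 G) := (Nat.card_eq_one_iff_unique.mp hn).1
    rcases (Sylow.normal_of_subsingleton S).eq_bot_or_eq_top with e | e
    · rw [e, Subgroup.card_bot] at hS
      omega
    · rw [e, Subgroup.card_top, hG] at hS
      omega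
  set N := normalizer ((S : Subgroup G) : Set G) with hN
  have hNc : Nat.card N = 2840 := by
    have h1 := N.card_mul_index
    have h2 : N.index = 72 := (Sylow.card_eq_index_normalizer S).symm.trans hn
    rw [h2, hG] at h1
    omega
  set f := (S : Subgroup G).normalizerMonoidHom with hf
  have hk : ¬ 2 ∣ Nat.card f.ker := by
    intro h2
    haveI : Fact (Nat.Prime 2) := ⟨Nat.prime_two⟩
    obtain ⟨t, ht⟩ := exists_prime_orderOf_dvd_card' 2 h2
    have hker : ((t : N) : G) ∈ centralizer ((S : Subgroup G) : Set G) := by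
      exact Subgroup.mem_subgroupOf.mp ((SetLike.ext_iff.mp (S : Subgroup G).normalizerMonoidHom_ker _).mp t.2)
    obtain ⟨x, hx⟩ := exists_prime_orderOf_dvd_card' (G := (S : Subgroup G)) 71 (dvd_of_eq hS.symm)
    have hto : orderOf (((t : N) : G)) = 2 := by rw [Subgroup.orderOf_coe, Subgroup.orderOf_coe, ht]
    obtain ⟨j, hj⟩ := P.cit _ hto ⟨(x : G), mem_centralizer_singleton_iff.mpr (hker x x.2)⟩
    have hj' : (x : G) ^ 2 ^ j = 1 := congrArg Subtype.val hj
    have h71 : 71 ∣ 2 ^ j := by
      rw [← hx, ← Subgroup.orderOf_coe]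
      exact orderOf_dvd_of_pow_eq_one hj'
    exact absurd ((by norm_num : Nat.Prime 71).dvd_of_dvd_pow h71) (by norm_num)
  have hr : Nat.card f.range ∣ 70 := by
    haveI : IsCyclic (S : Subgroup G) := isCyclic_of_prime_card hS
    refine (Subgroup.card_subgroup_dvd_card f.range).trans (dvd_of_eq ?_)
    rw [IsCyclic.card_mulAut, hS, Nat.totient_prime (by norm_num)]
  have hcard := f.ker.card_mul_index
  rw [Subgroup.index_ker, hNc] at hcard
  have h8 : 8 ∣ Nat.card f.range :=
    ((Nat.prime_two.coprime_iff_not_dvd.mpr hk).pow_left 3).dvd_of_dvd_mul_left ⟨355, hcard.trans (by norm_num)⟩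
  exact absurd (h8.trans hr) (by norm_num)

theorem index_eq_21 [IsSimpleGroup G] (P : Pair4 T E₁ E₂) : (normalizer (E₁ : Set G)).index = 21 := by
  haveI := Fintype.ofFinite G
  rcases P.far_cases with h | h | h
  · exact h
  · exact (P.index_ne_213 h).elim
  · have h1 := P.card_points_total
    have h2 := P.card_le
    omega

theorem l34 [IsSimpleGroup G] (P : Pair4 T E₁ E₂) : L34Type G := by
  classical
  haveI := Fintype.ofFinite G
  set N₁ := normalizer (E₁ : Set G) with hN₁
  set N₂ := normalizer (E₂ : Set G) with hN₂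
  let blk : G ⧸ N₂ → Finset (G ⧸ N₁) := fun y => Finset.univ.filter fun x => Inc x y
  have hidx := P.index_eq_21
  have hcardG : Nat.card G = 20160 := by rw [← P.card_points_total, hidx]
  have hα : Fintype.card (G ⧸ N₁) = 21 := by rw [← Nat.card_eq_fintype_card]; exact hidx
  have hjoin : ∀ x x' : G ⧸ N₁, ∃ y : G ⧸ N₂, Inc x y ∧ Inc x' y := by
    intro x x'
    induction x using QuotientGroup.induction_on with | _ g => ?_
    have hall : (Finset.univ.filter fun w : G ⧸ N₁ =>
        ∃ y : G ⧸ N₂, Inc (QuotientGroup.mk 1 : G ⧸ N₁) y ∧ Inc w y) = Finset.univ :=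
      Finset.eq_univ_of_card _ (by rw [← Fintype.card_subtype, ← Nat.card_eq_fintype_card, hα]; exact P.card_near)
    obtain ⟨y, h1, h2⟩ := (Finset.mem_filter.mp (hall.symm ▸ Finset.mem_univ (g⁻¹ • x'))).2
    have h1' := inc_smul g h1
    have h2' := inc_smul g h2
    rw [show g • (QuotientGroup.mk 1 : G ⧸ N₁) = QuotientGroup.mk g from congrArg QuotientGroup.mk (mul_one g)] at h1'
    rw [smul_inv_smul] at h2'
    exact ⟨g • y, h1', h2'⟩
  have hSt : IsSteinerSystem 2 5 (Set.range blk) := by
    refine ⟨?_, fun s hs => ?_⟩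
    · rintro _ ⟨y, rfl⟩
      rw [← P.card_points y, Nat.card_eq_fintype_card, Fintype.card_subtype]
    · obtain ⟨a, b, hab, rfl⟩ := Finset.card_eq_two.mp hs
      obtain ⟨y, ha, hb⟩ := hjoin a b
      refine ⟨blk y, ⟨⟨y, rfl⟩, by simp [blk, Finset.insert_subset_iff, ha, hb]⟩, ?_⟩
      rintro _ ⟨⟨y', rfl⟩, hsub⟩
      simp only [blk, Finset.insert_subset_iff, Finset.singleton_subset_iff, Finset.mem_filter, Finset.mem_univ,
        true_and] at hsub
      rw [P.line_unique hab hsub.1 ha hsub.2 hb]
  let φ : G →* Equiv.Perm (G ⧸ N₁) := MulAction.toPermHom G (G ⧸ N₁)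
  have hφ : Function.Injective φ := by
    rw [← MonoidHom.ker_eq_bot_iff]
    refine (MonoidHom.normal_ker φ).eq_bot_or_eq_top.resolve_right fun e => ?_
    have : N₁ = ⊤ := by
      rw [eq_top_iff]
      intro g _
      have h := congrArg (fun p : Equiv.Perm (G ⧸ N₁) => p (QuotientGroup.mk 1))
        (MonoidHom.mem_ker.mp (e ▸ Subgroup.mem_top g : g ∈ φ.ker))
      have h' : (QuotientGroup.mk (g * 1) : G ⧸ N₁) = QuotientGroup.mk 1 := h
      rw [mul_one, QuotientGroup.eq, mul_one] at h'
      exact inv_mem_iff.mp h'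
    rw [hN₁] at this
    rw [this, Subgroup.index_top] at hidx
    omega
  have hinv : ∀ g : G, ∀ l ∈ Set.range blk, l.image (φ g) ∈ Set.range blk := by
    rintro g _ ⟨y, rfl⟩
    refine ⟨g • y, ?_⟩
    ext x
    simp only [blk, Finset.mem_image, Finset.mem_filter, Finset.mem_univ, true_and]
    constructor
    · intro h
      refine ⟨g⁻¹ • x, ?_, smul_inv_smul g x⟩
      simpa using inc_smul g⁻¹ h
    · rintro ⟨w, hw, rfl⟩
      exact inc_smul g hw
  haveI : Fintype (GaloisField 2 2) := Fintype.ofFinite _
  have hF : Fintype.card (GaloisField 2 2) = 4 := by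
    rw [← Nat.card_eq_fintype_card, GaloisField.card 2 2 two_ne_zero]
    norm_num
  exact ⟨GaloisField 2 2, inferInstance, inferInstance, hF,
    psl34_of_action hcardG hSt hα φ hφ hinv _ hF⟩

end Pair4

end CfsgLib.CIT
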