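import Cfsg.Agent.Lib.CIT.Four

/-!
The configuration of order sixty-four: conjugacy, flags and normalisers.
-/

set_option autoImplicit false
set_option linter.unusedSectionVars false
set_option linter.style.haveILetI false

namespace CfsgLib.CIT

open Subgroup Cfsg
open CfsgLib.Involutions (mul_self_eq_one_of_orderOf inv_eq_self_of_orderOf orderOf_eq_two_iff' orderOf_conj)

universe u

variable {G : Type u} [Group G]

/-- Two pieces of order sixteen inside a Sylow 2-subgroup. -/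
structure Pair4 (T E₁ E₂ : Subgroup G) : Prop where
  p₁ : Piece T E₁ 2
  p₂ : Piece T E₂ 2
  ne : E₁ ≠ E₂
  cardT : Nat.card T = (2 ^ 2) ^ 3
  cit : IsCIT G
  syl : ∀ R : Subgroup G, IsPGroup 2 R → T ≤ R → R = T

namespace Pair4

variable [Finite G] {T E₁ E₂ : Subgroup G} (P : Pair4 T E₁ E₂)

include P

theorem symm : Pair4 T E₂ E₁ := ⟨P.p₂, P.p₁, P.ne.symm, P.cardT, P.cit, P.syl⟩

theorem card_T : Nat.card T = 64 := P.cardT.trans (by norm_num)

theorem card_E : Nat.card E₁ = 16 := P.p₁.card.trans (by norm_num)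

theorem card_L : Nat.card ↥(E₁ ⊓ E₂) = 4 := (pair_card P.p₁ P.p₂ P.ne P.cardT P.cit).1.trans (by norm_num)

theorem sup_eq : E₁ ⊔ E₂ = T := (pair_card P.p₁ P.p₂ P.ne P.cardT P.cit).2.1

theorem mem_or {t : G} (ht : t ∈ T) (h2 : t * t = 1) : t ∈ E₁ ∨ t ∈ E₂ :=
  pair_sq P.p₁ P.p₂ P.ne P.cardT P.cit ht h2

theorem comm_L {z : G} (hz : z ∈ E₁ ⊓ E₂) {t : G} (ht : t ∈ T) : t * z = z * t :=
  pair_center P.p₁ P.p₂ P.ne P.cardT P.cit hz ht

theorem exists_L : ∃ z ∈ E₁ ⊓ E₂, z ≠ 1 := by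
  have h : E₁ ⊓ E₂ ≠ ⊥ := fun e => by
    have := P.card_L
    rw [e, Subgroup.card_bot] at this
    omega
  obtain ⟨z, hz, hz1⟩ := (Subgroup.bot_or_exists_ne_one _).resolve_left h
  exact ⟨z, hz, hz1⟩

theorem order_two {x : G} (hx : x ∈ E₁) (h1 : x ≠ 1) : orderOf x = 2 :=
  orderOf_eq_two_iff'.mpr ⟨P.p₁.sq x hx, h1⟩

theorem cent_eq {z : G} (hz : z ∈ E₁ ⊓ E₂) (hz1 : z ≠ 1) : centralizer ({z} : Set G) = T :=
  P.syl _ (P.cit z (P.order_two hz.1 hz1)) fun _ ht =>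
    mem_centralizer_singleton_iff.mpr (P.comm_L hz ht)

theorem exists_le_cj {R : Subgroup G} (hR : IsPGroup 2 R) : ∃ g : G, R ≤ cj g T :=
  let ⟨g, _, h⟩ := (⟨P.p₁.ov.syl.two, le_top, fun R h1 h2 _ => P.syl R h1 h2⟩ : IsSyl T ⊤).exists_cj hR le_top
  ⟨g, h⟩

theorem exists_conj {z t : G} (hz : z ∈ E₁ ⊓ E₂) (hz1 : z ≠ 1) (ht : orderOf t = 2) :
    ∃ k : G, k * z * k⁻¹ = t := by
  obtain ⟨g, hg⟩ := P.exists_le_cj (R := zpowers t)
    (IsPGroup.of_card (n := 1) (by rw [Nat.card_zpowers, ht, pow_one]))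
  have h' := mem_cj.mp (hg (mem_zpowers t))
  have ho : orderOf (g⁻¹ * t * g) = 2 := by
    have := orderOf_conj g⁻¹ t
    rw [inv_inv] at this
    rw [this, ht]
  obtain ⟨k, hk⟩ := pair_conj_all P.p₁ P.p₂ P.ne P.cardT P.cit hz hz1 h' (mul_self_eq_one_of_orderOf ho)
    (fun e => by rw [e, orderOf_one] at ho; omega)
  refine ⟨g * k, ?_⟩
  rw [show g * k * z * (g * k)⁻¹ = g * (k * z * k⁻¹) * g⁻¹ by group, hk]
  group

theorem card_cent {t : G} (ht : orderOf t = 2) : Nat.card (centralizer ({t} : Set G)) = 64 := by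
  obtain ⟨z, hz, hz1⟩ := P.exists_L
  obtain ⟨k, rfl⟩ := P.exists_conj hz hz1 ht
  have h : centralizer ({k * z * k⁻¹} : Set G) = cj k T := by
    rw [← P.cent_eq hz hz1]
    ext x
    rw [mem_cj, mem_centralizer_singleton_iff, mem_centralizer_singleton_iff]
    constructor
    · intro e
      calc k⁻¹ * x * k * z = k⁻¹ * (x * (k * z * k⁻¹)) * k := by group
        _ = k⁻¹ * (k * z * k⁻¹ * x) * k := by rw [e]
        _ = _ := by group
    · intro e
      calc x * (k * z * k⁻¹) = k * (k⁻¹ * x * k * z) * k⁻¹ := by group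
        _ = k * (z * (k⁻¹ * x * k)) * k⁻¹ := by rw [e]
        _ = _ := by group
  rw [h, card_cj, P.card_T]

theorem not_conj (g : G) : cj g E₁ ≠ E₂ := by
  intro e
  have h1 : cj g T ≤ normalizer (E₂ : Set G) := by
    intro x hx
    refine mem_normalizer_of_cj ?_
    have hx' : g⁻¹ * x * g ∈ normalizer (E₁ : Set G) := P.p₁.le_normalizer (mem_cj.mp hx)
    rw [← e, cj_cj, show x * g = g * (g⁻¹ * x * g) by group, ← cj_cj, cj_eq_of_mem hx']
  obtain ⟨y, hy, hle⟩ := P.p₂.ov.syl.exists_cj (cj_two g P.p₁.ov.syl.two) h1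
  have e2 : cj g T = cj y T := Subgroup.eq_of_le_of_card_ge hle (by rw [card_cj, card_cj])
  set g' := y⁻¹ * g with hg'
  have hgT : g' ∈ normalizer (T : Set G) := mem_normalizer_of_cj (by
    rw [hg', ← cj_cj, e2, cj_cj, inv_mul_cancel, cj_one])
  have hg1 : cj g' E₁ = E₂ := by
    rw [hg', ← cj_cj, e, cj_eq_of_mem (inv_mem hy)]
  obtain ⟨h, w, -, -, -, hwo, hwT, hw1, -⟩ := pair_exists_flip P.p₁ P.p₂ P.ne P.cardT P.cit hgT
    fun h' => P.ne ((cj_eq_of_mem h').symm.trans hg1)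
  have hw2 : IsPGroup 2 ↥(zpowers w ⊔ T) := IsPGroup.to_sup_of_normal_right'
    (IsPGroup.of_card (n := 1) (by rw [Nat.card_zpowers, hwo, pow_one])) P.p₁.ov.syl.two (zpowers_le.mpr hwT)
  have := P.syl _ hw2 le_sup_right
  exact hw1 (P.p₁.le_normalizer (this ▸ mem_sup_left (mem_zpowers w)))

theorem NT_le : normalizer (T : Set G) ≤ normalizer (E₁ : Set G) := fun g hg => by
  by_contra hg1
  exact P.not_conj g (pair_swap P.p₁ P.p₂ P.ne P.cardT P.cit hg hg1).1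

theorem inf_normalizer : normalizer (E₁ : Set G) ⊓ normalizer (E₂ : Set G) = normalizer (T : Set G) := by
  refine le_antisymm (fun g hg => mem_normalizer_of_cj ?_) (le_inf P.NT_le P.symm.NT_le)
  rw [← P.sup_eq, cj, Subgroup.map_sup]
  exact congrArg₂ (· ⊔ ·) (cj_eq_of_mem hg.1) (cj_eq_of_mem hg.2)

theorem exists_three : ∃ h : G, orderOf h = 3 ∧ h ∈ normalizer (E₁ : Set G) ∧ h ∈ normalizer (T : Set G) :=
  pair_exists_three P.p₁ P.p₂ P.ne P.cardT P.cit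

theorem three_fpf {h : G} (hh : orderOf h = 3) {l : G} (hl : l ∈ E₁ ⊓ E₂) (e : h * l = l * h) : l = 1 :=
  pair_three_fpf P.p₁ P.p₂ P.ne P.cardT P.cit hh hl e

theorem card_NT : Nat.card (normalizer (T : Set G)) = 192 := by
  classical
  set N := normalizer (T : Set G) with hN
  obtain ⟨z, hz, hz1⟩ := P.exists_L
  have hd : 192 ∣ Nat.card N := by
    obtain ⟨h, hh, -, hhT⟩ := P.exists_three
    have h1 : 64 ∣ Nat.card N := P.card_T ▸ Subgroup.card_dvd_of_le Subgroup.le_normalizer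
    have h2 : 3 ∣ Nat.card N := by
      rw [← hh, ← Subgroup.orderOf_mk h hhT]
      exact orderOf_dvd_natCard _
    exact Nat.Coprime.mul_dvd_of_dvd_of_dvd (by norm_num : Nat.Coprime 64 3) h1 h2
  refine le_antisymm ?_ (Nat.le_of_dvd Nat.card_pos hd)
  have hc := card_le_conj_mul N z (k := 64) (by
    rw [← P.card_T]
    exact Subgroup.card_le_of_le (inf_le_right.trans (P.cent_eq hz hz1).le))
  set R := Set.range fun g : N => (g : G) * z * (g : G)⁻¹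
  have hsub : R ⊆ ((E₁ ⊓ E₂ : Subgroup G) : Set G) \ {1} := by
    rintro _ ⟨g, rfl⟩
    have hg : (g : G) ∈ normalizer (E₁ : Set G) ⊓ normalizer (E₂ : Set G) := P.inf_normalizer ▸ g.2
    refine ⟨⟨(Subgroup.mem_normalizer_iff.mp hg.1 z).mp hz.1, (Subgroup.mem_normalizer_iff.mp hg.2 z).mp hz.2⟩,
      fun e => hz1 (conj_eq_one_iff.mp (Set.mem_singleton_iff.mp e))⟩
  have h3 := Set.ncard_le_ncard hsub (Set.toFinite _)
  rw [Set.ncard_sdiff_singleton_of_mem (E₁ ⊓ E₂).one_mem, ← Nat.card_coe_set_eq R,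
    ← Nat.card_coe_set_eq ((E₁ ⊓ E₂ : Subgroup G) : Set G)] at h3
  have h4 : Nat.card ↥((E₁ ⊓ E₂ : Subgroup G) : Set G) = 4 := P.card_L
  omega

theorem eq_of_le_T {g : G} (h : cj g E₁ ≤ T) : cj g E₁ = E₁ := by
  have hsq : ∀ x ∈ cj g E₁, x * x = 1 := fun x hx => by
    obtain ⟨y, hy, rfl⟩ := hx
    rw [← map_mul, P.p₁.sq y hy, map_one]
  rcases le_or_le_of_forall (fun x hx => P.mem_or (h hx) (hsq x hx)) with h' | h'
  · exact Subgroup.eq_of_le_of_card_ge h' (card_cj g E₁).ge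
  · exact absurd (Subgroup.eq_of_le_of_card_ge h' (by rw [card_cj, P.card_E, P.symm.card_E])) (P.not_conj g)

theorem eq_of_le_cj {g k : G} (h : cj g E₁ ≤ cj k T) : cj g E₁ = cj k E₁ := by
  have h1 := cj_le_cj (g := k⁻¹) h
  rw [cj_cj, cj_cj, inv_mul_cancel, cj_one] at h1
  have h2 := congrArg (cj k) (P.eq_of_le_T h1)
  rwa [cj_cj, mul_inv_cancel_left] at h2

theorem comm_cj {g : G} {x y : G} (hx : x ∈ cj g E₁) (hy : y ∈ cj g E₁) : x * y = y * x := by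
  obtain ⟨a, ha, rfl⟩ := hx
  obtain ⟨b, hb, rfl⟩ := hy
  rw [← map_mul, ← map_mul, P.p₁.comm ha hb]

/-- Conjugates of a piece intersect trivially. -/
theorem point_unique {g g' t : G} (h : t ∈ cj g E₁) (h' : t ∈ cj g' E₁) (ht : t ≠ 1) : cj g E₁ = cj g' E₁ := by
  have ho : orderOf t = 2 := orderOf_eq_two_iff'.mpr ⟨by
    obtain ⟨y, hy, rfl⟩ := h
    rw [← map_mul, P.p₁.sq y hy, map_one], ht⟩
  obtain ⟨k, hk⟩ := P.exists_le_cj (P.cit t ho)
  exact (P.eq_of_le_cj fun x hx => hk (mem_centralizer_singleton_iff.mpr (P.comm_cj hx h))).trans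
    (P.eq_of_le_cj fun x hx => hk (mem_centralizer_singleton_iff.mpr (P.comm_cj hx h'))).symm

/-- An involution normalising a point lies in a line through it. -/
theorem exists_line {g t : G} (ht : orderOf t = 2) (htN : t ∈ normalizer (cj g E₁ : Set G)) :
    ∃ k : G, cj k E₁ = cj g E₁ ∧ t ∈ cj k E₂ := by
  obtain ⟨z, hz, hz1⟩ := P.exists_L
  obtain ⟨k, rfl⟩ := P.exists_conj hz hz1 ht
  have hk1 : k * z * k⁻¹ ∈ cj k E₁ := ⟨z, hz.1, rfl⟩
  have hk2 : k * z * k⁻¹ ∈ cj k E₂ := ⟨z, hz.2, rfl⟩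
  obtain ⟨y, hy, hle⟩ := (P.p₁.ov.syl.cj g).exists_cj (R := zpowers (k * z * k⁻¹))
    (IsPGroup.of_card (n := 1) (by rw [Nat.card_zpowers, ht, pow_one]))
    (zpowers_le.mpr (by rw [cj_normalizer]; exact htN))
  rw [cj_normalizer] at hy
  have ey : cj (y * g) E₁ = cj g E₁ := by rw [← cj_cj, cj_eq_of_mem hy]
  have hm : k * z * k⁻¹ ∈ cj (y * g) T := by rw [← cj_cj]; exact hle (mem_zpowers _)
  have h2 : ((y * g)⁻¹ * (k * z * k⁻¹) * (y * g)) * ((y * g)⁻¹ * (k * z * k⁻¹) * (y * g)) = 1 := by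
    rw [show (y * g)⁻¹ * (k * z * k⁻¹) * (y * g) * ((y * g)⁻¹ * (k * z * k⁻¹) * (y * g)) =
      (y * g)⁻¹ * k * (z * z) * k⁻¹ * (y * g) by group, P.p₁.sq z hz.1]
    group
  rcases P.mem_or (mem_cj.mp hm) h2 with h | h
  · refine ⟨k, ?_, hk2⟩
    rw [← ey]
    exact P.point_unique hk1 (mem_cj.mpr h) fun e => by rw [e, orderOf_one] at ht; omega
  · exact ⟨y * g, ey, mem_cj.mpr h⟩

end Pair4

end CfsgLib.CIT
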