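import Cfsg.Agent.Lib.CIT.L34Base
import Cfsg.Agent.Lib.SL2Orders
import Cfsg.Agent.Lib.SteinerPlane.M21

/-!
The incidence geometry of the conjugates of the two pieces.
-/

set_option autoImplicit false
set_option linter.unusedSectionVars false
set_option linter.style.haveILetI false

namespace CfsgLib.CIT

open Subgroup Cfsg
open CfsgLib.Involutions (orderOf_eq_two_iff')

universe u

variable {G : Type u} [Group G]

/-- Points are cosets of the first normaliser, lines cosets of the second. -/
def Inc {E₁ E₂ : Subgroup G} (x : G ⧸ normalizer (E₁ : Set G)) (y : G ⧸ normalizer (E₂ : Set G)) : Prop :=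
  ∃ g : G, QuotientGroup.mk g = x ∧ QuotientGroup.mk g = y

theorem cj_eq_iff {E : Subgroup G} {g k : G} :
    cj g E = cj k E ↔ (QuotientGroup.mk g : G ⧸ normalizer (E : Set G)) = QuotientGroup.mk k := by
  rw [QuotientGroup.eq]
  constructor
  · intro e
    exact mem_normalizer_of_cj (by rw [← cj_cj, ← e, cj_cj, inv_mul_cancel, cj_one])
  · intro h
    have := congrArg (cj g) (cj_eq_of_mem h)
    rw [cj_cj, mul_inv_cancel_left] at this
    exact this.symm

variable {E₁ E₂ : Subgroup G}

theorem inc_smul (g : G) {x : G ⧸ normalizer (E₁ : Set G)} {y : G ⧸ normalizer (E₂ : Set G)} (h : Inc x y) :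
    Inc (g • x) (g • y) := by
  obtain ⟨k, rfl, rfl⟩ := h
  exact ⟨g * k, rfl, rfl⟩

theorem inc_smul_iff (g : G) {x : G ⧸ normalizer (E₁ : Set G)} {y : G ⧸ normalizer (E₂ : Set G)} :
    Inc (g • x) (g • y) ↔ Inc x y :=
  ⟨fun h => by simpa using inc_smul g⁻¹ h, inc_smul g⟩

/-- The number of lines at a point. -/
theorem card_inc [Finite G] (g : G) :
    Nat.card {y : G ⧸ normalizer (E₂ : Set G) // Inc (QuotientGroup.mk g : G ⧸ normalizer (E₁ : Set G)) y} =
      Nat.card (normalizer (E₁ : Set G)) /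
        Nat.card ↥(normalizer (E₁ : Set G) ⊓ normalizer (E₂ : Set G)) := by
  classical
  set N₁ := normalizer (E₁ : Set G)
  set N₂ := normalizer (E₂ : Set G)
  haveI := Fintype.ofFinite G
  let e : (N₁ ⧸ N₂.subgroupOf N₁) ≃ {y : G ⧸ N₂ // Inc (QuotientGroup.mk g : G ⧸ N₁) y} := Equiv.ofBijective
    (fun q => Quotient.liftOn' q (fun m => ⟨QuotientGroup.mk (g * (m : G)), g * (m : G), by
        rw [QuotientGroup.eq, mul_inv_rev, mul_assoc, inv_mul_cancel, mul_one]
        exact N₁.inv_mem m.2, rfl⟩) fun a b h => Subtype.ext (by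
          rw [QuotientGroup.leftRel_apply, Subgroup.mem_subgroupOf] at h
          show QuotientGroup.mk (g * (a : G)) = QuotientGroup.mk (g * (b : G))
          rw [QuotientGroup.eq, mul_inv_rev, mul_assoc, inv_mul_cancel_left]
          exact h))
    ⟨fun a b => by
      induction a using QuotientGroup.induction_on with | _ a => ?_
      induction b using QuotientGroup.induction_on with | _ b => ?_
      intro h
      have h' : (QuotientGroup.mk (g * (a : G)) : G ⧸ N₂) = QuotientGroup.mk (g * (b : G)) := congrArg Subtype.val h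
      rw [QuotientGroup.eq, mul_inv_rev, mul_assoc, inv_mul_cancel_left] at h'
      exact QuotientGroup.eq.mpr h',
    fun ⟨y, k, hx, hy⟩ => ⟨QuotientGroup.mk ⟨g⁻¹ * k, QuotientGroup.eq.mp hx.symm⟩, Subtype.ext (by
      show QuotientGroup.mk (g * (g⁻¹ * k)) = y
      rw [mul_inv_cancel_left, hy])⟩⟩
  rw [← Nat.card_congr e]
  have h := (N₂.subgroupOf N₁).card_mul_index
  have h1 : Nat.card (N₂.subgroupOf N₁) = Nat.card ↥(N₁ ⊓ N₂) := by
    rw [← Subgroup.inf_subgroupOf_left N₂ N₁]
    exact Nat.card_congr (Subgroup.subgroupOfEquivOfLe inf_le_left).toEquiv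
  rw [h1] at h
  rw [← h, Nat.mul_div_cancel_left _ Nat.card_pos]
  rfl

namespace Pair4

variable [Finite G] {T : Subgroup G} (P : Pair4 T E₁ E₂)

include P

theorem card_lines (x : G ⧸ normalizer (E₁ : Set G)) :
    Nat.card {y : G ⧸ normalizer (E₂ : Set G) // Inc x y} = 5 := by
  induction x using QuotientGroup.induction_on with | _ g => ?_
  rw [card_inc, P.p₁.card_normalizer, P.inf_normalizer, P.card_NT]

theorem card_points (y : G ⧸ normalizer (E₂ : Set G)) :
    Nat.card {x : G ⧸ normalizer (E₁ : Set G) // Inc x y} = 5 := by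
  rw [← P.symm.card_lines y]
  exact Nat.card_congr (Equiv.subtypeEquivRight fun x =>
    ⟨fun ⟨g, a, b⟩ => ⟨g, b, a⟩, fun ⟨g, a, b⟩ => ⟨g, b, a⟩⟩)

/-- Two points lie on at most one common line. -/
theorem line_unique {x x' : G ⧸ normalizer (E₁ : Set G)} {y y' : G ⧸ normalizer (E₂ : Set G)} (hx : x ≠ x')
    (h1 : Inc x y) (h2 : Inc x y') (h3 : Inc x' y) (h4 : Inc x' y') : y = y' := by
  obtain ⟨g, rfl, rfl⟩ := h1
  obtain ⟨m, hm1, rfl⟩ := h2
  obtain ⟨a, rfl, ha⟩ := h3
  obtain ⟨b, hb1, hb2⟩ := h4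
  rw [← cj_eq_iff] at hm1 ha hb1 hb2
  have hgT : ∀ k : G, cj k E₂ ≤ cj k T := fun k => cj_le_cj P.p₂.le
  by_contra hne
  rw [← cj_eq_iff] at hne
  set X := cj a E₁ with hX
  have hL : ∀ k l : G, cj l E₁ = X → cj l E₂ = cj k E₂ → ∀ t ∈ cj k E₂, t ∈ normalizer (X : Set G) := by
    intro k l e1 e2 t ht
    rw [← e1, ← cj_normalizer]
    exact cj_le_cj P.p₁.le_normalizer (hgT l (e2 ▸ ht))
  set W₁ := cj g (E₁ ⊓ E₂) with hW1
  set W₂ := cj m (E₁ ⊓ E₂) with hW2
  have hdis : W₁ ⊓ W₂ = ⊥ := by
    rw [Subgroup.eq_bot_iff_forall]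
    intro t ht
    by_contra h1
    exact hne (P.symm.point_unique (cj_le_cj inf_le_right ht.1) (cj_le_cj inf_le_right ht.2) h1)
  have hW1X : W₁ ≤ cj g E₁ ⊓ normalizer (X : Set G) := le_inf (cj_le_cj inf_le_left) fun t ht =>
    hL g a rfl ha t (cj_le_cj inf_le_right ht)
  have hW2X : W₂ ≤ cj g E₁ ⊓ normalizer (X : Set G) := le_inf (hm1 ▸ cj_le_cj inf_le_left) fun t ht =>
    hL m b hb1 hb2 t (cj_le_cj inf_le_right ht)
  have h16 : 16 ≤ Nat.card ↥(cj g E₁ ⊓ normalizer (X : Set G)) := by
    have : Nat.card (W₁ × W₂) = 16 := by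
      rw [Nat.card_prod, hW1, hW2, card_cj, card_cj, P.card_L]
    rw [← this]
    exact Nat.card_le_card_of_injective (fun p => (⟨(p.1 : G) * p.2, mul_mem (hW1X p.1.2) (hW2X p.2.2)⟩ :
      ↥(cj g E₁ ⊓ normalizer (X : Set G)))) fun p q e =>
        (Subgroup.mul_injective_of_disjoint (disjoint_iff.mpr hdis)) (congrArg Subtype.val e)
  have hle : cj g E₁ ≤ normalizer (X : Set G) := by
    have := Subgroup.eq_of_le_of_card_ge (inf_le_left : cj g E₁ ⊓ normalizer (X : Set G) ≤ cj g E₁)
      (by rw [card_cj, P.card_E]; exact h16)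
    exact this ▸ inf_le_right
  obtain ⟨w, hw, hwle⟩ := (P.p₁.ov.syl.cj a).exists_cj (cj_two g P.p₁.two) (by rw [cj_normalizer]; exact hle)
  rw [cj_normalizer] at hw
  rw [cj_cj] at hwle
  have e := P.eq_of_le_cj hwle
  rw [← cj_cj, cj_eq_of_mem hw] at e
  exact hx (cj_eq_iff.mp e)

/-- An involution fixing two points fixes their common line. -/
theorem collinear {g g' t : G} (ht : orderOf t = 2) (h : t ∈ normalizer (cj g E₁ : Set G))
    (h' : t ∈ normalizer (cj g' E₁ : Set G)) :
    ∃ y, Inc (QuotientGroup.mk g : G ⧸ normalizer (E₁ : Set G)) (y : G ⧸ normalizer (E₂ : Set G)) ∧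
      Inc (QuotientGroup.mk g' : G ⧸ normalizer (E₁ : Set G)) y := by
  obtain ⟨k, hk, hkt⟩ := P.exists_line ht h
  obtain ⟨k', hk', hkt'⟩ := P.exists_line ht h'
  have e := P.symm.point_unique hkt hkt' fun e => by rw [e, orderOf_one] at ht; omega
  exact ⟨QuotientGroup.mk k, ⟨k, cj_eq_iff.mp hk, rfl⟩, ⟨k', cj_eq_iff.mp hk', (cj_eq_iff.mp e).symm⟩⟩

omit P in
/-- A group of order fifteen has an element of order fifteen. -/
theorem exists_orderOf_fifteen {H : Type*} [Group H] [Finite H] (h : Nat.card H = 15) :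
    ∃ x : H, orderOf x = 15 := by
  haveI : Fact (Nat.Prime 3) := ⟨Nat.prime_three⟩
  haveI : Fact (Nat.Prime 5) := ⟨Nat.prime_five⟩
  have huniq : ∀ (p q : ℕ), p.Prime → p * q = 15 → ¬ p ∣ q → (∀ r, r ∣ q → r % p = 1 → r = 1) →
      ∀ S : Sylow p H, (S : Subgroup H).Normal ∧ Nat.card S = p := by
    intro p q hp hpq hnd hr S
    haveI := Fact.mk hp
    have hS : Nat.card S = p := by
      rw [S.card_eq_multiplicity, h, ← hpq, Nat.factorization_mul hp.ne_zero (by rintro rfl; simp at hpq),
        Finsupp.add_apply, hp.factorization_self, Nat.factorization_eq_zero_of_not_dvd hnd, pow_one]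
    refine ⟨?_, hS⟩
    have hi : (S : Subgroup H).index = q := by
      have := (S : Subgroup H).card_mul_index
      rw [h, hS] at this
      exact Nat.eq_of_mul_eq_mul_left hp.pos (this.trans hpq.symm)
    have h1 : Nat.card (Sylow p H) = 1 := hr _ (hi ▸ Sylow.card_dvd_index S) (by
      have := card_sylow_modEq_one p H
      rwa [Nat.ModEq, Nat.one_mod_eq_one.mpr hp.ne_one] at this)
    haveI : Subsingleton (Sylow p H) := (Nat.card_eq_one_iff_unique.mp h1).1
    exact Sylow.normal_of_subsingleton S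
  obtain ⟨n3, c3⟩ := huniq 3 5 Nat.prime_three (by norm_num) (by norm_num) (fun r hr hm => by
    have := Nat.le_of_dvd (by norm_num) hr
    interval_cases r <;> omega) default
  obtain ⟨n5, c5⟩ := huniq 5 3 Nat.prime_five (by norm_num) (by norm_num) (fun r hr hm => by
    have := Nat.le_of_dvd (by norm_num) hr
    interval_cases r <;> omega) default
  set A : Subgroup H := ((default : Sylow 3 H) : Subgroup H)
  set B : Subgroup H := ((default : Sylow 5 H) : Subgroup H)
  obtain ⟨a, ha⟩ := exists_prime_orderOf_dvd_card' (G := A) 3 (dvd_of_eq c3.symm)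
  obtain ⟨b, hb⟩ := exists_prime_orderOf_dvd_card' (G := B) 5 (dvd_of_eq c5.symm)
  have hd : Disjoint A B := disjoint_iff.mpr (Subgroup.inf_eq_bot_of_coprime (by rw [c3, c5]; norm_num))
  refine ⟨(a : H) * b, ?_⟩
  rw [(Subgroup.commute_of_normal_of_disjoint A B n3 n5 hd a b a.2 b.2).orderOf_mul_eq_mul_orderOf_of_coprime
    (by rw [Subgroup.orderOf_coe, Subgroup.orderOf_coe, ha, hb]; norm_num), Subgroup.orderOf_coe,
    Subgroup.orderOf_coe, ha, hb]

theorem no_fifteen {x : G} (hx : x ∈ normalizer (E₁ : Set G)) : orderOf x ≠ 15 := by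
  intro ho
  obtain ⟨F, iF, iFt, iC, hF, f, -, hk, -⟩ := P.p₁.exists_model one_le_two
  have hnot : ∀ k : ℕ, ¬ 15 ∣ k → f ⟨x, hx⟩ ^ k ≠ 1 := by
    intro k hk15 e
    rw [← map_pow] at e
    have hm : x ^ k ∈ E₁ := (hk _).mp e
    have hodd : Odd (orderOf (x ^ k)) := Odd.of_dvd_nat (by rw [ho]; decide) (orderOf_pow_dvd k)
    have h1 := eq_one_of_mem_two_group P.p₁.two hm hodd
    exact hk15 (ho ▸ orderOf_dvd_of_pow_eq_one h1)
  rcases SL2Orders.pow_cases_char_two (f ⟨x, hx⟩) with h | h | h <;>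
    exact hnot _ (by rw [hF] at *; norm_num) h

theorem card_points_total : 960 * (normalizer (E₁ : Set G)).index = Nat.card G := by
  rw [← (normalizer (E₁ : Set G)).card_mul_index, P.p₁.card_normalizer]

/-- The points collinear with the base point. -/
theorem card_near : Nat.card {x : G ⧸ normalizer (E₁ : Set G) //
    ∃ y : G ⧸ normalizer (E₂ : Set G), Inc (QuotientGroup.mk 1 : G ⧸ normalizer (E₁ : Set G)) y ∧ Inc x y} = 21 := by
  classical
  haveI := Fintype.ofFinite G
  set p : G ⧸ normalizer (E₁ : Set G) := QuotientGroup.mk 1 with hp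
  set Ly := Finset.univ.filter fun y : G ⧸ normalizer (E₂ : Set G) => Inc p y
  set pts : G ⧸ normalizer (E₂ : Set G) → Finset (G ⧸ normalizer (E₁ : Set G)) := fun y =>
    (Finset.univ.filter fun x => Inc x y).erase p
  have hLy : Ly.card = 5 := by
    rw [← P.card_lines p, Nat.card_eq_fintype_card, Fintype.card_subtype]
  have hpts : ∀ y ∈ Ly, (pts y).card = 4 := fun y hy => by
    show ((Finset.univ.filter fun x => Inc x y).erase p).card = 4
    rw [Finset.card_erase_of_mem (Finset.mem_filter.mpr ⟨Finset.mem_univ p, (Finset.mem_filter.mp hy).2⟩),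
      ← Fintype.card_subtype, ← Nat.card_eq_fintype_card, P.card_points y]
  have hset : (Finset.univ.filter fun x => ∃ y : G ⧸ normalizer (E₂ : Set G), Inc p y ∧ Inc x y) =
      insert p (Ly.biUnion pts) := by
    ext x
    simp only [Finset.mem_filter, Finset.mem_univ, true_and, Finset.mem_insert, Finset.mem_biUnion, pts, Ly,
      Finset.mem_erase]
    constructor
    · rintro ⟨y, h1, h2⟩
      by_cases hx : x = p
      · exact Or.inl hx
      · exact Or.inr ⟨y, h1, hx, h2⟩
    · rintro (rfl | ⟨y, h1, -, h2⟩)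
      · exact ⟨QuotientGroup.mk 1, ⟨1, rfl, rfl⟩, 1, rfl, rfl⟩
      · exact ⟨y, h1, h2⟩
  rw [Nat.card_eq_fintype_card, Fintype.card_subtype, hset, Finset.card_insert_of_notMem (by simp [pts]),
    Finset.card_biUnion, Finset.sum_congr rfl hpts, Finset.sum_const, hLy]
  · rfl
  · intro y hy y' hy' hne
    rw [Function.onFun, Finset.disjoint_left]
    intro x hx hx'
    simp only [pts, Finset.mem_erase, Finset.mem_filter, Finset.mem_univ, true_and] at hx hx'
    exact hne (P.line_unique (Ne.symm hx.1) (Finset.mem_filter.mp hy).2 (Finset.mem_filter.mp hy').2 hx.2 hx'.2)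

/-- Either all points are collinear with the base point, or there are many points. -/
theorem far_cases : (normalizer (E₁ : Set G)).index = 21 ∨ (normalizer (E₁ : Set G)).index = 213 ∨
    341 ≤ (normalizer (E₁ : Set G)).index := by
  classical
  haveI := Fintype.ofFinite G
  set N := normalizer (E₁ : Set G) with hN
  set p : G ⧸ N := QuotientGroup.mk 1 with hp
  let near : (G ⧸ N) → Prop := fun x => ∃ y : G ⧸ normalizer (E₂ : Set G), Inc p y ∧ Inc x y
  have hn : Fintype.card (G ⧸ N) = N.index := by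
    rw [← Nat.card_eq_fintype_card]; rfl
  set Far := Finset.univ.filter fun x : G ⧸ N => ¬ near x with hFar
  have hsplit : N.index = 21 + Far.card := by
    rw [← hn, ← Finset.card_univ, ← Finset.card_filter_add_card_filter_not (p := near), hFar]
    congr 1
    rw [← Fintype.card_subtype, ← Nat.card_eq_fintype_card]
    exact P.card_near
  have horb : ∀ x ∈ Far, (MulAction.orbit N x).toFinset ⊆ Far ∧ ((MulAction.orbit N x).toFinset.card = 960 ∨
      (MulAction.orbit N x).toFinset.card = 320 ∨ (MulAction.orbit N x).toFinset.card = 192) := by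
    intro x hx
    refine ⟨?_, ?_⟩
    · intro w hw
      obtain ⟨n, rfl⟩ := Set.mem_toFinset.mp hw
      refine Finset.mem_filter.mpr ⟨Finset.mem_univ _, ?_⟩
      rintro ⟨y, h1, h2⟩
      refine (Finset.mem_filter.mp hx).2 ⟨((n : G))⁻¹ • y, ?_, ?_⟩
      · have := inc_smul (n : G)⁻¹ h1
        rwa [show (n : G)⁻¹ • p = p from QuotientGroup.eq.mpr (by simp [hN, hp])] at this
      · have := inc_smul (n : G)⁻¹ h2
        rwa [show (fun m : N => m • x) n = (n : G) • x from rfl, inv_smul_smul] at this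
    · induction x using QuotientGroup.induction_on with | _ g => ?_
      set S := MulAction.stabilizer N (QuotientGroup.mk g : G ⧸ N) with hS
      have hos : (MulAction.orbit N (QuotientGroup.mk g : G ⧸ N)).toFinset.card * Nat.card S = 960 := by
        rw [Set.toFinset_card, ← P.p₁.card_normalizer, ← hN, ← Nat.card_eq_fintype_card,
          Nat.card_congr (MulAction.orbitEquivQuotientStabilizer N (QuotientGroup.mk g : G ⧸ N)), mul_comm]
        exact S.card_mul_index
      have hodd : ¬ 2 ∣ Nat.card S := by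
        intro h2
        haveI : Fact (Nat.Prime 2) := ⟨Nat.prime_two⟩
        obtain ⟨t, ht⟩ := exists_prime_orderOf_dvd_card' 2 h2
        have ht' : orderOf (((t : N) : G)) = 2 := by rw [Subgroup.orderOf_coe, Subgroup.orderOf_coe, ht]
        obtain ⟨y, h1, h2⟩ := P.collinear (g := 1) (g' := g) ht' (by rw [cj_one]; exact (t : N).2)
          (mem_normalizer_of_cj (by
            rw [cj_cj, cj_eq_iff]
            exact MulAction.mem_stabilizer_iff.mp t.2))
        exact (Finset.mem_filter.mp hx).2 ⟨y, h1, h2⟩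
      have h15 : Nat.card S ≠ 15 := fun h => by
        obtain ⟨s, hs⟩ := exists_orderOf_fifteen h
        exact P.no_fifteen (s : N).2 (by rw [Subgroup.orderOf_coe, Subgroup.orderOf_coe, hs])
      have hd : Nat.card S ∣ 15 := by
        have h1 : Nat.card S ∣ 2 ^ 6 * 15 := Dvd.intro_left _ (hos.trans (by norm_num))
        exact ((Nat.prime_two.coprime_iff_not_dvd.mpr hodd).symm.pow_right 6).dvd_of_dvd_mul_left h1
      have := Nat.le_of_dvd (by norm_num) hd
      interval_cases hc : Nat.card S <;> simp at hd h15 <;> omega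
  rcases Finset.eq_empty_or_nonempty Far with h0 | ⟨x, hx⟩
  · left; rw [hsplit, h0, Finset.card_empty]
  obtain ⟨hO, hOc⟩ := horb x hx
  have hle := Finset.card_le_card hO
  by_cases heq : Far ⊆ (MulAction.orbit N x).toFinset
  · have := Finset.card_le_card heq
    omega
  · obtain ⟨x', hx', hx'O⟩ := Finset.not_subset.mp heq
    obtain ⟨hO', hOc'⟩ := horb x' hx'
    have hdis : Disjoint (MulAction.orbit N x).toFinset (MulAction.orbit N x').toFinset := by
      rw [Finset.disjoint_left]
      intro w hw hw'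
      refine hx'O (Set.mem_toFinset.mpr ?_)
      rw [← MulAction.orbit_eq_iff.mpr (Set.mem_toFinset.mp hw), MulAction.orbit_eq_iff.mpr (Set.mem_toFinset.mp hw')]
      exact MulAction.mem_orbit_self x'
    have := Finset.card_le_card (Finset.union_subset hO hO')
    rw [Finset.card_union_of_disjoint hdis] at this
    omega

end Pair4

end CfsgLib.CIT
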