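import Cfsg.Agent.Lib.CIT.L34
import Cfsg.Agent.Lib.CIT.Config

/-!
The classification of simple groups in which involution centralisers are 2-groups.
-/

set_option autoImplicit false
set_option linter.unusedSectionVars false
set_option linter.style.haveILetI false

namespace CfsgLib.CIT

open Subgroup Cfsg

universe u

theorem outcome_of_step {G : Type u} [Group G] [Finite G] [IsSimpleGroup G] (hna : ∃ a b : G, a * b ≠ b * a)
    (hG : IsCIT G) (hIH : Below.{u} (Nat.card G)) : Outcome G := by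
  have hna' : ¬ IsMulCommutative G := fun h => by
    obtain ⟨a, b, hab⟩ := hna
    exact hab (h.is_comm.comm a b)
  rcases ti_or_config hG hIH le_rfl with hTI | ⟨T, E₁, E₂, n, hn, -, hT, hne, h₁, h₂⟩
  · exact Or.inl ⟨hTI, ti_case hna hG hTI⟩
  · have hn2 := q_le_four h₁ h₂ hne hT hG hn
    interval_cases n
    · exact Or.inr (Or.inl (config_two hna' hG h₁ hT))
    · exact Or.inr (Or.inr (Pair4.l34 ⟨h₁, h₂, hne, hT, hG, pair_sylow h₁ h₂ hne hT hna' hG⟩))

theorem below_all (m : ℕ) : Below.{u} m := by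
  induction m with
  | zero => exact fun H _ _ _ h => absurd h (Nat.not_lt_zero _)
  | succ m ih =>
    intro H _ _ _ hlt hna hC
    rcases Nat.lt_succ_iff_lt_or_eq.mp hlt with h | h
    · exact ih H h hna hC
    · exact outcome_of_step hna hC (h.symm ▸ ih)

/-- A finite non-abelian simple group in which involution centralisers are 2-groups. -/
theorem classification {G : Type u} [Group G] [Finite G] [IsSimpleGroup G] (hna : ∃ a b : G, a * b ≠ b * a)
    (hG : IsCIT G) : Outcome G :=
  outcome_of_step hna hG (below_all _)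

/-- The classification as a list of groups. -/
theorem classification_list {G : Type u} [Group G] [Finite G] [IsSimpleGroup G] (hna : ∃ a b : G, a * b ≠ b * a)
    (hG : IsCIT G) :
    (∃ (F : Type) (_ : Field F) (_ : Fintype F),
        (Fintype.card F = 9 ∨ (∃ n : ℕ, Fintype.card F = 2 ^ n) ∨
          ((Fintype.card F).Prime ∧ ∃ k : ℕ, Fintype.card F = 2 ^ k + 1 ∨ Fintype.card F + 1 = 2 ^ k)) ∧
        Nonempty (G ≃* Matrix.ProjectiveSpecialLinearGroup (Fin 2) F)) ∨
    (∃ (F : Type) (_ : Field F) (_ : Fintype F), Fintype.card F = 4 ∧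
        Nonempty (G ≃* Matrix.ProjectiveSpecialLinearGroup (Fin 3) F)) ∨
    Cfsg.IsSuzuki G := by
  rcases classification hna hG with ⟨-, h | h⟩ | h | h
  · obtain ⟨F, iF, iFt, n, -, hn, he⟩ := h
    exact Or.inl ⟨F, iF, iFt, Or.inr (Or.inl ⟨n, hn⟩), he⟩
  · exact Or.inr (Or.inr h.isSuzuki)
  · obtain ⟨F, iF, iFt, hc, he⟩ := h
    rcases hc with hc | ⟨-, hp, hk⟩
    · exact Or.inl ⟨F, iF, iFt, Or.inl hc, he⟩
    · exact Or.inl ⟨F, iF, iFt, Or.inr (Or.inr ⟨hp, hk⟩), he⟩
  · exact Or.inr (Or.inl h)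

end CfsgLib.CIT
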