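import Cfsg.Agent.Lib.CIT.Basic
import Cfsg.Agent.Lib.CIT.Module
import Cfsg.Agent.Lib.ZJ.Complement

/-!
A group in which involution centralisers are 2-groups, modulo a non-trivial 2-core: the quotient and its
representation on the elementary part of the centre of the core.
-/

set_option autoImplicit false
set_option linter.unusedSectionVars false

namespace CfsgLib.CIT

open Subgroup Cfsg

universe u

variable {X : Type u} [Group X] [Finite X]

/-- The quotient by the 2-core. -/
abbrev Qt (X : Type u) [Group X] : Type u := X ⧸ pCore 2 X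

/-- The projection. -/
abbrev qk : X →* Qt X := QuotientGroup.mk' (pCore 2 X)

theorem qk_eq_one {x : X} : qk x = 1 ↔ x ∈ pCore 2 X := QuotientGroup.eq_one_iff x

theorem core_two : IsPGroup 2 (pCore 2 X) := CfsgLib.isPGroup_pCore 2

theorem pCore_qt : pCore 2 (Qt X) = ⊥ := by
  haveI : Fact (Nat.Prime 2) := ⟨Nat.prime_two⟩
  exact CfsgLib.ZJ.pCore_quotient_pCore_eq_bot

/-- An element of odd order lifts to an element of odd order. -/
theorem exists_odd_lift (q : Qt X) (hq : Odd (orderOf q)) : ∃ x : X, Odd (orderOf x) ∧ qk x = q := by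
  obtain ⟨x₀, hx₀⟩ := QuotientGroup.mk'_surjective (pCore 2 X) q
  obtain ⟨a, m, hm, ha⟩ : ∃ a m : ℕ, Odd m ∧ orderOf x₀ = 2 ^ a * m := by
    obtain ⟨a, m, hm, e⟩ := Nat.exists_eq_two_pow_mul_odd (orderOf_pos x₀).ne'
    exact ⟨a, m, hm, e⟩
  have hcop : (2 ^ a).Coprime (orderOf q) := Nat.Coprime.pow_left a (Nat.coprime_two_left.mpr hq)
  obtain ⟨e, he⟩ := exists_pow_eq_self_of_coprime (x := q) hcop
  refine ⟨(x₀ ^ 2 ^ a) ^ e, hm.of_dvd_nat ?_, ?_⟩
  · refine orderOf_dvd_of_pow_eq_one ?_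
    rw [← pow_mul, ← pow_mul, mul_comm e m, ← mul_assoc, pow_mul, ← ha, pow_orderOf_eq_one, one_pow]
  · rw [map_pow, map_pow]
    exact (congrArg (fun z => (z ^ 2 ^ a) ^ e) hx₀).trans he

namespace IsCIT

theorem quot (h : IsCIT X) : IsCIT (Qt X) := by
  haveI : Fact (Nat.Prime 2) := ⟨Nat.prime_two⟩
  intro q hq
  refine (IsPGroup.iff_orderOf).mpr fun y => ?_
  by_contra hy
  obtain ⟨p, hp, hp2, hpd⟩ : ∃ p, p.Prime ∧ p ≠ 2 ∧ p ∣ orderOf y := by
    by_contra hh
    push Not at hh
    exact hy ⟨_, Nat.eq_prime_pow_of_unique_prime_dvd (orderOf_pos _).ne'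
      fun {r} hr hrd => by_contra fun hr2 => hh r hr hr2 hrd⟩
  have hyp : orderOf (((y ^ (orderOf y / p) : Subgroup.centralizer ({q} : Set (Qt X))) : Qt X)) = p := by
    rw [Subgroup.orderOf_coe, orderOf_pow_orderOf_div (orderOf_pos _).ne' hpd]
  set z : Qt X := ((y ^ (orderOf y / p) : Subgroup.centralizer ({q} : Set (Qt X))) : Qt X)
  have hzq : z * q = q * z := mem_centralizer_singleton_iff.mp (y ^ (orderOf y / p)).2
  obtain ⟨x, hx, hxz⟩ := exists_odd_lift z (hyp ▸ hp.odd_of_ne_two hp2)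
  obtain ⟨t, rfl⟩ := QuotientGroup.mk'_surjective (pCore 2 X) q
  have ht1 : qk t ≠ 1 := fun e => by rw [e, orderOf_one] at hq; omega
  have : x = 1 := by
    refine h.fpf_mod core_two hx ?_ ?_ (fun hh => ht1 (qk_eq_one.mpr hh)) (k := 1) ?_ ?_
    · rw [normalizer_eq_top_iff.mpr inferInstance]; exact mem_top x
    · rw [normalizer_eq_top_iff.mpr inferInstance]; exact mem_top t
    · rw [← qk_eq_one, map_pow, pow_one]
      have h2 := pow_orderOf_eq_one (qk t)
      rw [hq] at h2
      exact h2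
    · rw [← qk_eq_one, map_mul, map_mul, map_mul, map_inv, map_inv, hxz, ← hzq]
      group
  rw [this, map_one] at hxz
  exact hp.ne_one (by rw [← hyp, ← hxz, orderOf_one])

theorem centralizer_core (h : IsCIT X) (hD : pCore 2 X ≠ ⊥) :
    centralizer (pCore 2 X : Set X) ≤ pCore 2 X :=
  CfsgLib.le_pCore (h.centralizer_subgroup_two core_two hD)

/-- An element inverted modulo the 2-core by an involution is inverted by a lifted involution. -/
theorem exists_inv_lift (h : IsCIT X) {q : Qt X} {k : X} {p : ℕ} (hp : p.Prime) (hp2 : p ≠ 2) (hk : orderOf k = p)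
    (hq : orderOf q = 2) (hinv : q * qk k * q⁻¹ = (qk k)⁻¹) :
    ∃ t : X, orderOf t = 2 ∧ qk t = q ∧ t * k * t⁻¹ = k⁻¹ := by
  obtain ⟨t, rfl⟩ := QuotientGroup.mk'_surjective (pCore 2 X) q
  have hq1 : qk t ≠ 1 := fun e => by rw [e, orderOf_one] at hq; omega
  have hnT : normalizer (pCore 2 X : Set X) = ⊤ := normalizer_eq_top_iff.mpr inferInstance
  obtain ⟨d, hd, ho, he⟩ := h.exists_lift core_two hp hp2 hk (hnT ▸ mem_top k) (hnT ▸ mem_top t)
    (fun hh => hq1 (qk_eq_one.mpr hh))
    (by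
      rw [← qk_eq_one, map_mul, ← sq]
      have h2 := pow_orderOf_eq_one (qk t)
      rw [hq] at h2
      exact h2)
    (by rw [← qk_eq_one, map_mul, map_mul, map_mul, map_inv, hinv, inv_mul_cancel])
  exact ⟨d * t, ho, by rw [map_mul, qk_eq_one.mpr hd, one_mul], he⟩

end IsCIT

variable (X) in
/-- The elements of order at most two of the centre of the 2-core. -/
def Vc : Subgroup X where
  carrier := {z | z ∈ pCore 2 X ∧ (∀ d ∈ pCore 2 X, d * z = z * d) ∧ z * z = 1}
  one_mem' := ⟨one_mem _, fun d _ => by simp, by simp⟩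
  mul_mem' {a b} ha hb := ⟨mul_mem ha.1 hb.1, fun d hd => by
      rw [← mul_assoc, ha.2.1 d hd, mul_assoc, hb.2.1 d hd, mul_assoc],
    by rw [show a * b * (a * b) = a * (b * a) * b by group, hb.2.1 a ha.1 |>.symm,
      show a * (a * b) * b = (a * a) * (b * b) by group, ha.2.2, hb.2.2, one_mul]⟩
  inv_mem' {a} ha := by
    rw [inv_eq_of_mul_eq_one_right ha.2.2]
    exact ha

theorem mem_Vc {z : X} : z ∈ Vc X ↔ z ∈ pCore 2 X ∧ (∀ d ∈ pCore 2 X, d * z = z * d) ∧ z * z = 1 := Iff.rfl

theorem Vc_le : Vc X ≤ pCore 2 X := fun _ h => h.1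

instance Vc_normal : (Vc X).Normal := ⟨fun z hz g => by
  have hn := (inferInstance : (pCore 2 X).Normal)
  refine ⟨hn.conj_mem z hz.1 g, fun d hd => ?_, ?_⟩
  · have h1 := hz.2.1 _ (hn.conj_mem d hd g⁻¹)
    calc d * (g * z * g⁻¹) = g * (g⁻¹ * d * g⁻¹⁻¹ * z) * g⁻¹ := by group
      _ = g * (z * (g⁻¹ * d * g⁻¹⁻¹)) * g⁻¹ := by rw [h1]
      _ = _ := by group
  · rw [show g * z * g⁻¹ * (g * z * g⁻¹) = g * (z * z) * g⁻¹ by group, hz.2.2]; group⟩

theorem Vc_comm (a b : Vc X) : a * b = b * a := Subtype.ext (b.2.2.1 (a : X) a.2.1)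

instance Vc_commGroup : CommGroup (Vc X) := { (inferInstance : Group (Vc X)) with mul_comm := Vc_comm }

theorem Vc_ne_bot (hD : pCore 2 X ≠ ⊥) : Vc X ≠ ⊥ := by
  haveI : Fact (Nat.Prime 2) := ⟨Nat.prime_two⟩
  haveI : Nontrivial (pCore 2 X) := (Subgroup.nontrivial_iff_ne_bot _).mpr hD
  haveI := (core_two (X := X)).center_nontrivial
  obtain ⟨w, hw, hwo⟩ := exists_orderOf_two_mem
    (((core_two (X := X)).to_subgroup (center (pCore 2 X))).map (pCore 2 X).subtype)
    (by
      rw [ne_eq, Subgroup.map_eq_bot_iff_of_injective _ (Subgroup.subtype_injective _)]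
      exact (Subgroup.nontrivial_iff_ne_bot _).mp inferInstance)
  obtain ⟨z, hz, rfl⟩ := hw
  intro e
  have : (z : X) ∈ Vc X := ⟨z.2, fun d hd => congrArg Subtype.val (mem_center_iff.mp hz ⟨d, hd⟩),
    Involutions.mul_self_eq_one_of_orderOf hwo⟩
  rw [e, mem_bot] at this
  have h2 : orderOf ((pCore 2 X).subtype z) = 2 := hwo
  rw [show (pCore 2 X).subtype z = 1 from this, orderOf_one] at h2
  omega

/-- Conjugation on `Vc`. -/
def conjHom : X →* AddMonoid.End (Additive (Vc X)) where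
  toFun g :=
    { toFun := fun a => Additive.ofMul ⟨g * (a.toMul : X) * g⁻¹, Vc_normal.conj_mem _ a.toMul.2 g⟩
      map_zero' := by
        apply Additive.toMul.injective
        exact Subtype.ext (by simp)
      map_add' := fun a b => by
        apply Additive.toMul.injective
        exact Subtype.ext (by simp [mul_assoc]) }
  map_one' := AddMonoidHom.ext fun a => Additive.toMul.injective (Subtype.ext (by
    show (1 : X) * (a.toMul : X) * (1 : X)⁻¹ = (a.toMul : X)
    simp))
  map_mul' g h := AddMonoidHom.ext fun a => Additive.toMul.injective (Subtype.ext (by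
    show g * h * (a.toMul : X) * (g * h)⁻¹ = g * (h * (a.toMul : X) * h⁻¹) * g⁻¹
    group))

theorem conjHom_apply (g : X) (a : Additive (Vc X)) :
    (((conjHom g a).toMul : Vc X) : X) = g * (a.toMul : X) * g⁻¹ := rfl

theorem core_le_ker : pCore 2 X ≤ (conjHom (X := X)).ker := fun d hd => AddMonoidHom.ext fun a =>
  Additive.toMul.injective (Subtype.ext (by
    show d * (a.toMul : X) * d⁻¹ = (a.toMul : X)
    rw [a.toMul.2.2.1 d hd, mul_inv_cancel_right]))

/-- The representation of the quotient by the 2-core on `Vc`. -/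
def qRep : Qt X →* AddMonoid.End (Additive (Vc X)) := QuotientGroup.lift (pCore 2 X) conjHom core_le_ker

theorem qRep_apply (g : X) (a : Additive (Vc X)) :
    ((((qRep (qk g)) a).toMul : Vc X) : X) = g * (a.toMul : X) * g⁻¹ := rfl

theorem qRep_fixed_iff (g : X) (a : Additive (Vc X)) : qRep (qk g) a = a ↔ g * (a.toMul : X) = (a.toMul : X) * g := by
  constructor
  · intro h
    have := congrArg (fun b : Additive (Vc X) => ((b.toMul : Vc X) : X)) h
    exact mul_inv_eq_iff_eq_mul.mp this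
  · intro h
    apply Additive.toMul.injective
    refine Subtype.ext ?_
    rw [qRep_apply, h, mul_inv_cancel_right]

/-- The module. -/
def qMod (h : IsCIT X) : FpfMod (Qt X) (Additive (Vc X)) where
  ρ := qRep
  two a := Additive.toMul.injective (Subtype.ext a.toMul.2.2.2)
  fpf q hq hodd a ha := by
    obtain ⟨x, hx, rfl⟩ := exists_odd_lift q hodd
    rw [qRep_fixed_iff] at ha
    have := h.fpf_mem core_two hx (fun e => hq (by rw [e, map_one])) a.toMul.2.1 ha
    exact Additive.toMul.injective (Subtype.ext this)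

theorem qMod_nontrivial (hD : pCore 2 X ≠ ⊥) : Nontrivial (Additive (Vc X)) := by
  haveI := (Subgroup.nontrivial_iff_ne_bot (Vc X)).mpr (Vc_ne_bot hD)
  exact Additive.toMul.nontrivial

theorem qRep_injective (h : IsCIT X) (hD : pCore 2 X ≠ ⊥) : Function.Injective (qRep (X := X)) := by
  rw [← MonoidHom.ker_eq_bot_iff, eq_bot_iff]
  intro q hq
  obtain ⟨g, rfl⟩ := QuotientGroup.mk'_surjective (pCore 2 X) q
  have hmem : g ∈ centralizer (Vc X : Set X) := fun v hv => by
    have := (qRep_fixed_iff g (Additive.ofMul ⟨v, hv⟩)).mp (by rw [MonoidHom.mem_ker.mp hq]; rfl)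
    exact this.symm
  haveI : (centralizer (Vc X : Set X)).Normal := Subgroup.normal_centralizer
  rw [mem_bot, qk_eq_one]
  exact CfsgLib.le_pCore (h.centralizer_subgroup_two (core_two.to_le Vc_le) (Vc_ne_bot hD)) hmem

theorem card_Vc : Nat.card (Additive (Vc X)) = Nat.card (Vc X) := Nat.card_congr Additive.toMul

end CfsgLib.CIT
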