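import Cfsg.Agent.Lib.CIT.Failure
import Cfsg.Agent.Lib.Elementary
import Cfsg.Agent.S2808

/-!
A Sylow 2-subgroup either has a characteristic subgroup normal in every overgroup with non-trivial 2-core, or
all these overgroups are extensions of an elementary group of order `q ^ 2` by `PSL₂(q)`.
-/

set_option autoImplicit false
set_option linter.unusedSectionVars false
set_option linter.style.haveILetI false

namespace CfsgLib.CIT

open Subgroup Cfsg
open CfsgLib.Involutions (mul_self_eq_one_of_orderOf)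

universe u

/-- An elementary 2-core of order `q ^ 2` with quotient `PSL₂(q)`. -/
def Shape (X : Type u) [Group X] : Prop :=
  ∃ (F : Type) (_ : Field F) (_ : Fintype F) (n : ℕ), 1 ≤ n ∧ Fintype.card F = 2 ^ n ∧
    Nonempty (Qt X ≃* Matrix.ProjectiveSpecialLinearGroup (Fin 2) F) ∧
    (∀ x ∈ pCore 2 X, x * x = 1) ∧ Nat.card (pCore 2 X) = (2 ^ n) ^ 2

/-- The order of `PSL₂` in characteristic two. -/
theorem card_psl_two {Q : Type u} [Group Q] {F : Type} [Field F] [Fintype F] [CharP F 2] {n : ℕ}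
    (e : Q ≃* Matrix.ProjectiveSpecialLinearGroup (Fin 2) F) (hF : Fintype.card F = 2 ^ n) :
    Nat.card Q = 2 ^ n * ((2 ^ n) ^ 2 - 1) := by
  classical
  rw [Nat.card_congr (e.trans CfsgLib.PrimeGraphExt.pslEquiv).toEquiv, CfsgLib.SLCard.card_SL_two, hF]

theorem card_sylow_psl_two {Q : Type u} [Group Q] [Finite Q] {F : Type} [Field F] [Fintype F] [CharP F 2] {n : ℕ}
    (e : Q ≃* Matrix.ProjectiveSpecialLinearGroup (Fin 2) F) (hn : 1 ≤ n) (hF : Fintype.card F = 2 ^ n)
    (R : Sylow 2 Q) : Nat.card R = 2 ^ n := by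
  haveI : Fact (Nat.Prime 2) := ⟨Nat.prime_two⟩
  have h1 : 1 ≤ (2 ^ n) ^ 2 := Nat.one_le_pow _ _ (by positivity)
  have h2 : ¬ 2 ∣ (2 ^ n) ^ 2 - 1 := fun h2 => by
    have : 2 ∣ (2 ^ n) ^ 2 := dvd_pow (dvd_pow_self 2 (by omega)) two_ne_zero
    omega
  rw [Sylow.card_eq_multiplicity, card_psl_two e hF,
    Nat.factorization_mul (by positivity) (fun e0 => h2 (by rw [e0]; exact dvd_zero _)),
    Finsupp.add_apply, Nat.factorization_eq_zero_of_not_dvd h2, Nat.prime_two.factorization_pow,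
    Finsupp.single_eq_same, add_zero]

/-- The order of a Sylow 2-subgroup in the elementary shape. -/
theorem Shape.card_sylow {Y : Type u} [Group Y] [Finite Y] (h : Shape Y) (P : Sylow 2 Y) :
    ∃ n, 1 ≤ n ∧ Nat.card P = (2 ^ n) ^ 3 ∧ Nat.card (pCore 2 Y) = (2 ^ n) ^ 2 := by
  haveI : Fact (Nat.Prime 2) := ⟨Nat.prime_two⟩
  obtain ⟨F, iF, iFt, n, hn, hF, ⟨e⟩, -, hc⟩ := h
  haveI : CharP F 2 := charP_of_card_eq_prime_pow (f := n) hF
  refine ⟨n, hn, ?_, hc⟩
  have h1 := card_sylow_psl_two e hn hF (P.mapSurjective (f := (qk : Y →* Qt Y)) (QuotientGroup.mk'_surjective _))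
  have h2 := card_map_mul_card_inf_ker (qk : Y →* Qt Y) (P : Subgroup Y)
  rw [QuotientGroup.ker_mk', inf_eq_right.mpr core_le_sylow, hc] at h2
  have h3 : Nat.card ((P : Subgroup Y).map (qk : Y →* Qt Y)) = 2 ^ n := h1
  rw [h3] at h2
  rw [← h2]
  ring

variable {S : Type u} [Group S] [Finite S] {X : Type u} [Group X] [Finite X]

/-- `S` is a non-normal Sylow 2-subgroup of a group of the kind studied here with non-trivial 2-core. -/
structure Over (τ : S →* X) : Prop where
  inj : Function.Injective τ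
  syl : ∃ P : Sylow 2 X, (P : Subgroup X) = τ.range
  cit : IsCIT X
  core : pCore 2 X ≠ ⊥
  nn : ¬ τ.range.Normal

/-- The centre of the Thompson subgroup. -/
abbrev zjS (S : Type u) [Group S] : Subgroup S :=
  thompsonSubgroupA S ⊓ centralizer (thompsonSubgroupA S : Set S)

/-- The second invariant. -/
abbrev s0S (S : Type u) [Group S] : Subgroup S :=
  ⁅frattini S, (⊤ : Subgroup S)⁆ ⊔ (frattini ↥(frattini S)).map (frattini S).subtype

theorem exists_maxAbelian (S : Type u) [Group S] [Finite S] :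
    ∃ A : Subgroup S, A ∈ maxAbelianSubgroups S := by
  classical
  haveI : Nonempty {A : Subgroup S // IsMulCommutative A} := ⟨⟨⊥, ⟨⟨fun a b => Subsingleton.elim _ _⟩⟩⟩⟩
  obtain ⟨⟨A, hA⟩, hmax⟩ := Finite.exists_max (α := {A : Subgroup S // IsMulCommutative A})
    (fun A => Nat.card A.1)
  exact ⟨A, hA, fun B hB => hmax ⟨B, hB⟩⟩

theorem center_le_max {A : Subgroup S} (hA : A ∈ maxAbelianSubgroups S) : center S ≤ A := by
  have hc : IsMulCommutative (A ⊔ center S : Subgroup S) := by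
    refine ⟨⟨fun a b => Subtype.ext ?_⟩⟩
    have h : (A ⊔ center S : Subgroup S) ≤ centralizer ((A ⊔ center S : Subgroup S) : Set S) := by
      refine sup_le (le_centralizer_iff.mp (sup_le ?_ ?_)) (le_centralizer_iff.mp (sup_le ?_ ?_))
      · exact fun x hx y hy => congrArg Subtype.val (hA.1.is_comm.comm ⟨y, hy⟩ ⟨x, hx⟩)
      · exact fun x hx y _ => mem_center_iff.mp hx y
      · exact fun x _ y hy => (mem_center_iff.mp hy x).symm
      · exact fun x hx y _ => mem_center_iff.mp hx y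
    exact h b.2 a a.2
  have := Subgroup.eq_of_le_of_card_ge (le_sup_left : A ≤ A ⊔ center S) (hA.2 _ hc)
  exact this ▸ le_sup_right

theorem maxAb_map {τ : S →* X} (hτ : Function.Injective τ) {A : Subgroup S} (hA : A ∈ maxAbelianSubgroups S) :
    MaxAb τ.range (A.map τ) := by
  refine ⟨Subgroup.map_le_range τ A, ?_, fun B hB hcomm => ?_⟩
  · rintro _ ⟨a, ha, rfl⟩ _ ⟨b, hb, rfl⟩
    rw [← map_mul, ← map_mul, show a * b = b * a from congrArg Subtype.val (hA.1.is_comm.comm ⟨a, ha⟩ ⟨b, hb⟩)]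
  · have hc : IsMulCommutative (B.comap τ) := ⟨⟨fun a b => Subtype.ext (hτ (by
      simpa only [Subgroup.coe_mul, map_mul] using hcomm _ a.2 _ b.2))⟩⟩
    have := hA.2 _ hc
    rwa [← Subgroup.card_map_of_injective hτ, Subgroup.map_comap_eq, inf_eq_right.mpr hB,
      ← Subgroup.card_map_of_injective (K := A) hτ] at this

namespace Over

variable {τ : S →* X} (h : Over τ)

include h

theorem core_le : pCore 2 X ≤ τ.range := by
  obtain ⟨P, hP⟩ := h.syl
  exact hP ▸ core_le_sylow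

theorem not_le_core : ¬ τ.range ≤ pCore 2 X := fun hle =>
  h.nn (le_antisymm hle h.core_le ▸ inferInstance)

theorem two_range : IsPGroup 2 τ.range := by
  obtain ⟨P, hP⟩ := h.syl
  exact hP ▸ P.2

theorem two : IsPGroup 2 S := h.two_range.of_injective τ.rangeRestrict fun _ _ e => h.inj (congrArg Subtype.val e)

theorem nontrivial : Nontrivial S := by
  by_contra hh
  rw [not_nontrivial_iff_subsingleton] at hh
  refine h.not_le_core ?_
  rintro _ ⟨s, rfl⟩
  rw [Subsingleton.elim s 1, map_one]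
  exact one_mem _

/-- A normal subgroup below the range with a centraliser containing the range is trivial. -/
theorem central_bot {C : Subgroup S} (hn : (C.map τ).Normal) (hle : C ≤ center S) : C = ⊥ := by
  by_contra hC
  haveI := hn
  haveI : (centralizer ((C.map τ : Subgroup X) : Set X)).Normal := Subgroup.normal_centralizer
  refine h.not_le_core (le_trans ?_ (CfsgLib.le_pCore (h.cit.centralizer_subgroup_two (h.two_range.to_le
    (Subgroup.map_le_range τ C)) fun e => hC ((Subgroup.map_eq_bot_iff_of_injective _ h.inj).mp e))))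
  rintro _ ⟨s, rfl⟩ _ ⟨c, hc, rfl⟩
  rw [← map_mul, ← map_mul, mem_center_iff.mp (hle hc) s]

theorem zj_ne_bot : zjS S ≠ ⊥ := by
  haveI := h.nontrivial
  haveI : Fact (Nat.Prime 2) := ⟨Nat.prime_two⟩
  obtain ⟨A, hA⟩ := exists_maxAbelian S
  haveI := h.two.center_nontrivial
  intro e
  refine (Subgroup.nontrivial_iff_ne_bot (center S)).mp inferInstance (le_bot_iff.mp (e ▸ ?_))
  exact le_inf ((center_le_max hA).trans (le_sSup hA)) fun z hz x _ => mem_center_iff.mp hz x

section Below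

variable (hall : ∀ A ∈ maxAbelianSubgroups S, A.map τ ≤ pCore 2 X)

include hall

theorem j_le : (thompsonSubgroupA S).map τ ≤ pCore 2 X := by
  rw [Subgroup.map_le_iff_le_comap]
  exact sSup_le fun A hA => Subgroup.map_le_iff_le_comap.mp (hall A hA)

theorem j_normal : ((thompsonSubgroupA S).map τ).Normal := by
  refine ⟨fun x hx g => ?_⟩
  have hle : (thompsonSubgroupA S).map τ ≤ ((thompsonSubgroupA S).map τ).comap (MulAut.conj g).toMonoidHom := by
    rw [Subgroup.map_le_iff_le_comap]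
    refine sSup_le fun A hA => ?_
    rw [← Subgroup.map_le_iff_le_comap, ← Subgroup.map_le_iff_le_comap]
    set B := (A.map τ).map (MulAut.conj g).toMonoidHom with hB
    have hBr : B ≤ τ.range := by
      refine le_trans ?_ h.core_le
      rintro _ ⟨y, hy, rfl⟩
      exact (inferInstance : (pCore 2 X).Normal).conj_mem y (hall A hA hy) g
    have hmem : B.comap τ ∈ maxAbelianSubgroups S := by
      refine ⟨⟨⟨fun a b => Subtype.ext (h.inj ?_)⟩⟩, fun C hC => (hA.2 C hC).trans (le_of_eq ?_)⟩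
      · obtain ⟨a', ha', ea⟩ := a.2
        obtain ⟨b', hb', eb⟩ := b.2
        rw [Subgroup.coe_mul, Subgroup.coe_mul, map_mul, map_mul, ← ea, ← eb, ← map_mul, ← map_mul,
          (maxAb_map h.inj hA).2.1 a' ha' b' hb']
      · rw [← Subgroup.card_map_of_injective (K := B.comap τ) h.inj, Subgroup.map_comap_eq, inf_eq_right.mpr hBr,
          hB, Subgroup.card_map_of_injective (MulEquiv.injective _), Subgroup.card_map_of_injective h.inj]
    calc B = (B.comap τ).map τ := by rw [Subgroup.map_comap_eq, inf_eq_right.mpr hBr]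
      _ ≤ _ := Subgroup.map_mono (le_sSup hmem)
  exact hle hx

theorem zj_normal : ((zjS S).map τ).Normal := by
  haveI := j_normal h hall
  have e : (zjS S).map τ =
      (thompsonSubgroupA S).map τ ⊓ centralizer (((thompsonSubgroupA S).map τ : Subgroup X) : Set X) := by
    ext x
    constructor
    · rintro ⟨z, ⟨hz, hzc⟩, rfl⟩
      refine ⟨⟨z, hz, rfl⟩, ?_⟩
      rintro _ ⟨y, hy, rfl⟩
      rw [← map_mul, ← map_mul, hzc y hy]
    · rintro ⟨⟨z, hz, rfl⟩, hzc⟩
      exact ⟨z, ⟨hz, fun y hy => h.inj (by rw [map_mul, map_mul]; exact hzc _ ⟨y, hy, rfl⟩)⟩, rfl⟩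
  rw [e]
  haveI : (centralizer (((thompsonSubgroupA S).map τ : Subgroup X) : Set X)).Normal := Subgroup.normal_centralizer
  infer_instance

theorem centralizer_zj_le : centralizer (((zjS S).map τ : Subgroup X) : Set X) ≤ pCore 2 X := by
  haveI := zj_normal h hall
  haveI : (centralizer (((zjS S).map τ : Subgroup X) : Set X)).Normal := Subgroup.normal_centralizer
  exact CfsgLib.le_pCore (h.cit.centralizer_subgroup_two (h.two_range.to_le (Subgroup.map_le_range τ _))
    fun e => h.zj_ne_bot ((Subgroup.map_eq_bot_iff_of_injective _ h.inj).mp e))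

theorem not_zj_central : ¬ zjS S ≤ center S := fun hc =>
  h.zj_ne_bot (h.central_bot (zj_normal h hall) hc)

theorem s2_normal {C₂ : Subgroup S} (hle : C₂ ≤ centralizer (zjS S : Set S))
    (hchar : (C₂.subgroupOf (centralizer (zjS S : Set S))).Characteristic) : (C₂.map τ).Normal := by
  haveI := zj_normal h hall
  set K := centralizer (((zjS S).map τ : Subgroup X) : Set X) with hK
  haveI : K.Normal := Subgroup.normal_centralizer
  have hKeq : K = (centralizer (zjS S : Set S)).map τ := by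
    ext x
    constructor
    · intro hx
      obtain ⟨s, rfl⟩ := (centralizer_zj_le h hall).trans h.core_le hx
      exact ⟨s, fun y hy => h.inj (by rw [map_mul, map_mul]; exact hx _ ⟨y, hy, rfl⟩), rfl⟩
    · rintro ⟨s, hs, rfl⟩ _ ⟨y, hy, rfl⟩
      rw [← map_mul, ← map_mul, hs y hy]
  let e : centralizer (zjS S : Set S) ≃* K :=
    ((centralizer (zjS S : Set S)).equivMapOfInjective τ h.inj).trans (MulEquiv.subgroupCongr hKeq.symm)
  have he : ∀ y, ((e y : K) : X) = τ (y : S) := fun _ => rfl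
  refine ⟨?_⟩
  rintro _ ⟨c, hc, rfl⟩ g
  let φ := (e.trans (MulAut.conjNormal (H := K) g)).trans e.symm
  have h1 : φ ⟨c, hle hc⟩ ∈ C₂.subgroupOf (centralizer (zjS S : Set S)) := by
    rw [← (Subgroup.characteristic_iff_map_eq.mp hchar) φ]
    exact ⟨_, Subgroup.mem_subgroupOf.mpr hc, rfl⟩
  refine ⟨_, Subgroup.mem_subgroupOf.mp h1, ?_⟩
  rw [← he, show e (φ ⟨c, hle hc⟩) = MulAut.conjNormal (H := K) g (e ⟨c, hle hc⟩) from e.apply_symm_apply _,
    MulAut.conjNormal_apply, he]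

end Below

/-- Where the hypothesis of the pair theorem fails: the elementary shape. -/
theorem shape {m : ℕ} (hIH : Below.{u} m) (hm : Nat.card X ≤ m) (hzj : ⁅zjS S, (⊤ : Subgroup S)⁆ = ⊥)
    (hfr : ⁅frattini S, (⊤ : Subgroup S)⁆ = ⊥) : Shape X := by
  haveI : Fact (Nat.Prime 2) := ⟨Nat.prime_two⟩
  classical
  have hc : zjS S ≤ center S := by
    rw [Subgroup.commutator_eq_bot_iff_le_centralizer] at hzj
    exact fun z hz => mem_center_iff.mpr fun g => hzj hz g (mem_top g)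
  have hfc : frattini S ≤ center S := by
    rw [Subgroup.commutator_eq_bot_iff_le_centralizer] at hfr
    exact fun z hz => mem_center_iff.mpr fun g => hfr hz g (mem_top g)
  obtain ⟨A, hA, hAD⟩ : ∃ A ∈ maxAbelianSubgroups S, ¬ A.map τ ≤ pCore 2 X := by
    by_contra hh
    push Not at hh
    exact not_zj_central h hh hc
  obtain ⟨P, hP⟩ := h.syl
  have hM : MaxAb (P : Subgroup X) (A.map τ) := hP.symm ▸ maxAb_map h.inj hA
  obtain ⟨F, iF, iFt, n, hn, hF, ⟨e⟩⟩ := exists_psl hM h.cit h.core hIH hm hAD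
  haveI : CharP F 2 := charP_of_card_eq_prime_pow (f := n) hF
  have hcardQ := card_psl_two e hF
  have hsyl := card_sylow_psl_two e hn hF
  have hsq : ∀ x ∈ pCore 2 X, x * x = 1 := by
    intro x hx
    by_contra hne
    set W : Set X := {y | ∃ d ∈ pCore 2 X, y = d * d} with hW
    obtain ⟨j, hj⟩ := core_two (X := X) ⟨x * x, mul_mem hx hx⟩
    have hnorm : (centralizer W).Normal := ⟨fun c hc' g => by
      rintro _ ⟨d, hd, rfl⟩
      have := hc' _ ⟨g⁻¹ * d * g⁻¹⁻¹, (inferInstance : (pCore 2 X).Normal).conj_mem d hd g⁻¹, rfl⟩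
      calc d * d * (g * c * g⁻¹) = g * (g⁻¹ * d * g⁻¹⁻¹ * (g⁻¹ * d * g⁻¹⁻¹) * c) * g⁻¹ := by group
        _ = g * (c * (g⁻¹ * d * g⁻¹⁻¹ * (g⁻¹ * d * g⁻¹⁻¹))) * g⁻¹ := by rw [this]
        _ = _ := by group⟩
    haveI := hnorm
    have hW2 : IsPGroup 2 (centralizer W) := (h.cit.centralizer_two hne
      (k := j) (congrArg Subtype.val hj)).to_le fun c hc' => mem_centralizer_singleton_iff.mpr
        (mem_centralizer_iff.mp hc' _ ⟨x, hx, rfl⟩).symm
    refine h.not_le_core (le_trans ?_ (CfsgLib.le_pCore hW2))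
    rintro _ ⟨s, rfl⟩ _ ⟨d, hd, rfl⟩
    obtain ⟨d', rfl⟩ := h.core_le hd
    rw [← map_mul, ← map_mul, ← map_mul]
    exact congrArg τ ((mem_center_iff.mp (hfc (by rw [← sq]; exact CfsgLib.pow_mem_frattini_pGroup h.two d')) s).symm)
  have hVD : Vc X = pCore 2 X := le_antisymm Vc_le fun x hx => ⟨hx, fun d hd => by
    have h1 := hsq _ (mul_mem hd hx)
    calc d * x = (d * x)⁻¹ := (inv_eq_of_mul_eq_one_right h1).symm
      _ = _ := by rw [mul_inv_rev, inv_eq_of_mul_eq_one_right (hsq x hx), inv_eq_of_mul_eq_one_right (hsq d hd)], hsq x hx⟩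
  haveI := qMod_nontrivial h.core
  obtain ⟨d, hd⟩ := (qMod h.cit).exists_card_eq_two_pow
  have hd0 : 0 < d := by
    rcases Nat.eq_zero_or_pos d with rfl | h0
    · exact absurd hd (by have := Finite.one_lt_card (α := Additive (Vc X)); simp; omega)
    · exact h0
  have hdv : 2 ^ n + 1 ∣ 2 ^ d - 1 := by
    rw [← hd]
    refine (qMod h.cit).dvd_card_sub_one' (Even.add_one (Nat.even_pow.mpr ⟨even_two, by omega⟩)) ?_
    rw [hcardQ, show (2 ^ n) ^ 2 - 1 = (2 ^ n + 1) * (2 ^ n - 1) from by rw [← Nat.sq_sub_sq, one_pow]]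
    exact dvd_mul_of_dvd_right (dvd_mul_right _ _) _
  have h4 := Nat.le_of_dvd hd0 (two_mul_dvd_of_pow_succ_dvd hn hdv)
  have h5 := card_Vc_le_sq hM h.cit hAD
  have h6 := card_map_le_sylow hM (P.mapSurjective (f := (qk : X →* Qt X)) (QuotientGroup.mk'_surjective _))
  rw [hsyl] at h6
  rw [← card_Vc, hd] at h5
  have h7 : 2 ^ d ≤ 2 ^ (n * 2) := by
    rw [pow_mul]
    exact h5.trans (Nat.pow_le_pow_left h6 2)
  have h8 := (Nat.pow_le_pow_iff_right (by norm_num : 1 < 2)).mp h7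
  refine ⟨F, iF, iFt, n, hn, hF, ⟨e⟩, hsq, ?_⟩
  rw [← hVD, ← card_Vc, hd, ← pow_mul]
  congr 1
  omega

end Over

/-- The dichotomy. -/
theorem dichotomy (S : Type u) [Group S] [Finite S] (hS : IsPGroup 2 S) {m : ℕ} (hIH : Below.{u} m) :
    (∃ C : Subgroup S, C ≠ ⊥ ∧ C.Characteristic ∧ ∀ (X : Type u) [Group X] [Finite X] (τ : S →* X),
      Over τ → Nat.card X ≤ m → (C.map τ).Normal) ∨
    ∀ (X : Type u) [Group X] [Finite X] (τ : S →* X), Over τ → Nat.card X ≤ m → Shape X := by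
  haveI : Fact (Nat.Prime 2) := ⟨Nat.prime_two⟩
  by_cases hcond : ⁅zjS S, (⊤ : Subgroup S)⁆ ≠ ⊥ ∨ s0S S ≠ ⊥
  swap
  · push Not at hcond
    right
    intro X _ _ τ hτ hm
    exact hτ.shape hIH hm hcond.1 (le_bot_iff.mp (le_sup_left.trans hcond.2.le))
  left
  obtain ⟨S₁, S₂, h₁, h₂, -, c₂, hle₁, hle₂, hchar₂, hall⟩ :=
    Cfsg.Agent.S2808.result hS (s0S S) (by rw [if_pos rfl]) hcond
  refine ⟨S₂, h₂, c₂, fun X _ _ τ hτ hm => ?_⟩
  by_cases hb : ∀ A ∈ maxAbelianSubgroups S, A.map τ ≤ pCore 2 X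
  · exact Over.s2_normal hτ hb hle₂ hchar₂
  push Not at hb
  obtain ⟨A, hA, hAD⟩ := hb
  obtain ⟨P, hP⟩ := hτ.syl
  have hM : MaxAb (P : Subgroup X) (A.map τ) := hP.symm ▸ maxAb_map hτ.inj hA
  obtain ⟨F, iF, iFt, n, hn, hF, ⟨e⟩⟩ := exists_psl hM hτ.cit hτ.core hIH hm hAD
  haveI : CharP F 2 := charP_of_card_eq_prime_pow (f := n) hF
  set f := e.toMonoidHom.comp (qk : X →* Qt X) with hf
  have hker : IsPGroup 2 f.ker := (core_two (X := X)).to_le fun x hx =>
    qk_eq_one.mp (e.map_eq_one_iff.mp (MonoidHom.mem_ker.mp hx))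
  obtain ⟨hco, huniq⟩ := CfsgLib.PSL2.sylow_overgroup_of_surjective f
    (e.surjective.comp (QuotientGroup.mk'_surjective _)) hker P
  refine (hall X τ hτ.inj ⟨P, hP⟩ (hτ.cit.centralizer_core hτ.core) ?_
    ⟨pCore 2 X, inferInstance, F, iF, iFt, n, hn, hF, ⟨e⟩⟩).resolve_left fun h1 => h₁ (hτ.central_bot h1 hle₁)
  rw [← hP]
  exact ⟨_, ⟨hco, Subgroup.le_normalizer⟩, fun M hM' => huniq M hM'.1 hM'.2⟩

end CfsgLib.CIT
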