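import Cfsg.Agent.Lib.CIT.Config
import Cfsg.Agent.Lib.SCNonCyclic.Shape
import Cfsg.Agent.Lib.PSL2Spectrum

/-!
The elementary facts on a configuration of two pieces, and the configurations with four-groups as pieces.
-/

set_option autoImplicit false
set_option linter.unusedSectionVars false
set_option linter.style.haveILetI false

namespace CfsgLib.CIT

open Subgroup Cfsg
open CfsgLib.Involutions (mul_self_eq_one_of_orderOf orderOf_eq_two_iff' inv_eq_self_of_orderOf)

universe u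

variable {G : Type u} [Group G] [Finite G]

namespace Piece

variable {T E : Subgroup G} {n : ℕ} (h : Piece T E n)

include h

theorem two : IsPGroup 2 E := h.ov.syl.two.to_le h.le

theorem le_normalizer : T ≤ normalizer (E : Set G) := h.ov.syl.le

theorem ne_bot : E ≠ ⊥ := fun e => by
  have := h.ov.core
  rw [h.core, e] at this
  exact this rfl

theorem comm {a b : G} (ha : a ∈ E) (hb : b ∈ E) : a * b = b * a := by
  calc a * b = (a * b)⁻¹ := (inv_eq_of_mul_eq_one_right (h.sq _ (mul_mem ha hb))).symm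
    _ = b * a := by
      rw [mul_inv_rev, inv_eq_of_mul_eq_one_right (h.sq b hb), inv_eq_of_mul_eq_one_right (h.sq a ha)]

theorem centralizer_le (hG : IsCIT G) : centralizer (E : Set G) ≤ E := by
  have h1 : centralizer (E : Set G) ≤ O2 (normalizer (E : Set G)) := le_O2
    (hG.centralizer_subgroup_two h.two h.ne_bot) (Subgroup.centralizer_le_normalizer _) fun g hg => by
      refine mem_normalizer_of_cj ?_
      rw [CIT.cj]
      refine le_antisymm ?_ ?_
      · rintro _ ⟨c, hc, rfl⟩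
        intro e he
        have h2 := (Subgroup.mem_normalizer_iff.mp (inv_mem hg) e).mp he
        rw [inv_inv] at h2
        show e * (g * c * g⁻¹) = g * c * g⁻¹ * e
        calc e * (g * c * g⁻¹) = g * (g⁻¹ * e * g * c) * g⁻¹ := by group
          _ = g * (c * (g⁻¹ * e * g)) * g⁻¹ := by rw [hc _ h2]
          _ = _ := by group
      · intro c hc
        refine ⟨g⁻¹ * c * g, fun e he => ?_, by simp [MulAut.conj_apply, mul_assoc]⟩
        have h2 := (Subgroup.mem_normalizer_iff.mp hg e).mp he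
        show e * (g⁻¹ * c * g) = g⁻¹ * c * g * e
        calc e * (g⁻¹ * c * g) = g⁻¹ * (g * e * g⁻¹ * c) * g := by group
          _ = g⁻¹ * (c * (g * e * g⁻¹)) * g := by rw [hc _ h2]
          _ = _ := by group
  rwa [h.core] at h1

/-- The centraliser in a piece of an element outside it is the square root. -/
theorem card_fixed (hG : IsCIT G) {x : G} (hx : x ∈ T) (hxE : x ∉ E) :
    Nat.card ↥(E ⊓ centralizer ({x} : Set G)) ≤ 2 ^ n := by
  set N := normalizer (E : Set G) with hN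
  have hxN : x ∈ N := h.le_normalizer hx
  have hcore : ∀ z, z ∈ pCore 2 N → (z : G) ∈ E := fun z hz => h.core ▸ ⟨z, hz, rfl⟩
  obtain ⟨j, hj⟩ := h.ov.syl.two ⟨x, hx⟩
  have hj' : x ^ 2 ^ j = 1 := congrArg Subtype.val hj
  set q : Qt N := qk ⟨x, hxN⟩ with hq
  have hq1 : q ≠ 1 := fun e => hxE (hcore _ (qk_eq_one.mp e))
  have hqj : q ^ 2 ^ j = 1 := by
    rw [hq, ← map_pow, show (⟨x, hxN⟩ : N) ^ 2 ^ j = 1 from Subtype.ext hj', map_one]
  obtain ⟨i, hio⟩ := exists_pow_orderOf_two hq1 hqj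
  obtain ⟨p, k, hp, hp2, hk, hinv⟩ := IsCIT.exists_inverted hio (fun hh => by
    rw [pCore_qt, mem_bot] at hh
    rw [hh, orderOf_one] at hio
    omega)
  have hQ : IsCIT N := hG.subgroup N
  set M := qMod hQ with hM
  have hfix := M.card_fix_sq (mul_self_eq_one_of_orderOf hio)
    (fun e => hp.ne_one (by rw [← hk, e, orderOf_one])) (hk ▸ hp.odd_of_ne_two hp2) hinv
  rw [card_Vc] at hfix
  have hV : Vc N = pCore 2 N := le_antisymm Vc_le fun z hz => ⟨hz,
    fun d hd => Subtype.ext (h.comm (hcore d hd) (hcore z hz)), Subtype.ext (h.sq _ (hcore z hz))⟩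
  have hcV : Nat.card (Vc N) = Nat.card (pCore 2 N) := by rw [hV]
  have hpc : Nat.card (pCore 2 N) = (2 ^ n) ^ 2 := by
    rw [← O2_subgroupOf, Nat.card_congr (Subgroup.subgroupOfEquivOfLe (O2_le N)).toEquiv, h.core, h.card]
  rw [hcV, hpc] at hfix
  have hroot := Nat.pow_left_injective (two_ne_zero) hfix
  rw [← hroot]
  refine Nat.card_le_card_of_injective (fun e => (⟨Additive.ofMul ⟨⟨(e : G), Subgroup.le_normalizer e.2.1⟩,
    hV ▸ (O2_subgroupOf N ▸ Subgroup.mem_subgroupOf.mpr (h.core.symm ▸ e.2.1))⟩, ?_⟩ : M.fix (q ^ i))) ?_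
  · rw [hq, ← map_pow]
    refine (qRep_fixed_iff (X := N) _ _).mpr (Subtype.ext ?_)
    show x ^ i * (e : G) = e * x ^ i
    exact (Commute.pow_left (show Commute x (e : G) from (mem_centralizer_singleton_iff.mp e.2.2).symm) i).eq
  · intro a b hab
    exact Subtype.ext (congrArg (fun z : M.fix (q ^ i) => (((z.1.toMul : Vc N) : N) : G)) hab)

end Piece

section Pair

variable {T E₁ E₂ : Subgroup G} {n : ℕ} (h₁ : Piece T E₁ n) (h₂ : Piece T E₂ n) (hne : E₁ ≠ E₂)
  (hT : Nat.card T = (2 ^ n) ^ 3)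

include h₁ h₂ hne

theorem not_le : ¬ E₂ ≤ E₁ := fun hle =>
  hne (Subgroup.eq_of_le_of_card_ge hle (by rw [h₁.card, h₂.card])).symm

theorem inf_le_centralizer {x : G} (hx : x ∈ E₂) :
    E₁ ⊓ E₂ ≤ E₁ ⊓ centralizer ({x} : Set G) := fun z hz =>
  ⟨hz.1, mem_centralizer_singleton_iff.mpr (h₂.comm hz.2 hx)⟩

include hT

theorem pair_card (hG : IsCIT G) :
    Nat.card ↥(E₁ ⊓ E₂) = 2 ^ n ∧ E₁ ⊔ E₂ = T ∧ ∀ x ∈ E₂, x ∉ E₁ → E₁ ⊓ centralizer ({x} : Set G) = E₁ ⊓ E₂ := by
  obtain ⟨x, hx, hx1⟩ := SetLike.not_le_iff_exists.mp (not_le h₁ h₂ hne)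
  haveI hn : (E₁.subgroupOf T).Normal := (Subgroup.normal_subgroupOf_iff_le_normalizer h₁.le).mpr h₁.le_normalizer
  have key := card_map_mul_card_inf_ker (QuotientGroup.mk' (E₁.subgroupOf T)) (E₂.subgroupOf T)
  rw [QuotientGroup.ker_mk', inf_comm] at key
  have hcard2 : Nat.card (E₂.subgroupOf T) = (2 ^ n) ^ 2 := by
    rw [Nat.card_congr (Subgroup.subgroupOfEquivOfLe h₂.le).toEquiv, h₂.card]
  have hinf : Nat.card ↥(E₁.subgroupOf T ⊓ E₂.subgroupOf T) = Nat.card ↥(E₁ ⊓ E₂) :=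
    Nat.card_congr
      { toFun := fun y => ⟨((y : T) : G), y.2.1, y.2.2⟩
        invFun := fun y => ⟨⟨(y : G), h₁.le y.2.1⟩, y.2.1, y.2.2⟩
        left_inv := fun y => rfl
        right_inv := fun y => rfl }
  have hq : Nat.card (T ⧸ E₁.subgroupOf T) = 2 ^ n := by
    have := (E₁.subgroupOf T).card_eq_card_quotient_mul_card_subgroup
    rw [hT, Nat.card_congr (Subgroup.subgroupOfEquivOfLe h₁.le).toEquiv, h₁.card, pow_succ' (2 ^ n) 2] at this
    exact (Nat.eq_of_mul_eq_mul_right (by positivity) this).symm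
  rw [hcard2, hinf] at key
  have hle : Nat.card ↥(E₁ ⊓ E₂) ≤ 2 ^ n :=
    (Subgroup.card_le_of_le (inf_le_centralizer h₁ h₂ hne hx)).trans (h₁.card_fixed hG (h₂.le hx) hx1)
  set M := (E₂.subgroupOf T).map (QuotientGroup.mk' (E₁.subgroupOf T))
  have hMle : Nat.card M ≤ 2 ^ n := hq ▸ Subgroup.card_le_card_group M
  have hge : Nat.card ↥(E₁ ⊓ E₂) = 2 ^ n := by
    refine le_antisymm hle (Nat.le_of_mul_le_mul_left ?_ (show 0 < 2 ^ n by positivity))
    rw [← sq, ← key]
    exact Nat.mul_le_mul hMle le_rfl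
  refine ⟨hge, ?_, fun y hy hy1 => (Subgroup.eq_of_le_of_card_ge (inf_le_centralizer h₁ h₂ hne hy) ?_).symm⟩
  · have hM : M = ⊤ := Subgroup.eq_top_of_card_eq _ (by
      rw [hq]
      rw [hge, sq] at key
      exact Nat.eq_of_mul_eq_mul_right (by positivity) key)
    refine le_antisymm (sup_le h₁.le h₂.le) fun t ht => ?_
    obtain ⟨e, he, hee⟩ : QuotientGroup.mk' (E₁.subgroupOf T) ⟨t, ht⟩ ∈ M := hM ▸ mem_top _
    rw [QuotientGroup.mk'_eq_mk'] at hee
    obtain ⟨z, hz, hez⟩ := hee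
    have e1 : t = (e : G) * z := congrArg Subtype.val hez.symm
    rw [e1]
    exact mul_mem (mem_sup_right (Subgroup.mem_subgroupOf.mp he)) (mem_sup_left (Subgroup.mem_subgroupOf.mp hz))
  · rw [hge]
    exact h₁.card_fixed hG (h₂.le hy) hy1

theorem pair_center (hG : IsCIT G) {z : G} (hz : z ∈ E₁ ⊓ E₂) {t : G} (ht : t ∈ T) : t * z = z * t := by
  have hle : E₁ ⊔ E₂ ≤ centralizer ({z} : Set G) := sup_le
    (fun e he => mem_centralizer_singleton_iff.mpr (h₁.comm he hz.1))
    (fun e he => mem_centralizer_singleton_iff.mpr (h₂.comm he hz.2))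
  rw [(pair_card h₁ h₂ hne hT hG).2.1] at hle
  exact mem_centralizer_singleton_iff.mp (hle ht)

theorem pair_decomp (hG : IsCIT G) {t : G} (ht : t ∈ T) : ∃ a ∈ E₁, ∃ b ∈ E₂, t = a * b := by
  have h : t ∈ ((E₁ ⊔ E₂ : Subgroup G) : Set G) := by
    rw [(pair_card h₁ h₂ hne hT hG).2.1]
    exact ht
  rw [Subgroup.coe_mul_of_right_le_normalizer_left _ _ (h₂.le.trans h₁.le_normalizer)] at h
  obtain ⟨a, ha, b, hb, e⟩ := h
  exact ⟨a, ha, b, hb, e.symm⟩

theorem pair_sq (hG : IsCIT G) {t : G} (ht : t ∈ T) (ht2 : t * t = 1) : t ∈ E₁ ∨ t ∈ E₂ := by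
  obtain ⟨a, ha, b, hb, rfl⟩ := pair_decomp h₁ h₂ hne hT hG ht
  by_cases hb1 : b ∈ E₁
  · exact Or.inl (mul_mem ha hb1)
  right
  have hab : a * b = b * a := by
    calc a * b = (a * b)⁻¹ := (inv_eq_of_mul_eq_one_right ht2).symm
      _ = b * a := by
        rw [mul_inv_rev, inv_eq_of_mul_eq_one_right (h₂.sq b hb), inv_eq_of_mul_eq_one_right (h₁.sq a ha)]
  have : a ∈ E₁ ⊓ E₂ := by
    rw [← (pair_card h₁ h₂ hne hT hG).2.2 b hb hb1]
    exact ⟨ha, mem_centralizer_singleton_iff.mpr hab⟩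
  exact mul_mem this.2 hb

theorem pair_center_eq (hG : IsCIT G) {t : G} (ht : t ∈ T) (hc : ∀ s ∈ T, s * t = t * s) : t ∈ E₁ ⊓ E₂ :=
  ⟨h₁.centralizer_le hG fun e he => hc e (h₁.le he), h₂.centralizer_le hG fun e he => hc e (h₂.le he)⟩

end Pair

/-- A self-centralising four-group in a Sylow 2-subgroup. -/
theorem psl_of_four [IsSimpleGroup G] (hna : ¬ IsMulCommutative G) (hG : IsCIT G) (S : Sylow 2 G)
    (A : Subgroup (S : Subgroup G)) (hAcard : Nat.card A = 4) (hexp : ∀ a ∈ A, a * a = 1)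
    (hAC : centralizer (A : Set (S : Subgroup G)) = A) (h8 : 8 ≤ Nat.card (S : Subgroup G)) :
    ∃ (F : Type) (_ : Field F) (_ : Fintype F), Odd (Fintype.card F) ∧
      Nonempty (G ≃* Matrix.ProjectiveSpecialLinearGroup (Fin 2) F) := by
  haveI : Fact (Nat.Prime 2) := ⟨Nat.prime_two⟩
  classical
  obtain ⟨n, hn⟩ := S.2.exists_card_eq
  have hn3 : 3 ≤ n := by
    by_contra hh
    push Not at hh
    have : 2 ^ n < 2 ^ 3 := Nat.pow_lt_pow_right (by norm_num) hh
    omega
  -- a central involution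
  haveI : Nontrivial (S : Subgroup G) := Finite.one_lt_card_iff_nontrivial.mp (by omega)
  haveI := S.2.center_nontrivial
  obtain ⟨c, hc, hco⟩ := exists_orderOf_two_mem (S.2.to_subgroup (center (S : Subgroup G)))
    ((Subgroup.nontrivial_iff_ne_bot _).mp inferInstance)
  have hC : ∀ t : G, orderOf t = 2 → t ∈ (S : Subgroup G) → (∀ y ∈ (S : Subgroup G), Commute y t) →
      centralizer ({t} : Set G) = (S : Subgroup G) := fun t ht _ htZ =>
    S.3 (hG t ht) fun y hy => mem_centralizer_singleton_iff.mpr (htZ y hy).eq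
  have htZ : ∀ y ∈ (S : Subgroup G), y * (c : G) = (c : G) * y := fun y hy =>
    congrArg Subtype.val (mem_center_iff.mp hc ⟨y, hy⟩)
  have hco' : orderOf (c : G) = 2 := by rw [Subgroup.orderOf_coe, hco]
  have hCc := hC _ hco' c.2 htZ
  have hO : ∀ O : Subgroup G,
      O = (oddCore (centralizer ({(c : G)} : Set G))).map (centralizer ({(c : G)} : Set G)).subtype → O = ⊥ := by
    intro O e
    rw [e, Subgroup.map_eq_bot_iff_of_injective _ (subtype_injective _), ← Subgroup.card_eq_one]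
    refine Nat.eq_one_of_dvd_coprimes (?_ : Nat.Coprime (Nat.card (oddCore (centralizer ({(c : G)} : Set G)))) (2 ^ n))
      dvd_rfl ?_
    · exact Nat.Coprime.pow_right _ (Nat.coprime_two_right.mpr CfsgLib.odd_card_oddCore)
    · rw [← hn]
      refine (card_subgroup_dvd_card _).trans ?_
      rw [hCc]
  have key : ∀ m : ℕ, 2 ≤ m → ((S : Subgroup G) ≃* DihedralGroup m) →
      ∃ (F : Type) (_ : Field F) (_ : Fintype F), Odd (Fintype.card F) ∧
        Nonempty (G ≃* Matrix.ProjectiveSpecialLinearGroup (Fin 2) F) := by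
    intro m hm e
    refine Cfsg.Agent.S0508.result S m hm ⟨e⟩ (c : G) hco' c.2 htZ _ rfl ?_ ?_ ?_
    · intro hne; exact absurd (hO _ rfl) hne
    · intro y hy hny
      refine absurd (mem_centralizer_iff.mpr fun w hw => ?_) hny
      rw [SetLike.mem_coe, hO _ rfl, mem_bot] at hw
      rw [hw, one_mul, mul_one]
    · intro Y hY hne
      exact absurd (eq_bot_iff.mpr (hY.trans (hO _ rfl).le)) hne
  have hclass := Cfsg.Agent.S0112.result n hn A (by rw [hAcard]; norm_num) hAC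
  have hK := (Cfsg.Agent.S0115.result n hn3 hn).mp hclass
  have hab : Nat.card (Abelianization (S : Subgroup G)) = 4 := hK.card_four
  have hexp2 : ∀ x : Abelianization (S : Subgroup G), x ^ 2 = 1 := fun x => by
    have h2' : Monoid.exponent (Abelianization (S : Subgroup G)) = 2 := hK.exponent_two
    have := Monoid.pow_exponent_eq_one x
    rwa [h2'] at this
  rcases Cfsg.Agent.S4399.result S.2 hab hexp2 with e | ⟨k, ⟨e⟩⟩ | ⟨k, hk, a, b, ha, hb, hab'⟩ | ⟨k, ⟨e⟩⟩
  · exfalso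
    rw [hn] at e
    have : 2 ^ 3 ≤ 2 ^ n := Nat.pow_le_pow_right (by norm_num) hn3
    omega
  · exact key _ (le_trans (by norm_num : 2 ≤ 2 ^ 1) (Nat.pow_le_pow_right (by norm_num) (by omega))) e
  · exact absurd (SCNonCyclic.not_semidihedral hna S k hk a b ha hb hab' hC) id
  · exfalso
    -- quaternion groups have one involution
    obtain ⟨g, _, hg⟩ : ∃ g, g ≠ 1 ∧ ∀ x : QuaternionGroup (2 ^ (k + 1)), x * x = 1 → x = 1 ∨ x = g := by
      refine ⟨QuaternionGroup.a ((2 ^ (k + 1) : ℕ) : ZMod (2 * 2 ^ (k + 1))), fun e0 => ?_, fun x hx => ?_⟩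
      · rw [QuaternionGroup.one_def] at e0
        injection e0 with e0
        have hd : (2 * 2 ^ (k + 1)) ∣ 2 ^ (k + 1) := (ZMod.natCast_eq_zero_iff _ _).mp e0
        have := Nat.le_of_dvd (by positivity) hd
        have : 0 < 2 ^ (k + 1) := by positivity
        omega
      rcases x with i | i
      · rw [QuaternionGroup.a_mul_a, QuaternionGroup.one_def] at hx
        injection hx with hx
        obtain ⟨v, rfl⟩ := ZMod.intCast_surjective i
        rw [← Int.cast_add, ZMod.intCast_zmod_eq_zero_iff_dvd] at hx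
        obtain ⟨q, hq⟩ := hx
        have hv : v = ((2 ^ (k + 1) : ℕ) : ℤ) * q := by push_cast at hq ⊢; linarith
        obtain ⟨l, rfl | rfl⟩ := Int.even_or_odd' q
        · left
          rw [QuaternionGroup.one_def]
          congr 1
          rw [ZMod.intCast_zmod_eq_zero_iff_dvd]
          exact ⟨l, by rw [hv]; push_cast; ring⟩
        · right
          congr 1
          rw [← Int.cast_natCast, ZMod.intCast_eq_intCast_iff_dvd_sub]
          exact ⟨-l, by rw [hv]; push_cast; ring⟩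
      · rw [QuaternionGroup.xa_mul_xa, QuaternionGroup.one_def] at hx
        injection hx with hx
        rw [add_sub_cancel_right] at hx
        have hd : (2 * 2 ^ (k + 1)) ∣ 2 ^ (k + 1) := (ZMod.natCast_eq_zero_iff _ _).mp hx
        have := Nat.le_of_dvd (by positivity) hd
        have : 0 < 2 ^ (k + 1) := by positivity
        omega
    have h2 : Nat.card A ≤ Nat.card Bool := by
      refine Nat.card_le_card_of_injective (fun x : A => decide (e x = 1)) fun x y hxy => Subtype.ext (e.injective ?_)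
      have hx : e x * e x = 1 := by rw [← map_mul, hexp x x.2, map_one]
      have hy : e y * e y = 1 := by rw [← map_mul, hexp y y.2, map_one]
      have hiff := decide_eq_decide.mp hxy
      by_cases hx1 : e (x : (S : Subgroup G)) = 1
      · rw [hx1, hiff.mp hx1]
      · rw [(hg _ hx).resolve_left hx1, (hg _ hy).resolve_left fun hy1 => hx1 (hiff.mpr hy1)]
    simp only [hAcard, Nat.card_eq_fintype_card, Fintype.card_bool] at h2
    omega

/-- An odd base with odd exponent greater than one is not next to a power of two. -/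
theorem exponent_one {x : ℤ} (hx : Odd x) (h3 : 3 ≤ x.natAbs) {f k : ℕ} (hf : Odd f)
    (h : (x ^ f - 1).natAbs = 2 ^ k) : f = 1 := by
  set R := ∑ i ∈ Finset.range f, x ^ i with hR
  have hgeom : R * (x - 1) = x ^ f - 1 := geom_sum_mul x f
  have hRodd : Odd R := by
    have hsum : ((R : ℤ) : ZMod 2) = 1 := by
      have hx1 : ((x : ℤ) : ZMod 2) = 1 := by
        obtain ⟨a, rfl⟩ := hx
        push_cast
        rw [show (2 : ZMod 2) = 0 from by decide, zero_mul, zero_add]
      obtain ⟨b, rfl⟩ := hf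
      rw [hR]
      push_cast
      simp only [hx1, one_pow, Finset.sum_const, Finset.card_range, nsmul_eq_mul, mul_one]
      push_cast
      rw [show (2 : ZMod 2) = 0 from by decide, zero_mul, zero_add]
    rcases Int.even_or_odd R with ⟨a, ha⟩ | h'
    · rw [ha] at hsum
      push_cast at hsum
      rw [CharTwo.add_self_eq_zero] at hsum
      exact absurd hsum (by decide)
    · exact h'
  have hRabs : R.natAbs = 1 := by
    have hd : R.natAbs ∣ 2 ^ k := ⟨(x - 1).natAbs, by rw [← h, ← hgeom, Int.natAbs_mul]⟩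
    exact Nat.eq_one_of_dvd_coprimes (Nat.Coprime.pow_right k (Nat.coprime_two_right.mpr
      (Int.natAbs_odd.mpr hRodd))) dvd_rfl hd
  by_contra hf1
  have hf3 : 2 ≤ f := by obtain ⟨b, rfl⟩ := hf; omega
  have e := congrArg Int.natAbs hgeom
  rw [Int.natAbs_mul, hRabs, one_mul] at e
  have h1 : x.natAbs ^ 2 ≤ x.natAbs ^ f := Nat.pow_le_pow_right (by omega) hf3
  have h2 : (x ^ f).natAbs = x.natAbs ^ f := Int.natAbs_pow x f
  have h4 : 3 * x.natAbs ≤ x.natAbs ^ 2 := by rw [sq]; exact Nat.mul_le_mul_right _ h3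
  have h5 := Int.natAbs_sub_le x 1
  have h6 := Int.natAbs_add_le (x ^ f - 1) 1
  rw [sub_add_cancel] at h6
  simp only [Int.natAbs_one] at h5 h6
  omega

/-- Prime powers next to a power of two. -/
theorem prime_power_next {p f k : ℕ} (hp : p.Prime) (hp2 : p ≠ 2) (hf : 1 ≤ f)
    (h : p ^ f = 2 ^ k + 1 ∨ p ^ f + 1 = 2 ^ k) : f = 1 ∨ p ^ f = 9 := by
  have hodd := hp.odd_of_ne_two hp2
  have hp3 : 3 ≤ p := by have := hp.two_le; omega
  rcases Nat.even_or_odd f with ⟨m, rfl⟩ | hfo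
  · right
    rcases h with h | h
    · have h1 : (p ^ m - 1) * (p ^ m + 1) = 2 ^ k := by
        have : (p ^ m) ^ 2 - 1 ^ 2 = (p ^ m + 1) * (p ^ m - 1) := Nat.sq_sub_sq _ _
        rw [← pow_mul, show m * 2 = m + m by ring, h, one_pow, Nat.add_sub_cancel, mul_comm] at this
        exact this.symm
      obtain ⟨a, -, ha⟩ := (Nat.dvd_prime_pow Nat.prime_two).mp (Dvd.intro _ h1)
      obtain ⟨b, -, hb⟩ := (Nat.dvd_prime_pow Nat.prime_two).mp (Dvd.intro_left _ h1)
      have hpm : 3 ≤ p ^ m := hp3.trans (Nat.le_self_pow (by omega) p)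
      rcases Nat.lt_or_ge a 2 with ha2 | ha2
      · have : 2 ^ a ≤ 2 ^ 1 := Nat.pow_le_pow_right (by norm_num) (by omega)
        rw [pow_add, show p ^ m = 3 by omega]
        all_goals norm_num
      · have h4a : 4 ∣ 2 ^ a := (pow_dvd_pow 2 ha2 : 2 ^ 2 ∣ 2 ^ a)
        rcases Nat.lt_or_ge b 2 with hb2 | hb2
        · have : 2 ^ b ≤ 2 ^ 1 := Nat.pow_le_pow_right (by norm_num) (by omega)
          omega
        · have h4b : 4 ∣ 2 ^ b := (pow_dvd_pow 2 hb2 : 2 ^ 2 ∣ 2 ^ b)
          omega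
    · exfalso
      obtain ⟨c, hc⟩ := hodd.pow (n := m)
      rw [pow_add, hc] at h
      have h5 : (2 * c + 1) * (2 * c + 1) + 1 = 4 * (c * c + c) + 2 := by ring
      rcases Nat.lt_or_ge k 2 with hk2 | hk2
      · have : 2 ^ k ≤ 2 ^ 1 := Nat.pow_le_pow_right (by norm_num) (by omega)
        have hpm : 3 ≤ p ^ m := hp3.trans (Nat.le_self_pow (by omega) p)
        have h9 : 3 * 3 ≤ (2 * c + 1) * (2 * c + 1) := Nat.mul_le_mul (hc ▸ hpm) (hc ▸ hpm)
        omega
      · have h4 : 4 ∣ 2 ^ k := (pow_dvd_pow 2 hk2 : 2 ^ 2 ∣ 2 ^ k)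
        omega
  · left
    rcases h with h | h
    · refine exponent_one (x := (p : ℤ)) (k := k) (by exact_mod_cast hodd) (by simpa using hp3) hfo ?_
      rw [← Nat.cast_pow, h]
      push_cast
      rw [add_sub_cancel_right, show ((2 : ℤ) ^ k) = ((2 ^ k : ℕ) : ℤ) by push_cast; rfl, Int.natAbs_natCast]
    · refine exponent_one (x := -(p : ℤ)) (k := k) (Odd.neg (by exact_mod_cast hodd)) (by simpa using hp3) hfo ?_
      rw [hfo.neg_pow, ← Nat.cast_pow, show -((p ^ f : ℕ) : ℤ) - 1 = -(((p ^ f + 1 : ℕ)) : ℤ) by push_cast; ring,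
        Int.natAbs_neg, Int.natAbs_natCast, h]

/-- The odd linear outcome. -/
theorem oddLin_of_psl (hG : IsCIT G) (h8 : 8 ∣ Nat.card G)
    (h : ∃ (F : Type) (_ : Field F) (_ : Fintype F), Odd (Fintype.card F) ∧
      Nonempty (G ≃* Matrix.ProjectiveSpecialLinearGroup (Fin 2) F)) : OddLinType G := by
  classical
  obtain ⟨F, iF, iFt, hodd, ⟨e⟩⟩ := h
  obtain ⟨p, hp⟩ := CharP.exists F
  haveI := hp
  haveI hpp : Fact p.Prime := ⟨CharP.char_is_prime F p⟩
  obtain ⟨f, -, hq⟩ := FiniteField.card F p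
  have hp2 : p ≠ 2 := by
    rintro rfl
    rw [hq] at hodd
    exact Nat.not_even_iff_odd.mpr hodd (Nat.even_pow.mpr ⟨even_two, f.2.ne'⟩)
  have hgcd : Nat.gcd 2 (Fintype.card F - 1) = 2 := by
    obtain ⟨j, hj⟩ := hodd
    exact Nat.gcd_eq_left ⟨j, by omega⟩
  have hcard : 2 * Nat.card G = Fintype.card F * (Fintype.card F ^ 2 - 1) := by
    rw [Nat.card_congr e.toEquiv, ← SLCard.card_SL_two, ← SLCard.gcd_mul_card_PSL (n := 2) (by norm_num), hgcd]
  have h7 : 7 ≤ Fintype.card F := by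
    by_contra hlt
    push Not at hlt
    obtain ⟨d, hd⟩ := h8
    obtain ⟨j, hj⟩ := hodd
    have h1 : 1 < Fintype.card F := Fintype.one_lt_card
    have : j < 3 := by omega
    interval_cases j <;> rw [hj] at hcard <;> norm_num at hcard <;> omega
  have hspec : ∀ m, (m = (Fintype.card F - 1) / 2 ∨ m = (Fintype.card F + 1) / 2) → Even m →
      ∃ j, m = 2 ^ j := by
    intro m hm hev
    obtain ⟨x, hx⟩ := (PSL2Spectrum.psl_orders (F := F) p m).mpr (by
      rw [hgcd]
      rcases hm with rfl | rfl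
      · exact Or.inl dvd_rfl
      · exact Or.inr (Or.inl dvd_rfl))
    set g := e.symm x
    have hg : orderOf g = m := by rw [MulEquiv.orderOf_eq, hx]
    obtain ⟨c, hc⟩ := hev
    have h2 : 2 ∣ orderOf g := ⟨c, by omega⟩
    have ho := orderOf_pow_orderOf_div (orderOf_pos g).ne' h2
    obtain ⟨j, hj⟩ := hG _ ho ⟨g, mem_centralizer_singleton_iff.mpr ((Commute.refl g).pow_right _).eq⟩
    have hd : m ∣ 2 ^ j := hg ▸ orderOf_dvd_of_pow_eq_one (congrArg Subtype.val hj)
    obtain ⟨i, -, hi⟩ := (Nat.dvd_prime_pow Nat.prime_two).mp hd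
    exact ⟨i, hi⟩
  obtain ⟨j, hj⟩ := hodd
  obtain ⟨k, hk⟩ : ∃ k, Fintype.card F = 2 ^ k + 1 ∨ Fintype.card F + 1 = 2 ^ k := by
    rcases Nat.even_or_odd j with hev | ho
    · obtain ⟨i, hi⟩ := hspec j (Or.inl (by omega)) hev
      exact ⟨i + 1, Or.inl (by rw [pow_succ]; omega)⟩
    · obtain ⟨i, hi⟩ := hspec (j + 1) (Or.inr (by omega)) ho.add_one
      exact ⟨i + 1, Or.inr (by rw [pow_succ]; omega)⟩
  refine ⟨F, iF, iFt, ?_, ⟨e⟩⟩
  have hk' : p ^ (f : ℕ) = 2 ^ k + 1 ∨ p ^ (f : ℕ) + 1 = 2 ^ k := hq ▸ hk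
  rcases prime_power_next hpp.out hp2 f.2 hk' with h1 | h1
  · right
    refine ⟨h7, ?_, k, hk⟩
    rw [hq, show (f : ℕ) = 1 from h1, pow_one]
    exact hpp.out
  · left
    rw [hq]
    exact h1

/-- Pieces of order four. -/
theorem config_two [IsSimpleGroup G] (hna : ¬ IsMulCommutative G) (hG : IsCIT G) {T E₁ : Subgroup G}
    (h₁ : Piece T E₁ 1) (hT : Nat.card T = (2 ^ 1) ^ 3) : OddLinType G := by
  haveI : Fact (Nat.Prime 2) := ⟨Nat.prime_two⟩
  obtain ⟨S, hS⟩ := h₁.ov.syl.two.exists_le_sylow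
  have hES : E₁ ≤ (S : Subgroup G) := h₁.le.trans hS
  have h8 : 8 ≤ Nat.card (S : Subgroup G) := le_trans (by rw [hT]; norm_num) (Subgroup.card_le_of_le hS)
  refine oddLin_of_psl hG ?_ (psl_of_four hna hG S (E₁.subgroupOf S) ?_ ?_ ?_ h8)
  · refine dvd_trans ?_ (Subgroup.card_subgroup_dvd_card T)
    rw [hT]
    norm_num
  · rw [Nat.card_congr (Subgroup.subgroupOfEquivOfLe hES).toEquiv, h₁.card]
    norm_num
  · exact fun a ha => Subtype.ext (h₁.sq _ (Subgroup.mem_subgroupOf.mp ha))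
  · refine le_antisymm (fun y hy => Subgroup.mem_subgroupOf.mpr (h₁.centralizer_le hG fun a ha => ?_))
      fun y hy w hw => Subtype.ext (h₁.comm (Subgroup.mem_subgroupOf.mp hw) (Subgroup.mem_subgroupOf.mp hy))
    exact congrArg Subtype.val (hy ⟨a, hES ha⟩ (Subgroup.mem_subgroupOf.mpr ha))

end CfsgLib.CIT
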