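import Cfsg.Agent.Lib.CIT.Outcome
import Cfsg.Agent.Lib.CIT.Quotient
import Cfsg.Agent.Lib.PrimeGraphExt

/-!
The quotient by a non-trivial 2-core: it has odd order, is an extension of a normal subgroup of odd prime
order inverted by all involutions with cyclic Sylow 2-subgroups, or is simple with a trivial intersection
Sylow 2-subgroup.
-/

set_option autoImplicit false
set_option linter.unusedSectionVars false
set_option linter.style.haveILetI false

namespace CfsgLib.CIT

open Subgroup Cfsg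
open scoped Pointwise
open CfsgLib.Involutions (mul_self_eq_one_of_orderOf inv_eq_self_of_orderOf orderOf_conj orderOf_eq_two_iff')

universe u v

/-- A normal subgroup of odd prime order inverted by all involutions, and cyclic Sylow 2-subgroups. -/
def TwoType (Q : Type u) [Group Q] : Prop :=
  ∃ (p : ℕ) (k : Q), p.Prime ∧ p ≠ 2 ∧ orderOf k = p ∧ (zpowers k).Normal ∧
    (∀ t : Q, orderOf t = 2 → t * k * t⁻¹ = k⁻¹) ∧ ∀ R : Sylow 2 Q, IsCyclic R

/-- The possible quotients. -/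
def Struct (Q : Type u) [Group Q] : Prop :=
  Odd (Nat.card Q) ∨ TwoType Q ∨ LinType Q ∨ SuzType Q

/-- Involutions of a strongly embedded subgroup are conjugate in it. -/
theorem conj_of_stronglyEmbedded {G : Type u} [Group G] [Finite G] {H : Subgroup G} (hH : IsStronglyEmbedded H)
    {s s' : G} (hs : s ∈ H) (hso : orderOf s = 2) (hs' : s' ∈ H) (hso' : orderOf s' = 2) :
    ∃ g ∈ H, g * s * g⁻¹ = s' := by
  obtain ⟨g, hg⟩ : ∃ g : G, g ∉ H := by
    by_contra hh
    push Not at hh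
    exact hH.1 ((Subgroup.eq_top_iff' _).mpr hh)
  have hi : g * s * g⁻¹ ∉ H := fun hm => hg (StrongEmb.mem_of_conj hH hs hso hm)
  have hio : orderOf (g * s * g⁻¹) = 2 := (orderOf_conj g s).trans hso
  obtain ⟨r, -, -, e⟩ := StrongEmb.exists_reflection hH hs hso hi hio
  obtain ⟨r', -, -, e'⟩ := StrongEmb.exists_reflection hH hs' hso' hi hio
  have key : r'⁻¹ * r * s * (r'⁻¹ * r)⁻¹ = s' := by
    calc r'⁻¹ * r * s * (r'⁻¹ * r)⁻¹ = r'⁻¹ * (r * s * r⁻¹) * r' := by group
      _ = r'⁻¹ * (r' * s' * r'⁻¹) * r' := by rw [e, e']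
      _ = s' := by group
  exact ⟨r'⁻¹ * r, StrongEmb.mem_of_conj hH hs hso (key.symm ▸ hs'), key⟩

/-- Sylow 2-subgroups of `PSL₂` in characteristic two are elementary. -/
theorem LinType.invCard {G : Type u} [Group G] [Finite G] (h : LinType G) (P : Sylow 2 G) :
    ∃ n, 2 ≤ n ∧ invCard (P : Subgroup G) + 1 = 2 ^ n ∧ Nat.card P = 2 ^ n ∧ (∀ x ∈ P, x * x = 1) ∧
      (n = 2 → Nat.card G = 60) := by
  classical
  haveI : Fact (Nat.Prime 2) := ⟨Nat.prime_two⟩
  obtain ⟨F, iF, iFt, n, hn, hF, ⟨e⟩⟩ := h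
  haveI : CharP F 2 := charP_of_card_eq_prime_pow (f := n) hF
  haveI : Finite (Matrix.ProjectiveSpecialLinearGroup (Fin 2) F) := Quotient.finite _
  obtain ⟨g, hg⟩ := MulAction.exists_smul_eq (Matrix.ProjectiveSpecialLinearGroup (Fin 2) F) (PSL2.uSylow (F := F) 2) (P.mapSurjective (f := e.toMonoidHom) e.surjective)
  have hsq : ∀ x ∈ P, x * x = 1 := by
    intro x hx
    have hm : e x ∈ ((P.mapSurjective (f := e.toMonoidHom) e.surjective : Sylow 2 _) : Subgroup _) := by
      show e x ∈ (P : Subgroup G).map e.toMonoidHom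
      exact ⟨x, hx, rfl⟩
    rw [← hg, Sylow.coe_subgroup_smul, Subgroup.mem_pointwise_smul_iff_inv_smul_mem] at hm
    obtain ⟨t, ht⟩ := hm
    apply e.injective
    have h1 : ((MulAut.conj g)⁻¹ • e x) * ((MulAut.conj g)⁻¹ • e x) = 1 := by
      rw [← ht, ← map_mul, show t * t = 1 from Multiplicative.toAdd.injective (by
        show t.toAdd + t.toAdd = 0
        exact CharTwo.add_self_eq_zero _), map_one]
    rw [map_mul, map_one]
    rw [MulAut.smul_def, ← map_mul, MulEquiv.map_eq_one_iff] at h1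
    exact h1
  have hc : Nat.card P = 2 ^ n := by
    have h1 : Nat.card ((PSL2.uSylow (F := F) 2 : Sylow 2 (Matrix.ProjectiveSpecialLinearGroup (Fin 2) F)) : Subgroup (Matrix.ProjectiveSpecialLinearGroup (Fin 2) F)) = 2 ^ n := by
      rw [← hF, ← Nat.card_eq_fintype_card]
      show Nat.card (PSL2.uHom (F := F)).range = _
      rw [← Nat.card_congr (MonoidHom.ofInjective (f := PSL2.uHom (F := F)) (fun a b h =>
        Multiplicative.toAdd.injective (PSL2.uu_injective (by simpa [PSL2.uu] using h)))).toEquiv]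
      exact Nat.card_congr Multiplicative.toAdd
    rw [Sylow.card_eq_multiplicity] at h1 ⊢
    rw [Nat.card_congr e.toEquiv]
    exact h1
  refine ⟨n, hn, ?_, hc, hsq, ?_⟩
  · rw [← hc, CIT.invCard, ← Finite.card_option]
    refine Nat.card_congr
      { toFun := fun o => o.elim 1 fun t => ⟨t.1, t.2.2⟩
        invFun := fun x => if h : (x : G) = 1 then none else some ⟨x, orderOf_eq_two_iff'.mpr ⟨hsq x x.2, h⟩, x.2⟩
        left_inv := fun o => ?_
        right_inv := fun x => ?_ }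
    · rcases o with _ | t
      · simp
      · have : (t : G) ≠ 1 := fun h => by
          have := t.2.1
          rw [h, orderOf_one] at this
          omega
        simp [this]
    · by_cases h : (x : G) = 1
      · simp only [dif_pos h, Option.elim_none]
        exact Subtype.ext h.symm
      · simp only [dif_neg h, Option.elim_some]
  · rintro rfl
    rw [Nat.card_congr (e.trans CfsgLib.PrimeGraphExt.pslEquiv).toEquiv, CfsgLib.SLCard.card_SL_two, hF]
    norm_num

variable {Q : Type u} [Group Q] [Finite Q] {A : Type v} [AddCommGroup A] [Nontrivial A]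

/-- The case of a non-trivial odd core. -/
theorem twoType_of_oddCore (hQ : IsCIT Q) (M : FpfMod Q A) (hO : oddCore Q ≠ ⊥) (hev : ¬ Odd (Nat.card Q)) :
    TwoType Q := by
  haveI : Fact (Nat.Prime 2) := ⟨Nat.prime_two⟩
  set K := oddCore Q with hK
  haveI : K.Normal := inferInstance
  have hKodd : Odd (Nat.card K) := CfsgLib.odd_card_oddCore
  have hodd : ∀ k : K, Odd (orderOf (k : Q)) := fun k => by
    rw [Subgroup.orderOf_coe]
    exact hKodd.of_dvd_nat (orderOf_dvd_natCard k)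
  have hinv : ∀ t : Q, orderOf t = 2 → ∀ k ∈ K, t * k * t⁻¹ = k⁻¹ := by
    intro t ht k hk
    set φ := MulAut.conjNormal (H := K) t with hφ
    have hfpf : MonoidHom.FixedPointFree (φ : K → K) := fun x hx => by
      have e : t * (x : Q) * t⁻¹ = x := congrArg Subtype.val hx
      refine Subtype.ext (hQ.fpf (hodd x) (k := 1) (s := t) ?_ ?_ (mul_inv_eq_iff_eq_mul.mp e).symm)
      · rw [pow_one, ← ht, pow_orderOf_eq_one]
      · intro e1; rw [e1, orderOf_one] at ht; omega
    have hinvol : Function.Involutive (φ : K → K) := fun x => by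
      apply Subtype.ext
      show t * (t * (x : Q) * t⁻¹) * t⁻¹ = x
      rw [show t * (t * (x : Q) * t⁻¹) * t⁻¹ = (t * t) * x * (t * t)⁻¹ by group, mul_self_eq_one_of_orderOf ht]
      group
    exact congrArg Subtype.val (congrFun (MonoidHom.FixedPointFree.coe_eq_inv_of_involutive hfpf hinvol) ⟨k, hk⟩)
  obtain ⟨t, ht⟩ := exists_prime_orderOf_dvd_card' (G := Q) 2
    (even_iff_two_dvd.mp (Nat.not_odd_iff_even.mp hev))
  have hcomm : ∀ a ∈ K, ∀ b ∈ K, a * b = b * a := fun a ha b hb => by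
    have h1 := hinv t ht _ (mul_mem ha hb)
    rw [show t * (a * b) * t⁻¹ = t * a * t⁻¹ * (t * b * t⁻¹) by group, hinv t ht a ha, hinv t ht b hb,
      ← mul_inv_rev, inv_inj] at h1
    exact h1.symm
  have hK1 : Nat.card K ≠ 1 := fun e => hO (Subgroup.card_eq_one.mp e)
  obtain ⟨p, hp, hpd⟩ := Nat.exists_prime_and_dvd hK1
  haveI : Fact p.Prime := ⟨hp⟩
  have hp2 : p ≠ 2 := fun e => (Nat.not_even_iff_odd.mpr hKodd) (even_iff_two_dvd.mpr (e ▸ hpd))
  obtain ⟨⟨k, hkK⟩, hko⟩ := exists_prime_orderOf_dvd_card' (G := K) p hpd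
  rw [Subgroup.orderOf_mk] at hko
  have hk1 : k ≠ 1 := fun e => hp.ne_one (by rw [← hko, e, orderOf_one])
  have hN : (zpowers k).Normal := ⟨fun x hx g => by
    obtain ⟨i, rfl⟩ := mem_zpowers_iff.mp hx
    rw [← conj_zpow]
    refine zpow_mem ?_ i
    exact M.mem_zpowers_of_comm hp hp2 hko ((orderOf_conj g k).trans hko)
      (hcomm k hkK _ ((inferInstance : K.Normal).conj_mem k hkK g))⟩
  refine ⟨p, k, hp, hp2, hko, hN, fun t ht => hinv t ht k hkK, fun R => ?_⟩
  haveI := hN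
  let f : (R : Subgroup Q) →* MulAut (zpowers k) := (MulAut.conjNormal (H := zpowers k)).comp (R : Subgroup Q).subtype
  have hf : Function.Injective f := by
    rw [← MonoidHom.ker_eq_bot_iff, eq_bot_iff]
    intro r hr
    rw [mem_bot]
    by_contra hr1
    obtain ⟨j, hj⟩ := R.2 r
    have e : (r : Q) * k * (r : Q)⁻¹ = k :=
      congrArg (fun φ : MulAut (zpowers k) => ((φ ⟨k, mem_zpowers k⟩ : zpowers k) : Q)) (MonoidHom.mem_ker.mp hr)
    exact hk1 (hQ.fpf (hko ▸ hp.odd_of_ne_two hp2) (s := (r : Q)) (congrArg Subtype.val hj)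
      (fun e1 => hr1 (Subtype.ext e1)) (mul_inv_eq_iff_eq_mul.mp e).symm)
  have hc : Nat.card (zpowers k) = p := by rw [Nat.card_zpowers, hko]
  haveI : IsCyclic (zpowers k) := inferInstance
  haveI : IsCyclic (ZMod (Nat.card (zpowers k)))ˣ := by rw [hc]; infer_instance
  haveI : IsCyclic (MulAut (zpowers k)) :=
    isCyclic_of_surjective (IsCyclic.mulAutMulEquiv (zpowers k)).symm.toMonoidHom
      (IsCyclic.mulAutMulEquiv (zpowers k)).symm.surjective
  exact isCyclic_of_injective f hf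

/-- A minimal normal subgroup is simple and non-abelian when both cores are trivial. -/
theorem simple_of_minimal (hQ : IsCIT Q) (h2 : pCore 2 Q = ⊥) (hO : oddCore Q = ⊥) (N : Subgroup Q) [N.Normal]
    (hN : N ≠ ⊥) (hmin : ∀ L : Subgroup Q, L.Normal → L ≠ ⊥ → L ≤ N → L = N) :
    IsSimpleGroup N ∧ ∃ a b : N, a * b ≠ b * a := by
  haveI : Fact (Nat.Prime 2) := ⟨Nat.prime_two⟩
  haveI : Nontrivial N := (Subgroup.nontrivial_iff_ne_bot N).mpr hN
  have hN2 : pCore 2 N = ⊥ := by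
    have := CfsgLib.map_pCore_le 2 N
    rw [h2, le_bot_iff, Subgroup.map_eq_bot_iff_of_injective _ N.subtype_injective] at this
    exact this
  have hNO : oddCore N = ⊥ := by
    have := CfsgLib.map_pPrimeCore_le 2 N
    rw [show pPrimeCore 2 Q = ⊥ from hO, le_bot_iff,
      Subgroup.map_eq_bot_iff_of_injective _ N.subtype_injective] at this
    exact this
  have hev : ∀ M : Subgroup N, M.Normal → M ≠ ⊥ → ∃ t ∈ M, orderOf t = 2 := fun M hM hM0 => by
    haveI := hM
    have hd : 2 ∣ Nat.card M := by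
      by_contra hd
      refine hM0 (le_bot_iff.mp (hNO ▸ CfsgLib.le_oddCore ?_))
      exact Nat.odd_iff.mpr (by omega)
    obtain ⟨⟨t, ht⟩, hto⟩ := exists_prime_orderOf_dvd_card' (G := M) 2 hd
    exact ⟨t, ht, by rwa [Subgroup.orderOf_mk] at hto⟩
  have huniq : ∀ M M' : Subgroup N, M.Normal → M'.Normal → M ≠ ⊥ → M' ≠ ⊥ → M ⊓ M' ≠ ⊥ := by
    intro M M' hM hM' h1 h1' hinf
    obtain ⟨t, ht, hto⟩ := hev M hM h1
    haveI := hM'
    refine h1' (le_bot_iff.mp (hN2 ▸ CfsgLib.le_pCore (((hQ.subgroup N) t hto).to_le fun x hx => ?_)))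
    exact mem_centralizer_singleton_iff.mpr
      (Subgroup.commute_of_normal_of_disjoint M M' hM hM' (disjoint_iff.mpr hinf) t x ht hx).eq.symm
  obtain ⟨M, ⟨hM, hM0⟩, hMmin⟩ := (wellFounded_lt (α := Subgroup N)).has_min
    {L | L.Normal ∧ L ≠ ⊥} ⟨⊤, inferInstance, top_ne_bot⟩
  haveI := hM
  have hMle : ∀ L : Subgroup N, L.Normal → L ≠ ⊥ → M ≤ L := fun L hL hL0 => by
    haveI := hL
    by_contra hle
    exact hMmin (M ⊓ L) ⟨inferInstance, huniq M L hM hL hM0 hL0⟩ (lt_of_le_of_ne inf_le_left fun e => hle (inf_eq_left.mp e))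
  have hchar : ∀ g : Q, M.map (MulAut.conjNormal (H := N) g).toMonoidHom = M := fun g => by
    refine le_antisymm ?_ (hMle _ (hM.map _ (MulEquiv.surjective _)) ?_)
    · have h1 := hMle (M.map ((MulAut.conjNormal (H := N) g).symm).toMonoidHom) (hM.map _ (MulEquiv.surjective _)) ?_
      · rintro _ ⟨x, hx, rfl⟩
        obtain ⟨y, hy, hyx⟩ := h1 hx
        have : (MulAut.conjNormal (H := N) g).toMonoidHom x = y := by
          rw [← hyx]
          exact MulEquiv.apply_symm_apply _ y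
        rw [this]
        exact hy
      · exact fun e => hM0 ((Subgroup.map_eq_bot_iff_of_injective _ (MulEquiv.injective _)).mp e)
    · exact fun e => hM0 ((Subgroup.map_eq_bot_iff_of_injective _ (MulEquiv.injective _)).mp e)
  have hMN : (M.map N.subtype).Normal := ⟨fun x hx g => by
    obtain ⟨y, hy, rfl⟩ := hx
    refine ⟨MulAut.conjNormal (H := N) g y, ?_, rfl⟩
    have := Subgroup.mem_map_of_mem (MulAut.conjNormal (H := N) g).toMonoidHom hy
    rwa [hchar g] at this⟩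
  have hMtop : M = ⊤ := by
    have := hmin _ hMN (fun e => hM0 ((Subgroup.map_eq_bot_iff_of_injective _ N.subtype_injective).mp e))
      (Subgroup.map_subtype_le M)
    apply Subgroup.map_injective N.subtype_injective
    rw [this, ← MonoidHom.range_eq_map, Subgroup.range_subtype]
  refine ⟨⟨fun L hL => or_iff_not_imp_left.mpr fun hL0 => top_le_iff.mp (hMtop ▸ hMle L hL hL0)⟩, ?_⟩
  by_contra hh
  push Not at hh
  obtain ⟨t, -, hto⟩ := hev ⊤ inferInstance top_ne_bot
  have hp : IsPGroup 2 (⊤ : Subgroup N) := ((hQ.subgroup N) t hto).to_le fun x _ =>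
    mem_centralizer_singleton_iff.mpr (hh x t)
  exact top_ne_bot (le_bot_iff.mp (hN2 ▸ CfsgLib.le_pCore hp))

/-- A simple normal subgroup with trivial intersection Sylow 2-subgroup is everything when its centraliser is
trivial. -/
theorem eq_top_of_ti (hQ : IsCIT Q) (N : Subgroup Q) [N.Normal] [IsSimpleGroup N] (hne : ∃ a b : N, a * b ≠ b * a)
    (hTI : IsTI N) (htype : LinType N ∨ SuzType N) : N = ⊤ := by
  haveI : Fact (Nat.Prime 2) := ⟨Nat.prime_two⟩
  classical
  obtain ⟨P⟩ : Nonempty (Sylow 2 N) := inferInstance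
  obtain ⟨hH, hA, hcent⟩ := ti_hyp hne (hQ.subgroup N) hTI P
  set P' : Subgroup Q := (P : Subgroup N).map N.subtype with hP'
  have hP'p : IsPGroup 2 P' := P.2.map _
  set NQ := normalizer (P' : Set Q) with hNQ
  have hfr : NQ ⊔ N = ⊤ := Sylow.normalizer_sup_eq_top P
  have hPN : P' ≤ N := Subgroup.map_subtype_le _
  obtain ⟨Rs, hRs⟩ := hP'p.exists_le_sylow
  set R : Subgroup Q := (Rs : Subgroup Q) with hR
  have hRN : ∀ x ∈ R, x ∈ N → x ∈ P' := by
    intro x hx hxN
    have h1 : IsPGroup 2 (R.subgroupOf N) := Rs.2.comap_subtype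
    have h2 : (P : Subgroup N) ≤ R.subgroupOf N := fun y hy =>
      Subgroup.mem_subgroupOf.mpr (hRs ⟨y, hy, rfl⟩)
    exact ⟨⟨x, hxN⟩, (P.3 h1 h2) ▸ Subgroup.mem_subgroupOf.mpr hx, rfl⟩
  have hRNQ : R ≤ NQ := fun r hr => Subgroup.mem_normalizer_iff.mpr fun x => ⟨fun hx =>
      hRN _ (mul_mem (mul_mem hr (hRs hx)) (inv_mem hr)) ((inferInstance : N.Normal).conj_mem x (hPN hx) r),
    fun hx => by
      have := hRN _ (mul_mem (mul_mem (inv_mem hr) (hRs hx)) hr)
        (by simpa using (inferInstance : N.Normal).conj_mem _ (hPN hx) r⁻¹)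
      rwa [show r⁻¹ * (r * x * r⁻¹) * r = x by group] at this⟩
  -- involutions of `P'`
  have hinvs : ∀ x ∈ P', orderOf x = 2 → ∀ y ∈ P', y * x = x * y := by
    rintro _ ⟨x, hx, rfl⟩ ho _ ⟨y, hy, rfl⟩
    have ho' : orderOf x = 2 := by rwa [Subgroup.coe_subtype, Subgroup.orderOf_coe] at ho
    have := hcent x hx ho'
    rw [← map_mul, ← map_mul, mem_centralizer_singleton_iff.mp (this.symm ▸ hy)]
  have hfus : ∀ x ∈ P', ∀ y ∈ P', orderOf x = 2 → orderOf y = 2 → ∃ b ∈ NQ, b ∈ N ∧ b * x * b⁻¹ = y := by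
    rintro _ ⟨x, hx, rfl⟩ _ ⟨y, hy, rfl⟩ hxo hyo
    rw [Subgroup.coe_subtype, Subgroup.orderOf_coe] at hxo hyo
    obtain ⟨b, hb, e⟩ := conj_of_stronglyEmbedded hH.se (Subgroup.le_normalizer hx) hxo (Subgroup.le_normalizer hy) hyo
    refine ⟨b, ?_, b.2, congrArg Subtype.val e⟩
    exact Subgroup.le_normalizer_map N.subtype ⟨b, hb, rfl⟩
  -- a central involution of `R` in `P'`
  obtain ⟨z, hzP, hzo, hzR⟩ : ∃ z ∈ P', orderOf z = 2 ∧ ∀ r ∈ R, r * z = z * r := by
    haveI : Group.IsNilpotent R := Rs.2.isNilpotent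
    have hn : (P'.subgroupOf R).Normal := (Subgroup.normal_subgroupOf_iff_le_normalizer hRs).mpr hRNQ
    have hne' : P'.subgroupOf R ≠ ⊥ := fun e => by
      rw [Subgroup.subgroupOf_eq_bot, disjoint_iff, inf_eq_left.mpr hRs] at e
      obtain ⟨s, hs, -, -, hso, -⟩ := exists_two_involutions hne P
      have : N.subtype s = 1 := by
        rw [← Subgroup.mem_bot, ← e]
        exact ⟨s, hs, rfl⟩
      rw [show s = 1 from N.subtype_injective (this.trans (map_one _).symm), orderOf_one] at hso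
      omega
    haveI := hn
    obtain ⟨w, hw, hwo⟩ := exists_orderOf_two_mem (Rs.2.to_subgroup (P'.subgroupOf R ⊓ center R))
      (CfsgLib.inf_center_ne_bot_of_nilpotent hne')
    exact ⟨w, Subgroup.mem_subgroupOf.mp hw.1, by rw [Subgroup.orderOf_coe]; exact hwo,
      fun r hr => congrArg Subtype.val (mem_center_iff.mp hw.2 ⟨r, hr⟩)⟩
  have hCz : centralizer ({z} : Set Q) = R := Rs.3 (hQ z hzo) fun r hr => mem_centralizer_singleton_iff.mpr (hzR r hr)
  have hdec : ∀ g ∈ NQ, ∃ b ∈ NQ, b ∈ N ∧ b⁻¹ * g ∈ R := by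
    intro g hg
    obtain ⟨b, hb, hbN, e⟩ := hfus z hzP (g * z * g⁻¹) ((Subgroup.mem_normalizer_iff.mp hg z).mp hzP) hzo
      ((orderOf_conj g z).trans hzo)
    refine ⟨b, hb, hbN, ?_⟩
    rw [← hCz, mem_centralizer_singleton_iff]
    calc b⁻¹ * g * z = b⁻¹ * (g * z * g⁻¹) * g := by group
      _ = b⁻¹ * (b * z * b⁻¹) * g := by rw [e]
      _ = _ := by group
  by_cases hRle : R ≤ N
  · rw [eq_top_iff, ← hfr]
    refine sup_le (fun g hg => ?_) le_rfl
    obtain ⟨b, -, hbN, hr⟩ := hdec g hg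
    simpa using mul_mem hbN (hRle hr)
  exfalso
  -- an element of `R` outside `N` squaring into `N`
  obtain ⟨r₀, hr₀, hr₀N⟩ := SetLike.not_le_iff_exists.mp hRle
  obtain ⟨r, hr, hrN, hr2⟩ : ∃ r ∈ R, r ∉ N ∧ r * r ∈ N := by
    obtain ⟨j, hj⟩ := Rs.2 ⟨r₀, hr₀⟩
    have hj' : r₀ ^ 2 ^ j = 1 := congrArg Subtype.val hj
    have hex : ∃ i, r₀ ^ 2 ^ i ∈ N := ⟨j, hj' ▸ one_mem N⟩
    obtain ⟨i, hi⟩ : ∃ i, Nat.find hex = i + 1 := by
      refine ⟨Nat.find hex - 1, ?_⟩
      have : Nat.find hex ≠ 0 := fun e => hr₀N (by simpa [e] using Nat.find_spec hex)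
      omega
    refine ⟨r₀ ^ 2 ^ i, pow_mem hr₀ _, Nat.find_min hex (by omega), ?_⟩
    have := Nat.find_spec hex
    rwa [hi, pow_succ, pow_mul, sq] at this
  have hr2P : r * r ∈ P' := hRN _ (mul_mem hr hr) hr2
  have hrn : r ∉ P' := fun h => hrN (hPN h)
  have hfix : ∀ s ∈ P', orderOf s = 2 → r * s = s * r → s = z := by
    intro s hs hso hrs
    obtain ⟨b, hb, hbN, e⟩ := hfus z hzP s hs hzo hso
    set c := b⁻¹ * r * b
    have hc : c ∈ R := by
      rw [← hCz, mem_centralizer_singleton_iff]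
      calc b⁻¹ * r * b * z = b⁻¹ * (r * (b * z * b⁻¹)) * b := by group
        _ = b⁻¹ * (b * z * b⁻¹ * r) * b := by rw [e, hrs]
        _ = z * (b⁻¹ * r * b) := by group
    have hcP : r * b * r⁻¹ * b⁻¹ ∈ P' := by
      have hcr : c * r⁻¹ ∈ P' := hRN _ (mul_mem hc (inv_mem hr)) (by
        rw [show b⁻¹ * r * b * r⁻¹ = b⁻¹ * (r * b * r⁻¹) by group]
        exact mul_mem (inv_mem hbN) ((inferInstance : N.Normal).conj_mem b hbN r))
      have := (Subgroup.mem_normalizer_iff.mp hb _).mp hcr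
      rwa [show b * (c * r⁻¹) * b⁻¹ = r * b * r⁻¹ * b⁻¹ by simp only [c]; group] at this
    obtain ⟨a, m, hm, ha⟩ := Nat.exists_eq_two_pow_mul_odd (orderOf_pos b).ne'
    have hpw : ∀ i : ℕ, r * b ^ i * r⁻¹ * (b ^ i)⁻¹ ∈ P' := by
      intro i
      induction i with
      | zero => simp
      | succ i ih =>
        have h1 := (Subgroup.mem_normalizer_iff.mp (pow_mem hb i) _).mp hcP
        have h2 := mul_mem ih h1
        rwa [show r * b ^ i * r⁻¹ * (b ^ i)⁻¹ * (b ^ i * (r * b * r⁻¹ * b⁻¹) * (b ^ i)⁻¹) =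
          r * b ^ (i + 1) * r⁻¹ * (b ^ (i + 1))⁻¹ by rw [pow_succ]; group] at h2
    have hb2 : b ^ 2 ^ a = 1 := by
      refine hQ.fpf_mod hP'p ?_ (pow_mem hb _) (hRNQ hr) hrn (k := 1) (by rw [pow_one, sq]; exact hr2P) (hpw _)
      rw [orderOf_pow' b (n := 2 ^ a) (by positivity), Nat.gcd_eq_right (ha ▸ Dvd.intro m rfl), ha,
        Nat.mul_div_cancel_left _ (by positivity)]
      exact hm
    have hbP : b ∈ P' := by
      have hsup : IsPGroup 2 ↥(zpowers b ⊔ P') := by
        obtain ⟨j, -, hj⟩ := (Nat.dvd_prime_pow Nat.prime_two).mp (orderOf_dvd_of_pow_eq_one hb2)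
        exact IsPGroup.to_sup_of_normal_right'
          (IsPGroup.of_card (n := j) (by rw [Nat.card_zpowers, hj])) hP'p (zpowers_le.mpr hb)
      have h1 : IsPGroup 2 ((zpowers b ⊔ P').subgroupOf N) := hsup.comap_subtype
      have h2 : (P : Subgroup N) ≤ (zpowers b ⊔ P').subgroupOf N := fun y hy =>
        Subgroup.mem_subgroupOf.mpr (mem_sup_right ⟨y, hy, rfl⟩)
      exact ⟨⟨b, hbN⟩, (P.3 h1 h2) ▸ Subgroup.mem_subgroupOf.mpr (mem_sup_left (mem_zpowers b)), rfl⟩
    rw [← e, hinvs z hzP hzo b hbP, mul_inv_cancel_right]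
  -- the elements of order at most two of `P'`
  set Z : Subgroup Q :=
    { carrier := {x | x ∈ P' ∧ x * x = 1}
      one_mem' := ⟨one_mem _, one_mul 1⟩
      mul_mem' := fun {x y} hx hy => ⟨mul_mem hx.1 hy.1, by
        by_cases h1 : x = 1
        · rw [h1, one_mul]; exact hy.2
        · rw [show x * y * (x * y) = x * (y * x) * y by group, hinvs x hx.1 (orderOf_eq_two_iff'.mpr ⟨hx.2, h1⟩) y hy.1,
            show x * (x * y) * y = (x * x) * (y * y) by group, hx.2, hy.2, one_mul]⟩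
      inv_mem' := fun {x} hx => by rw [inv_eq_of_mul_eq_one_right hx.2]; exact hx } with hZdef
  have hZmem : ∀ x, x ∈ Z ↔ x ∈ P' ∧ x * x = 1 := fun x => Iff.rfl
  have hZcard : Nat.card Z = invCard (P : Subgroup N) + 1 := by
    rw [CIT.invCard, ← Finite.card_option]
    refine Nat.card_congr
      { toFun := fun x => if h : (x : Q) = 1 then none else
          some ⟨⟨x, hPN x.2.1⟩, by rw [Subgroup.orderOf_mk]; exact orderOf_eq_two_iff'.mpr ⟨x.2.2, h⟩, by
            obtain ⟨y, hy, e⟩ := x.2.1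
            rwa [show (⟨x, hPN x.2.1⟩ : N) = y from Subtype.ext e.symm]⟩
        invFun := fun o => o.elim 1 fun t => ⟨(t.1 : Q), ⟨t.1, t.2.2, rfl⟩,
          congrArg Subtype.val (mul_self_eq_one_of_orderOf t.2.1)⟩
        left_inv := fun x => ?_
        right_inv := fun o => ?_ }
    · by_cases h : (x : Q) = 1
      · simp only [dif_pos h, Option.elim_none]; exact Subtype.ext h.symm
      · simp only [dif_neg h, Option.elim_some]
    · rcases o with _ | t
      · simp
      · have : ((t.1 : N) : Q) ≠ 1 := fun h => by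
          have := t.2.1
          rw [show t.1 = 1 from Subtype.ext h, orderOf_one] at this
          omega
        simp [this]
  have hzr : r * z * r⁻¹ = z := by rw [hzR r hr, mul_inv_cancel_right]
  have hsmall : Nat.card Z ≤ 4 := by
    let f : Z →* Z :=
      { toFun := fun x => ⟨(x : Q) * (r * x * r⁻¹), mul_mem x.2 ⟨(Subgroup.mem_normalizer_iff.mp (hRNQ hr) x).mp x.2.1, by
          rw [show r * (x : Q) * r⁻¹ * (r * x * r⁻¹) = r * ((x : Q) * x) * r⁻¹ by group, x.2.2]; group⟩⟩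
        map_one' := Subtype.ext (by simp)
        map_mul' := fun x y => Subtype.ext (by
          show (x : Q) * y * (r * ((x : Q) * y) * r⁻¹) = x * (r * x * r⁻¹) * (y * (r * y * r⁻¹))
          have hxy : (y : Q) * (r * x * r⁻¹) = r * x * r⁻¹ * y := by
            by_cases h1 : (y : Q) = 1
            · rw [h1]; simp
            · exact (hinvs y y.2.1 (orderOf_eq_two_iff'.mpr ⟨y.2.2, h1⟩) _
                ((Subgroup.mem_normalizer_iff.mp (hRNQ hr) x).mp x.2.1)).symm
          calc (x : Q) * y * (r * ((x : Q) * y) * r⁻¹) = x * (y * (r * x * r⁻¹)) * (r * y * r⁻¹) := by group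
            _ = x * (r * x * r⁻¹ * y) * (r * y * r⁻¹) := by rw [hxy]
            _ = _ := by group) }
    have hfixed : ∀ x : Z, r * (x : Q) * r⁻¹ = x → (x : Q) = 1 ∨ (x : Q) = z := fun x hx => by
      rw [or_iff_not_imp_left]
      intro h1
      exact hfix x x.2.1 (orderOf_eq_two_iff'.mpr ⟨x.2.2, h1⟩) (mul_inv_eq_iff_eq_mul.mp hx)
    have hsub : ∀ H : Subgroup Z, (∀ x ∈ H, r * (x : Q) * r⁻¹ = x) → Nat.card H ≤ 2 := by
      intro H hH
      refine (Nat.card_le_card_of_injective (fun x : H => decide (((x : Z) : Q) = 1)) ?_).trans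
        (le_of_eq (by simp))
      intro x y e
      have e' : (((x : Z) : Q) = 1) ↔ (((y : Z) : Q) = 1) := decide_eq_decide.mp e
      refine Subtype.ext (Subtype.ext ?_)
      rcases hfixed x (hH x x.2) with hx | hx <;> rcases hfixed y (hH y y.2) with hy | hy <;> rw [hx, hy]
      · exact absurd (e'.mp hx) (fun h => by rw [hy] at h; rw [h, orderOf_one] at hzo; omega)
      · exact absurd (e'.mpr hy) (fun h => by rw [hx] at h; rw [h, orderOf_one] at hzo; omega)
    have hk : Nat.card f.ker ≤ 2 := hsub _ fun x hx => by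
      have e : (x : Q) * (r * x * r⁻¹) = 1 := congrArg Subtype.val (MonoidHom.mem_ker.mp hx)
      rw [eq_inv_of_mul_eq_one_right e, inv_eq_of_mul_eq_one_right x.2.2]
    have hi : Nat.card f.range ≤ 2 := hsub _ fun y hy => by
      obtain ⟨x, rfl⟩ := hy
      show r * ((x : Q) * (r * x * r⁻¹)) * r⁻¹ = x * (r * x * r⁻¹)
      have h1 : r * r * (x : Q) = x * (r * r) := by
        by_cases h1 : (x : Q) = 1
        · simp [h1]
        · exact hinvs x x.2.1 (orderOf_eq_two_iff'.mpr ⟨x.2.2, h1⟩) _ hr2P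
      have h2 : (x : Q) * (r * x * r⁻¹) = r * x * r⁻¹ * x := by
        by_cases h1 : (x : Q) = 1
        · simp [h1]
        · exact (hinvs x x.2.1 (orderOf_eq_two_iff'.mpr ⟨x.2.2, h1⟩) _
            ((Subgroup.mem_normalizer_iff.mp (hRNQ hr) x).mp x.2.1)).symm
      calc r * ((x : Q) * (r * x * r⁻¹)) * r⁻¹ = r * x * r⁻¹ * ((r * r * x) * (r * r)⁻¹) := by group
        _ = r * x * r⁻¹ * x := by rw [h1, mul_inv_cancel_right]
        _ = _ := h2.symm
    rw [← f.ker.index_mul_card, Subgroup.index_ker]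
    exact (Nat.mul_le_mul hi hk).trans (by norm_num)
  rcases htype with hlin | ⟨n, hodd, hn, hcard, hP⟩
  swap
  · rw [hZcard, (hP P).2.1] at hsmall
    have h8 : 2 ^ 3 ≤ 2 ^ n := Nat.pow_le_pow_right (by norm_num) (by obtain ⟨c, rfl⟩ := hodd; omega)
    omega
  obtain ⟨n, hn, hinv, hPc, -, h60⟩ := hlin.invCard P
  have hn2 : n = 2 := by
    rw [hZcard, hinv] at hsmall
    by_contra hne'
    have : 2 ^ 3 ≤ 2 ^ n := Nat.pow_le_pow_right (by norm_num) (by omega)
    omega
  -- the group with 60 elements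
  obtain ⟨F, iF, iFt, m, hm, hF, ⟨e⟩⟩ := hlin
  haveI : CharP F 2 := charP_of_card_eq_prime_pow (f := m) hF
  let K₀ : Matrix.SpecialLinearGroup (Fin 2) F := ⟨!![0, 1; 1, 1], by simp [Matrix.det_fin_two_of, CharTwo.neg_eq]⟩
  let T₀ : Matrix.SpecialLinearGroup (Fin 2) F := ⟨!![0, 1; 1, 0], by simp [Matrix.det_fin_two_of, CharTwo.neg_eq]⟩
  let ψ : Matrix.SpecialLinearGroup (Fin 2) F →* N := e.symm.toMonoidHom.comp PSL2.mk
  have h2F : (1 : F) + 1 = 0 := CharTwo.add_self_eq_zero 1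
  have hK3 : K₀ ^ 3 = 1 := by
    apply Subtype.ext
    rw [pow_succ, sq, Matrix.SpecialLinearGroup.coe_mul, Matrix.SpecialLinearGroup.coe_mul,
      Matrix.SpecialLinearGroup.coe_one]
    ext i j
    fin_cases i <;> fin_cases j <;> simp [K₀, Matrix.mul_apply, Fin.sum_univ_two, h2F]
  have hrel : T₀ * K₀ * T₀ * K₀ = 1 := by
    apply Subtype.ext
    simp only [Matrix.SpecialLinearGroup.coe_mul, Matrix.SpecialLinearGroup.coe_one]
    ext i j
    fin_cases i <;> fin_cases j <;> simp [K₀, T₀, Matrix.mul_apply, Fin.sum_univ_two, h2F]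
  have hT2 : T₀ * T₀ = 1 := by
    apply Subtype.ext
    simp only [Matrix.SpecialLinearGroup.coe_mul, Matrix.SpecialLinearGroup.coe_one]
    ext i j
    fin_cases i <;> fin_cases j <;> simp [T₀, Matrix.mul_apply, Fin.sum_univ_two]
  haveI : Fact (Nat.Prime 3) := ⟨Nat.prime_three⟩
  set k := ψ K₀
  set t := ψ T₀
  have hk : orderOf k = 3 := by
    refine orderOf_eq_prime (by rw [← map_pow, hK3, map_one]) fun h => ?_
    have h' : PSL2.mk K₀ = PSL2.mk 1 := by rw [map_one]; exact e.symm.map_eq_one_iff.mp h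
    rw [PSL2.mk_eq_mk] at h'
    rcases h' with h' | h' <;> simpa [K₀] using congrFun (congrFun h' 0) 0
  have htk : t * k * t⁻¹ = k⁻¹ := by
    rw [inv_eq_of_mul_eq_one_right (show t * t = 1 by rw [← map_mul, hT2, map_one])]
    exact eq_inv_of_mul_eq_one_left (by rw [← map_mul, ← map_mul, ← map_mul, hrel, map_one])
  have h60' : Nat.card N = 60 := h60 hn2
  have hS3 : Nat.card (zpowers k) = 3 ^ (Nat.card N).factorization 3 := by
    rw [Nat.card_zpowers, hk, h60', show (60 : ℕ) = 3 * 20 from rfl, Nat.factorization_mul (by norm_num) (by norm_num),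
      Finsupp.add_apply, Nat.prime_three.factorization_self, Nat.factorization_eq_zero_of_not_dvd (by norm_num)]
    norm_num
  have hfr3 := Sylow.normalizer_sup_eq_top (Sylow.ofCard (p := 3) (zpowers k) hS3)
  rw [Sylow.coe_ofCard, MonoidHom.map_zpowers] at hfr3
  have hrmem : r ∈ ((normalizer (zpowers (N.subtype k) : Set Q) ⊔ N : Subgroup Q) : Set Q) := by
    rw [hfr3]; trivial
  rw [Subgroup.mul_normal] at hrmem
  obtain ⟨m₀, hm₀, n₀, hn₀, hmn⟩ := hrmem
  have hm₀N : m₀ ∉ N := fun h => hrN (hmn ▸ mul_mem h hn₀)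
  set kQ := N.subtype k with hkQ
  have hkQo : orderOf kQ = 3 := by rw [hkQ, Subgroup.coe_subtype, Subgroup.orderOf_coe, hk]
  have htkQ : (t : Q) * kQ * (t : Q)⁻¹ = kQ⁻¹ := congrArg Subtype.val htk
  obtain ⟨m₁, hm₁, hm₁N⟩ : ∃ m₁ : Q, m₁ * kQ * m₁⁻¹ = kQ ∧ m₁ ∉ N := by
    have h1 := (Subgroup.mem_normalizer_iff.mp hm₀ kQ).mp (mem_zpowers _)
    rw [mem_zpowers_iff_mem_range_orderOf, hkQo, Finset.mem_image] at h1
    obtain ⟨j, hj, hje⟩ := h1
    have hj3 := Finset.mem_range.mp hj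
    interval_cases j
    · exfalso
      rw [pow_zero] at hje
      rw [conj_eq_one_iff.mp hje.symm, orderOf_one] at hkQo
      omega
    · exact ⟨m₀, by rw [← hje, pow_one], hm₀N⟩
    · refine ⟨(t : Q) * m₀, ?_, fun h => hm₀N ?_⟩
      · rw [show (t : Q) * m₀ * kQ * ((t : Q) * m₀)⁻¹ = t * (m₀ * kQ * m₀⁻¹) * (t : Q)⁻¹ by group, ← hje,
          ← conj_pow, htkQ, inv_pow]
        refine inv_eq_of_mul_eq_one_right ?_
        rw [← pow_succ, show (2 : ℕ) + 1 = orderOf kQ from hkQo.symm, pow_orderOf_eq_one]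
      · simpa using mul_mem (inv_mem t.2) h
  set C := centralizer ({kQ} : Set Q)
  have hCodd : Odd (orderOf m₁) := by
    rw [← Nat.not_even_iff_odd, even_iff_two_dvd]
    intro h2
    have ho : orderOf (m₁ ^ (orderOf m₁ / 2)) = 2 := orderOf_pow_orderOf_div (orderOf_pos m₁).ne' h2
    refine absurd (hQ.fpf (x := kQ) (hkQo ▸ by decide) (k := 1) (s := m₁ ^ (orderOf m₁ / 2)) ?_ ?_ ?_) ?_
    · rw [pow_one]
      have := pow_orderOf_eq_one (m₁ ^ (orderOf m₁ / 2))
      rw [ho] at this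
      exact this
    · intro h; rw [h, orderOf_one] at ho; omega
    · exact (Commute.pow_left (mul_inv_eq_iff_eq_mul.mp hm₁) _).eq.symm
    · intro h; rw [h, orderOf_one] at hkQo; omega
  refine hm₁N ?_
  have hidx : ∃ j, orderOf (QuotientGroup.mk' N m₁) ∣ 2 ^ j := by
    obtain ⟨j, hj⟩ := IsPGroup.iff_card.mp Rs.2
    have hsurj : ∀ q : Q ⧸ N, ∃ r ∈ R, QuotientGroup.mk' N r = q := by
      intro q
      obtain ⟨g, rfl⟩ := QuotientGroup.mk'_surjective N q
      have hg : g ∈ ((NQ ⊔ N : Subgroup Q) : Set Q) := by rw [hfr]; trivial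
      rw [Subgroup.mul_normal] at hg
      obtain ⟨a, ha, b, hb, rfl⟩ := hg
      obtain ⟨c, -, hcN, hc⟩ := hdec a ha
      refine ⟨c⁻¹ * a, hc, ?_⟩
      have hc1 : QuotientGroup.mk' N c = 1 := (QuotientGroup.eq_one_iff c).mpr hcN
      have hb1 : QuotientGroup.mk' N b = 1 := (QuotientGroup.eq_one_iff b).mpr hb
      rw [map_mul, map_inv, hc1, inv_one, one_mul, map_mul, hb1, mul_one]
    obtain ⟨r₁, hr₁, e₁⟩ := hsurj (QuotientGroup.mk' N m₁)
    exact ⟨j, e₁ ▸ (orderOf_map_dvd _ r₁).trans (hj ▸ Subgroup.orderOf_dvd_natCard _ hr₁)⟩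
  obtain ⟨j, hj⟩ := hidx
  rw [← QuotientGroup.eq_one_iff]
  refine orderOf_eq_one_iff.mp (Nat.eq_one_of_dvd_coprimes ?_ hj (orderOf_map_dvd (QuotientGroup.mk' N) m₁))
  exact Nat.Coprime.pow_left j (Nat.coprime_two_left.mpr hCodd)

/-- The structure of the quotient. -/
theorem struct {X : Type u} [Group X] [Finite X] {m : ℕ} (hIH : Below.{u} m) (hm : Nat.card X ≤ m) (hC : IsCIT X)
    (hD : pCore 2 X ≠ ⊥) : Struct (Qt X) := by
  haveI : Fact (Nat.Prime 2) := ⟨Nat.prime_two⟩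
  have hQ := hC.quot
  haveI := qMod_nontrivial hD
  have M := qMod hC
  by_cases hodd : Odd (Nat.card (Qt X))
  · exact Or.inl hodd
  right
  by_cases hO : oddCore (Qt X) = ⊥
  swap
  · exact Or.inl (twoType_of_oddCore hQ M hO hodd)
  right
  haveI : Nontrivial (Qt X) := by
    rw [← Finite.one_lt_card_iff_nontrivial]
    rcases Nat.lt_or_ge 1 (Nat.card (Qt X)) with h | h
    · exact h
    · exact absurd (by rw [show Nat.card (Qt X) = 1 by have := Nat.card_pos (α := Qt X); omega]; decide) hodd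
  obtain ⟨N, ⟨hN, hN0⟩, hmin⟩ := (wellFounded_lt (α := Subgroup (Qt X))).has_min
    {L | L.Normal ∧ L ≠ ⊥} ⟨⊤, inferInstance, top_ne_bot⟩
  haveI := hN
  obtain ⟨hsim, hne⟩ := simple_of_minimal hQ pCore_qt hO N hN0 fun L hL hL0 hle =>
    by_contra fun h => hmin L ⟨hL, hL0⟩ (lt_of_le_of_ne hle h)
  haveI := hsim
  have hlt : Nat.card N < m := by
    refine lt_of_le_of_lt (Subgroup.card_le_card_group N) (lt_of_lt_of_le ?_ hm)
    rw [(pCore 2 X).card_eq_card_quotient_mul_card_subgroup]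
    refine lt_mul_of_one_lt_right Nat.card_pos ?_
    haveI := (Subgroup.nontrivial_iff_ne_bot _).mpr hD
    exact Finite.one_lt_card
  rcases hIH N hlt hne (hQ.subgroup N) with ⟨hTI, htype⟩ | hbad | hbad
  · have htop := eq_top_of_ti hQ N hne hTI htype
    let e : N ≃* Qt X := (MulEquiv.subgroupCongr htop).trans Subgroup.topEquiv
    rcases htype with ⟨F, iF, iFt, n, hn, hF, ⟨e'⟩⟩ | ⟨n, h1, h2, h3, h4⟩
    · exact Or.inl ⟨F, iF, iFt, n, hn, hF, ⟨e.symm.trans e'⟩⟩
    · refine Or.inr ⟨n, h1, h2, by rw [← Nat.card_congr e.toEquiv]; exact h3, fun P => ?_⟩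
      obtain ⟨hc, hi, a, ha, b, hb, hab⟩ := h4 (P.mapSurjective (f := e.symm.toMonoidHom) e.symm.surjective)
      refine ⟨?_, ?_, ?_⟩
      · rw [← hc]
        exact (Subgroup.card_map_of_injective (K := (P : Subgroup (Qt X))) (f := e.symm.toMonoidHom) e.symm.injective).symm
      · rw [← hi]
        refine congrArg (· + 1) (Nat.card_congr (Equiv.subtypeEquiv e.symm.toEquiv fun t => ?_))
        show _ ↔ orderOf (e.symm t) = 2 ∧ e.symm t ∈ (P : Subgroup (Qt X)).map e.symm.toMonoidHom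
        rw [MulEquiv.orderOf_eq]
        refine and_congr_right fun _ => ⟨fun h => ⟨t, h, rfl⟩, fun ⟨y, hy, hye⟩ => ?_⟩
        rwa [← e.symm.injective hye]
      · change a ∈ (P : Subgroup (Qt X)).map e.symm.toMonoidHom at ha
        change b ∈ (P : Subgroup (Qt X)).map e.symm.toMonoidHom at hb
        obtain ⟨a', ha', rfl⟩ := ha
        obtain ⟨b', hb', rfl⟩ := hb
        exact ⟨a', ha', b', hb', fun h => hab (by rw [← map_mul, ← map_mul, h])⟩
  · exact ((M.comap N.subtype N.subtype_injective).no_oddLin hbad).elim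
  · exact ((M.comap N.subtype N.subtype_injective).no_L34 hbad).elim

end CfsgLib.CIT
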