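import Cfsg.Agent.Lib.CIT.Basic
import Cfsg.Agent.Lib.CentTI.Zass
import Cfsg.Agent.Lib.PSL2.Aut
import Cfsg.Agent.S2202
import Cfsg.Agent.S0204
import Cfsg.Agent.S0205
import Cfsg.Agent.S0231

/-!
Simple groups in which involution centralisers are 2-groups and a Sylow 2-subgroup meets its conjugates
trivially.
-/

set_option autoImplicit false
set_option linter.unusedSectionVars false
set_option linter.style.haveILetI false

namespace CfsgLib.CIT

open Subgroup Cfsg
open scoped Pointwise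
open CfsgLib.Involutions (mul_self_eq_one_of_orderOf inv_eq_self_of_orderOf orderOf_conj)

universe u

/-- Two elements of a Sylow 2-subgroup conjugate by `g` force `g` to normalise it. -/
def IsTI (G : Type u) [Group G] : Prop :=
  ∀ (P : Sylow 2 G) (g x : G), x ∈ P → g⁻¹ * x * g ∈ P → x ≠ 1 → g ∈ normalizer ((P : Subgroup G) : Set G)

/-- The number of involutions of `P`. -/
noncomputable def invCard {G : Type u} [Group G] (P : Subgroup G) : ℕ := Nat.card {t : G // orderOf t = 2 ∧ t ∈ P}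

/-- Two-dimensional special linear groups over fields of `2 ^ n > 2` elements. -/
def LinType (G : Type u) [Group G] : Prop :=
  ∃ (F : Type) (_ : Field F) (_ : Fintype F) (n : ℕ), 2 ≤ n ∧ Fintype.card F = 2 ^ n ∧
    Nonempty (G ≃* Matrix.ProjectiveSpecialLinearGroup (Fin 2) F)

/-- Groups of Suzuki order with non-abelian Sylow 2-subgroup. -/
def SuzType (G : Type u) [Group G] : Prop :=
  ∃ n : ℕ, Odd n ∧ 1 < n ∧ Nat.card G = (2 ^ n) ^ 2 * ((2 ^ n) ^ 2 + 1) * (2 ^ n - 1) ∧
    ∀ P : Sylow 2 G, Nat.card P = (2 ^ n) ^ 2 ∧ invCard (P : Subgroup G) + 1 = 2 ^ n ∧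
      ∃ a ∈ P, ∃ b ∈ P, a * b ≠ b * a

theorem SuzType.isSuzuki {G : Type u} [Group G] [IsSimpleGroup G] (h : SuzType G) : Cfsg.IsSuzuki G := by
  obtain ⟨n, ⟨m, rfl⟩, hn, hc, -⟩ := h
  exact ⟨inferInstance, m, by omega, hc⟩

section SylowInvariant

variable {G : Type u} [Group G] [Finite G] (P Q : Sylow 2 G)

theorem invCard_eq : invCard (Q : Subgroup G) = invCard (P : Subgroup G) := by
  haveI : Fact (Nat.Prime 2) := ⟨Nat.prime_two⟩
  obtain ⟨g, hg⟩ := MulAction.exists_smul_eq G P Q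
  subst hg
  refine Nat.card_congr (Equiv.subtypeEquiv (MulAut.conj g⁻¹).toEquiv fun t => ?_)
  show _ ↔ orderOf (g⁻¹ * t * g⁻¹⁻¹) = 2 ∧ g⁻¹ * t * g⁻¹⁻¹ ∈ (P : Subgroup G)
  rw [orderOf_conj, inv_inv, Sylow.coe_subgroup_smul]
  refine and_congr_right fun _ => ?_
  rw [Subgroup.mem_pointwise_smul_iff_inv_smul_mem, MulAut.smul_def, MulAut.conj_inv_apply]

theorem noncomm_of_noncomm (h : ∃ a ∈ P, ∃ b ∈ P, a * b ≠ b * a) : ∃ a ∈ Q, ∃ b ∈ Q, a * b ≠ b * a := by
  haveI : Fact (Nat.Prime 2) := ⟨Nat.prime_two⟩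
  obtain ⟨g, hg⟩ := MulAction.exists_smul_eq G P Q
  subst hg
  obtain ⟨a, ha, b, hb, hne⟩ := h
  have hm : ∀ x ∈ P, g * x * g⁻¹ ∈ ((g • P : Sylow 2 G) : Subgroup G) := fun x hx => by
    rw [Sylow.coe_subgroup_smul]
    exact Subgroup.smul_mem_pointwise_smul _ (MulAut.conj g) _ hx
  refine ⟨_, hm a ha, _, hm b hb, fun e => hne ?_⟩
  have := congrArg (fun z => g⁻¹ * z * g) e
  simpa [mul_assoc] using this

end SylowInvariant

variable {G : Type u} [Group G] [Finite G] [IsSimpleGroup G]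

theorem not_comm_to_not_cyclic (hG : ∃ a b : G, a * b ≠ b * a) : ¬ IsCyclic G := fun h => by
  obtain ⟨a, b, hab⟩ := hG
  exact hab ((IsCyclic.commGroup (α := G)).mul_comm a b)

theorem exists_two_involutions (hG : ∃ a b : G, a * b ≠ b * a) (T : Sylow 2 G) :
    ∃ s ∈ T, ∃ t ∈ T, orderOf s = 2 ∧ orderOf t = 2 ∧ s ≠ t := by
  classical
  haveI : Fact (Nat.Prime 2) := ⟨Nat.prime_two⟩
  obtain ⟨E, hE⟩ := Cfsg.Agent.S0204.result (G := G) (not_comm_to_not_cyclic hG)
  obtain ⟨Q, hQ⟩ := (IsPGroup.of_card (n := 2) hE.card_four : IsPGroup 2 E).exists_le_sylow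
  obtain ⟨g, hg⟩ := MulAction.exists_smul_eq G Q T
  have hm : ∀ x ∈ E, g * x * g⁻¹ ∈ T := fun x hx => by
    show _ ∈ (T : Subgroup G)
    rw [← hg, Sylow.coe_subgroup_smul]
    exact Subgroup.smul_mem_pointwise_smul _ (MulAut.conj g) _ (hQ hx)
  haveI : Finite {x : E // x ≠ 1} := inferInstance
  have h3 : 1 < Nat.card {x : E // x ≠ 1} := by
    haveI := Fintype.ofFinite E
    rw [Nat.card_eq_fintype_card, Fintype.card_subtype_compl, Fintype.card_subtype_eq, ← Nat.card_eq_fintype_card,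
      hE.card_four]
    norm_num
  rw [Finite.one_lt_card_iff_nontrivial] at h3
  obtain ⟨x, y, hxy⟩ := exists_pair_ne {x : E // x ≠ 1}
  have ho : ∀ z : {x : E // x ≠ 1}, orderOf (g * ((z.1 : E) : G) * g⁻¹) = 2 := fun z => by
    rw [orderOf_conj, Subgroup.orderOf_coe]
    refine orderOf_eq_prime ?_ z.2
    have := Monoid.pow_exponent_eq_one (z.1 : E)
    rwa [hE.exponent_two] at this
  exact ⟨_, hm _ x.1.2, _, hm _ y.1.2, ho x, ho y, fun e => hxy (Subtype.ext (Subtype.ext (by
    simpa using e)))⟩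

theorem sylow_not_normal (hG : ∃ a b : G, a * b ≠ b * a) (T : Sylow 2 G) : ¬ (T : Subgroup G).Normal := by
  intro h
  haveI : Fact (Nat.Prime 2) := ⟨Nat.prime_two⟩
  rcases h.eq_bot_or_eq_top with e | e
  · obtain ⟨s, hs, -, -, hso, -⟩ := exists_two_involutions hG T
    have hs' : s ∈ (T : Subgroup G) := hs
    rw [e, Subgroup.mem_bot] at hs'
    rw [hs', orderOf_one] at hso
    omega
  · haveI : Group.IsNilpotent G := by
      have : Group.IsNilpotent (⊤ : Subgroup G) := e ▸ T.2.isNilpotent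
      exact Group.nilpotent_of_mulEquiv Subgroup.topEquiv
    obtain ⟨a, b, hab⟩ := hG
    haveI : Nontrivial G := ⟨⟨a * b, b * a, hab⟩⟩
    rcases (inferInstance : (center G).Normal).eq_bot_or_eq_top with hz | hz
    · haveI : Nontrivial (center G) := by
        have hP : IsPGroup 2 G := (e ▸ T.2 : IsPGroup 2 (⊤ : Subgroup G)).of_equiv Subgroup.topEquiv
        exact hP.center_nontrivial
      exact (Subgroup.nontrivial_iff_ne_bot _).mp inferInstance hz
    · exact hab (mem_center_iff.mp (hz ▸ mem_top b) a)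

/-- The hypotheses of the permutation representation on the cosets of the Sylow normaliser. -/
theorem ti_hyp (hG : ∃ a b : G, a * b ≠ b * a) (hC : IsCIT G) (hTI : IsTI G) (T : Sylow 2 G) :
    CentTI.Hyp T ∧ CentTI.Aa T = (T : Subgroup G) ∧
      ∀ t ∈ T, orderOf t = 2 → centralizer ({t} : Set G) = (T : Subgroup G) := by
  haveI : Fact (Nat.Prime 2) := ⟨Nat.prime_two⟩
  have h2 := exists_two_involutions hG T
  obtain ⟨s, hs, t₁, ht₁, hso, ht₁o, hne⟩ := h2
  haveI : Nontrivial (T : Subgroup G) := ⟨⟨⟨s, hs⟩, ⟨t₁, ht₁⟩, fun e => hne (congrArg Subtype.val e)⟩⟩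
  haveI := T.2.center_nontrivial
  obtain ⟨w, hw, hwo⟩ := exists_orderOf_two_mem ((T.2.to_subgroup (center (T : Subgroup G))).map
    (T : Subgroup G).subtype) (by
      rw [ne_eq, Subgroup.map_eq_bot_iff_of_injective _ (Subgroup.subtype_injective _)]
      exact (Subgroup.nontrivial_iff_ne_bot _).mp inferInstance)
  obtain ⟨z, hz, rfl⟩ := hw
  have hcls : ∀ a b : G, orderOf a = 2 → orderOf b = 2 → IsConj a b := fun a b ha hb =>
    Cfsg.Agent.S0231.result T (sylow_not_normal hG T) (fun g hg => by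
      rw [Subgroup.eq_bot_iff_forall]
      intro x hx
      by_contra hx1
      refine hg ?_
      have hgx : g⁻¹ * x * g ∈ (T : Subgroup G) := by
        have := Subgroup.mem_pointwise_smul_iff_inv_smul_mem.mp hx.1
        simpa [MulAut.smul_def] using this
      have hn := hTI T g x hx.2 hgx hx1
      ext y
      rw [Subgroup.mem_pointwise_smul_iff_inv_smul_mem, MulAut.smul_def, MulAut.conj_inv_apply]
      exact ((Subgroup.mem_normalizer_iff'' (g := g)).mp hn y).symm) a b ha hb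
  have hcen : ∀ t ∈ T, orderOf t = 2 → ∀ x ∈ T, x * t = t * x := by
    intro t ht hto x hx
    obtain ⟨g, hg⟩ := isConj_iff.mp (hcls t ((T : Subgroup G).subtype z) hto hwo)
    have hn := hTI T g⁻¹ t ht (by rw [inv_inv, hg]; exact z.2) (fun e => by rw [e, orderOf_one] at hto; omega)
    have hn' := inv_mem hn
    rw [inv_inv] at hn'
    have h1 : ((T : Subgroup G).subtype z) * (g * x * g⁻¹) = g * x * g⁻¹ * (T : Subgroup G).subtype z :=
      (congrArg Subtype.val (mem_center_iff.mp hz ⟨g * x * g⁻¹, (Subgroup.mem_normalizer_iff.mp hn' x).mp hx⟩)).symm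
    rw [← hg] at h1
    calc x * t = g⁻¹ * (g * x * g⁻¹ * (g * t * g⁻¹)) * g := by group
      _ = g⁻¹ * (g * t * g⁻¹ * (g * x * g⁻¹)) * g := by rw [h1]
      _ = _ := by group
  have hcent : ∀ t ∈ T, orderOf t = 2 → centralizer ({t} : Set G) = (T : Subgroup G) := fun t ht hto =>
    T.3 (hC t hto) fun x hx => mem_centralizer_singleton_iff.mpr (hcen t ht hto x hx)
  have hA : CentTI.Aa T = (T : Subgroup G) := by
    refine le_antisymm (fun x hx => ?_) fun x hx => CentTI.mem_A_iff.mpr fun t ht hto => (hcen t ht hto x hx).symm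
    rw [← hcent s hs hso]
    exact mem_centralizer_singleton_iff.mpr (CentTI.mem_A_iff.mp hx s hs hso).symm
  refine ⟨⟨⟨s, hs, t₁, ht₁, hso, ht₁o, hne⟩, hA.ge, hA.le.trans Subgroup.le_normalizer, ?_, ?_, ?_, ?_⟩, hA, hcent⟩
  · intro t ht hto x hx
    rw [hA, ← hcent t ht hto]
    exact mem_centralizer_singleton_iff.mpr hx
  · intro b hb hb1 x hx
    rw [hA] at hb
    exact hTI T x b hb (by rw [mul_assoc, ← hx, inv_mul_cancel_left]; exact hb) hb1
  · intro b hb g hg hgb
    rw [hA] at hb hgb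
    by_contra hb1
    exact hg (hTI T g b hb hgb hb1)
  · refine ⟨fun e => sylow_not_normal hG T (Subgroup.normalizer_eq_top_iff.mp e), ?_, fun g hg => ?_⟩
    · rw [even_iff_two_dvd, ← hso]
      exact Subgroup.orderOf_dvd_natCard _ (Subgroup.le_normalizer hs)
    · rw [← Nat.not_even_iff_odd, even_iff_two_dvd]
      intro hd
      obtain ⟨⟨i, hi⟩, hio⟩ := exists_prime_orderOf_dvd_card'
        (G := ↥(CentTI.Nn T ⊓ (CentTI.Nn T).map (MulAut.conj g).toMonoidHom)) 2 hd
      rw [Subgroup.orderOf_mk] at hio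
      obtain ⟨hi1, j, hj, hji⟩ := hi
      have hji' : g * j * g⁻¹ = i := hji
      refine hg (hTI T g i (CentTI.inv_mem_T hi1 hio) ?_ (fun e => by rw [e, orderOf_one] at hio; omega))
      rw [← hji', show g⁻¹ * (g * j * g⁻¹) * g = j by group]
      exact CentTI.inv_mem_T hj (by rw [← orderOf_conj g j, hji', hio])

/-- The classification in the trivial intersection case. -/
theorem ti_case (hG : ∃ a b : G, a * b ≠ b * a) (hC : IsCIT G) (hTI : IsTI G) : LinType G ∨ SuzType G := by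
  haveI : Fact (Nat.Prime 2) := ⟨Nat.prime_two⟩
  classical
  obtain ⟨T⟩ : Nonempty (Sylow 2 G) := inferInstance
  obtain ⟨hH, hA, hcent⟩ := ti_hyp hG hC hTI T
  by_cases hab : ∀ a ∈ T, ∀ b ∈ T, a * b = b * a
  · left
    have hcomm : ∀ t : G, orderOf t = 2 → IsMulCommutative ↥(centralizer ({t} : Set G)) := by
      intro t ht
      obtain ⟨g, hg⟩ := CentTI.exists_conj_T hH ht
      have ho : orderOf (g⁻¹ * t * g) = 2 := by
        have := orderOf_conj g⁻¹ t
        rw [inv_inv] at this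
        rw [this, ht]
      refine ⟨⟨fun a b => Subtype.ext ?_⟩⟩
      have hm : ∀ a : centralizer ({t} : Set G), g⁻¹ * (a : G) * g ∈ (T : Subgroup G) := fun a => by
        rw [← hcent _ hg ho, mem_centralizer_singleton_iff]
        calc g⁻¹ * (a : G) * g * (g⁻¹ * t * g) = g⁻¹ * ((a : G) * t) * g := by group
          _ = g⁻¹ * (t * (a : G)) * g := by rw [mem_centralizer_singleton_iff.mp a.2]
          _ = _ := by group
      have := hab _ (hm a) _ (hm b)
      calc (a : G) * b = g * (g⁻¹ * (a : G) * g * (g⁻¹ * b * g)) * g⁻¹ := by group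
        _ = g * (g⁻¹ * b * g * (g⁻¹ * (a : G) * g)) * g⁻¹ := by rw [this]
        _ = (b : G) * a := by group
    obtain ⟨s, hs, -, -, hso, -⟩ := exists_two_involutions hG T
    have heven : Even (Nat.card G) := even_iff_two_dvd.mpr (hso ▸ orderOf_dvd_natCard s)
    rcases Cfsg.Agent.S2202.result heven hcomm with hc | hn | ⟨F, iF, iFt, A, iA, iAf, hchar, hAodd, ⟨e⟩⟩
    · exfalso
      obtain ⟨x, hx, y, hy, hxo, hyo, hne⟩ := exists_two_involutions hG T
      haveI := hc T
      haveI := Fintype.ofFinite (T : Subgroup G)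
      have hox : orderOf (⟨x, hx⟩ : (T : Subgroup G)) = 2 := by rw [Subgroup.orderOf_mk, hxo]
      have hoy : orderOf (⟨y, hy⟩ : (T : Subgroup G)) = 2 := by rw [Subgroup.orderOf_mk, hyo]
      have h1 := IsCyclic.card_orderOf_eq_totient (α := (T : Subgroup G))
        (d := 2) ((Eq.dvd hox.symm).trans orderOf_dvd_card)
      rw [Nat.totient_two, Finset.card_eq_one] at h1
      obtain ⟨w, hw⟩ := h1
      have hx' : (⟨x, hx⟩ : (T : Subgroup G)) ∈ ({w} : Finset (T : Subgroup G)) :=
        hw ▸ Finset.mem_filter.mpr ⟨Finset.mem_univ _, hox⟩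
      have hy' : (⟨y, hy⟩ : (T : Subgroup G)) ∈ ({w} : Finset (T : Subgroup G)) :=
        hw ▸ Finset.mem_filter.mpr ⟨Finset.mem_univ _, hoy⟩
      exact hne (congrArg Subtype.val ((Finset.mem_singleton.mp hx').trans (Finset.mem_singleton.mp hy').symm))
    · exact absurd (hn T) (sylow_not_normal hG T)
    · haveI : Finite (Matrix.SpecialLinearGroup (Fin 2) F) := inferInstance
      let π : G →* Matrix.SpecialLinearGroup (Fin 2) F := (MonoidHom.fst _ A).comp e.toMonoidHom
      have hπ : Function.Surjective π := fun x => ⟨e.symm (x, 1), by simp [π]⟩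
      have hinj : Function.Injective π := by
        rw [← MonoidHom.ker_eq_bot_iff]
        refine ((MonoidHom.normal_ker π).eq_bot_or_eq_top).resolve_right fun h => ?_
        haveI : Subsingleton (Matrix.SpecialLinearGroup (Fin 2) F) := ⟨fun a b => by
          obtain ⟨x, rfl⟩ := hπ a
          obtain ⟨y, rfl⟩ := hπ b
          rw [MonoidHom.mem_ker.mp (h ▸ mem_top x), MonoidHom.mem_ker.mp (h ▸ mem_top y)]⟩
        have := Matrix.SpecialLinearGroup.ext_iff (⟨!![1, 1; 0, 1], by simp [Matrix.det_fin_two_of]⟩ :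
          Matrix.SpecialLinearGroup (Fin 2) F) 1 |>.mp (Subsingleton.elim _ _) 0 1
        simp at this
      let e₁ : G ≃* Matrix.ProjectiveSpecialLinearGroup (Fin 2) F :=
        (MulEquiv.ofBijective π ⟨hinj, hπ⟩).trans CfsgLib.PrimeGraphExt.pslEquiv.symm
      obtain ⟨n₀, -, hcard⟩ := FiniteField.card F 2
      obtain ⟨n, hn, rfl⟩ : ∃ n, 0 < n ∧ (n₀ : ℕ) = n := ⟨_, n₀.pos, rfl⟩
      refine ⟨F, iF, iFt, _, ?_, hcard, ⟨e₁⟩⟩
      by_contra hlt
      have hq : Fintype.card F = 2 := by rw [hcard, show (n₀ : ℕ) = 1 by omega, pow_one]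
      have h6 : Nat.card (Matrix.SpecialLinearGroup (Fin 2) F) ≤ 6 := by
        rw [CfsgLib.SLCard.card_SL_two]
        norm_num [hq]
      have hG6 : Nat.card G ≤ 6 := (Nat.card_le_card_of_injective π hinj).trans h6
      obtain ⟨s', hs', t', ht', hso', hto', hne'⟩ := exists_two_involutions hG T
      have h4 : 4 ∣ Nat.card G := by
        refine dvd_trans ?_ (Subgroup.card_subgroup_dvd_card (T : Subgroup G))
        obtain ⟨k, hk⟩ := IsPGroup.iff_card.mp T.2
        rw [hk]
        refine dvd_trans (by norm_num : 4 ∣ 2 ^ 2) (pow_dvd_pow 2 ?_)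
        by_contra hk2
        have h3 : 2 < Nat.card (T : Subgroup G) := by
          haveI := Fintype.ofFinite (T : Subgroup G)
          rw [Nat.card_eq_fintype_card, Fintype.two_lt_card_iff]
          exact ⟨1, ⟨s', hs'⟩, ⟨t', ht'⟩, fun e => by
            rw [show s' = 1 from (congrArg Subtype.val e).symm, orderOf_one] at hso'; omega, fun e => by
            rw [show t' = 1 from (congrArg Subtype.val e).symm, orderOf_one] at hto'; omega,
            fun e => hne' (congrArg Subtype.val e)⟩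
        have : 2 ^ k ≤ 2 ^ 1 := Nat.pow_le_pow_right (by norm_num) (by omega)
        omega
      have hG4 : Nat.card G = 4 := by
        have := Nat.le_of_dvd Nat.card_pos h4
        obtain ⟨c, hc⟩ := h4
        omega
      obtain ⟨a, b, hne''⟩ := hG
      exact hne'' ((IsPGroup.commutative_of_card_eq_prime_sq (p := 2) (by rw [hG4]; norm_num)) a b)
  · right
    push Not at hab
    obtain ⟨a, ha, b, hb, hne⟩ := hab
    haveI := Fintype.ofFinite G
    haveI := Fintype.ofFinite (G ⧸ CentTI.Nn T)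
    obtain ⟨P, hPH, hE, hEo⟩ := CentTI.exists_datum hH
    have hPT : P.H = (T : Subgroup G) := hPH.trans hA
    let S : SuzukiZT.Hyp G (G ⧸ CentTI.Nn T) :=
      ⟨P, inferInstance, hPT ▸ T.2, a, hPT.symm ▸ ha, b, hPT.symm ▸ hb, hne⟩
    obtain ⟨n, hn, h1, hq⟩ := S.q_odd_pow
    have hTc : Nat.card (T : Subgroup G) = (2 ^ n) ^ 2 := by
      rw [← hPT]
      show S.h = _
      rw [S.h_eq_sq, hq]
    have hinv : invCard (T : Subgroup G) + 1 = 2 ^ n := by
      rw [← hq, S.q_eq]
      show _ = Nat.card P.E + 1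
      rw [hE]
      refine congrArg (· + 1) (Nat.card_congr (Equiv.subtypeEquivRight fun t => ?_))
      exact ⟨fun h => ⟨h.1, Subgroup.le_normalizer h.2⟩, fun h => ⟨h.1, CentTI.inv_mem_T h.2 h.1⟩⟩
    refine ⟨n, hn, h1, ?_, fun Q => ⟨?_, by rw [invCard_eq T Q, hinv], noncomm_of_noncomm T Q ⟨a, ha, b, hb, hne⟩⟩⟩
    · rw [P.card_G]
      show (S.h + 1) * S.h * S.e = _
      rw [S.h_eq_sq, show S.e = S.q - 1 from by have := S.q_eq; omega, hq]
      ring
    · rw [Q.card_eq_multiplicity, ← T.card_eq_multiplicity, hTc]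

end CfsgLib.CIT
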